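import Mathlib
import Cfsg.Prelude.Def_Sporadic_a

set_option autoImplicit false

namespace Cfsg.Agent.Lib.Lead.Steiner

open Finset

variable {α : Type*} [Fintype α] [DecidableEq α]

/-- the blocks of a set system as a finset -/
noncomputable def blocks (B : Set (Finset α)) : Finset (Finset α) :=
  haveI : DecidablePred (fun b => b ∈ B) := Classical.decPred _
  Finset.univ.filter (fun b => b ∈ B)

omit [DecidableEq α] in
theorem mem_blocks {B : Set (Finset α)} {b : Finset α} : b ∈ blocks B ↔ b ∈ B := by
  simp [blocks]

/-- the number of blocks containing a set `I` with at most `t` elements -/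
theorem card_blocks_superset {t k : ℕ} {B : Set (Finset α)} (hB : Cfsg.IsSteinerSystem t k B)
    (I : Finset α) (hI : I.card ≤ t) :
    ((blocks B).filter (fun b => I ⊆ b)).card * Nat.choose (k - I.card) (t - I.card) =
      Nat.choose (Fintype.card α - I.card) (t - I.card) := by
  classical
  have h1 := Finset.sum_card_bipartiteAbove_eq_sum_card_bipartiteBelow
    (s := (powersetCard t (univ : Finset α)).filter (fun s => I ⊆ s))
    (t := (blocks B).filter (fun b => I ⊆ b)) (fun s b => s ⊆ b)
  have hl : ∀ s ∈ (powersetCard t (univ : Finset α)).filter (fun s => I ⊆ s),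
      (((blocks B).filter (fun b => I ⊆ b)).bipartiteAbove (fun s b => s ⊆ b) s).card = 1 := by
    intro s hs
    rw [mem_filter, mem_powersetCard] at hs
    obtain ⟨b0, ⟨hb0B, hb0s⟩, huniq⟩ := hB.2 s hs.1.2
    rw [card_eq_one]
    refine ⟨b0, ?_⟩
    ext b
    simp only [bipartiteAbove, mem_filter, mem_singleton, mem_blocks]
    constructor
    · rintro ⟨⟨hbB, _⟩, hsb⟩
      exact huniq b ⟨hbB, hsb⟩
    · rintro rfl
      exact ⟨⟨hb0B, hs.2.trans hb0s⟩, hb0s⟩
  have hr : ∀ b ∈ (blocks B).filter (fun b => I ⊆ b),
      (((powersetCard t (univ : Finset α)).filter (fun s => I ⊆ s)).bipartiteBelow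
        (fun s b => s ⊆ b) b).card = Nat.choose (k - I.card) (t - I.card) := by
    intro b hb
    rw [mem_filter, mem_blocks] at hb
    have hbk : b.card = k := hB.1 b hb.1
    have : ((powersetCard t (univ : Finset α)).filter (fun s => I ⊆ s)).bipartiteBelow
        (fun s b => s ⊆ b) b = (powersetCard t b).filter (fun s => I ⊆ s) := by
      ext s
      simp only [bipartiteBelow, mem_filter, mem_powersetCard, subset_univ, true_and]
      tauto
    rw [this, card_filter_powersetCard_subset I b t hb.2 hI, hbk]
  rw [Finset.sum_congr rfl hl, Finset.sum_congr rfl hr, sum_const, sum_const, smul_eq_mul,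
    smul_eq_mul, mul_one] at h1
  rw [← h1, card_filter_powersetCard_subset I univ t (subset_univ _) hI, card_univ]

omit [Fintype α] in
/-- two distinct blocks meet in fewer than `t` points -/
theorem card_inter_lt {t k : ℕ} {B : Set (Finset α)} (hB : Cfsg.IsSteinerSystem t k B)
    {b c : Finset α} (hb : b ∈ B) (hc : c ∈ B) (hbc : b ≠ c) : (b ∩ c).card < t := by
  by_contra hlt
  push Not at hlt
  obtain ⟨s, hs, hst⟩ := Finset.exists_subset_card_eq hlt
  obtain ⟨b0, _, huniq⟩ := hB.2 s hst
  have e1 := huniq b ⟨hb, hs.trans inter_subset_left⟩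
  have e2 := huniq c ⟨hc, hs.trans inter_subset_right⟩
  exact hbc (e1.trans e2.symm)

/-- the number of blocks `c ≠ b` meeting `b` in exactly `i` points -/
noncomputable def interCount (B : Set (Finset α)) (b : Finset α) (i : ℕ) : ℕ :=
  (((blocks B).erase b).filter (fun c => (b ∩ c).card = i)).card

/-- the intersection equations for a block `b` -/
theorem inter_equations {t k : ℕ} {B : Set (Finset α)} (hB : Cfsg.IsSteinerSystem t k B)
    {b : Finset α} (hb : b ∈ B) (j : ℕ) (hj : j ≤ t) :
    (∑ i ∈ range t, interCount B b i * Nat.choose i j) * Nat.choose (k - j) (t - j) +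
      Nat.choose k j * Nat.choose (k - j) (t - j) =
    Nat.choose k j * Nat.choose (Fintype.card α - j) (t - j) := by
  classical
  have hbk : b.card = k := hB.1 b hb
  -- double counting pairs (J, c), J ⊆ b ∩ c, |J| = j
  have h1 := Finset.sum_card_bipartiteAbove_eq_sum_card_bipartiteBelow
    (s := powersetCard j b) (t := blocks B) (fun J c => J ⊆ c)
  have hl : ∀ J ∈ powersetCard j b,
      ((blocks B).bipartiteAbove (fun J c => J ⊆ c) J).card * Nat.choose (k - j) (t - j) =
        Nat.choose (Fintype.card α - j) (t - j) := by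
    intro J hJ
    rw [mem_powersetCard] at hJ
    have := card_blocks_superset hB J (by rw [hJ.2]; exact hj)
    rw [hJ.2] at this
    exact this
  have hr : ∀ c ∈ blocks B,
      ((powersetCard j b).bipartiteBelow (fun J c => J ⊆ c) c).card = Nat.choose (b ∩ c).card j := by
    intro c _
    have : (powersetCard j b).bipartiteBelow (fun J c => J ⊆ c) c = powersetCard j (b ∩ c) := by
      ext J
      simp only [bipartiteBelow, mem_filter, mem_powersetCard, subset_inter_iff]
      tauto
    rw [this, card_powersetCard]
  rw [Finset.sum_congr rfl hr] at h1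
  -- left side times the binomial
  have h2 : (∑ J ∈ powersetCard j b, ((blocks B).bipartiteAbove (fun J c => J ⊆ c) J).card) *
      Nat.choose (k - j) (t - j) = Nat.choose k j * Nat.choose (Fintype.card α - j) (t - j) := by
    rw [Finset.sum_mul, Finset.sum_congr rfl hl, sum_const, card_powersetCard, hbk, smul_eq_mul]
  rw [h1] at h2
  -- split off c = b
  have hbmem : b ∈ blocks B := mem_blocks.mpr hb
  rw [← Finset.add_sum_erase _ _ hbmem, inter_self, hbk] at h2
  -- fiberwise
  have h3 : ∑ c ∈ (blocks B).erase b, Nat.choose (b ∩ c).card j =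
      ∑ i ∈ range t, interCount B b i * Nat.choose i j := by
    have hmaps : ∀ c ∈ (blocks B).erase b, (b ∩ c).card ∈ range t := by
      intro c hc
      rw [mem_erase, mem_blocks] at hc
      rw [mem_range]
      exact card_inter_lt hB hb hc.2 (Ne.symm hc.1)
    rw [← Finset.sum_fiberwise_of_maps_to hmaps]
    apply Finset.sum_congr rfl
    intro i _
    have : ∀ c ∈ ((blocks B).erase b).filter (fun c => (b ∩ c).card = i),
        Nat.choose (b ∩ c).card j = Nat.choose i j := by
      intro c hc
      rw [mem_filter] at hc
      rw [hc.2]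
    rw [Finset.sum_congr rfl this, sum_const, smul_eq_mul]
    rfl
  rw [h3] at h2
  rw [← h2]
  ring

/-- if the count of blocks meeting `b` in `i` points vanishes, no block meets `b` in `i` points -/
theorem card_inter_ne_of_interCount_eq_zero {B : Set (Finset α)} {b c : Finset α} {i : ℕ}
    (h0 : interCount B b i = 0) (hc : c ∈ B) (hbc : b ≠ c) : (b ∩ c).card ≠ i := by
  intro hi
  rw [interCount, card_eq_zero] at h0
  have : c ∈ ((blocks B).erase b).filter (fun c => (b ∩ c).card = i) := by
    rw [mem_filter, mem_erase, mem_blocks]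
    exact ⟨⟨Ne.symm hbc, hc⟩, hi⟩
  rw [h0] at this
  exact absurd this (notMem_empty _)

end Cfsg.Agent.Lib.Lead.Steiner
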