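import Mathlib
import Cfsg.Prelude.Def_Transfer
import Cfsg.Agent.Lib.Helper2.EA
import Cfsg.Agent.Lib.Helper2.EA2
import Cfsg.Agent.Lib.Helper4.Frobenius2
import Cfsg.Agent.Lib.Helper4.ConjSub
import Cfsg.Agent.Lib.Helper4.Hall
import Cfsg.Agent.S0602

set_option autoImplicit false

universe u v

namespace Cfsg.Agent.Lib.Lead.ThompsonJ

open Cfsg Cfsg.Agent.Lib.Helper2 Cfsg.Agent.Lib.Helper4

section J
variable {G : Type u} [Group G]

/-- elementary abelian subgroups of `P` of largest order, as subgroups of the ambient group -/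
def maxEA (p : ℕ) (P : Subgroup G) : Set (Subgroup G) :=
  {A | A ≤ P ∧ IsElementaryAbelian p A ∧
    ∀ B : Subgroup G, B ≤ P → IsElementaryAbelian p B → Nat.card B ≤ Nat.card A}

/-- the Thompson subgroup of `P`, computed in the ambient group -/
def Jr (p : ℕ) (P : Subgroup G) : Subgroup G := sSup (maxEA p P)

theorem Jr_le (p : ℕ) (P : Subgroup G) : Jr p P ≤ P := sSup_le (fun _ hA => hA.1)

theorem le_Jr {p : ℕ} {P A : Subgroup G} (hA : A ∈ maxEA p P) : A ≤ Jr p P := le_sSup hA

theorem thompsonSubgroupOf_eq_Jr (p : ℕ) (P : Subgroup G) :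
    thompsonSubgroupOf p P = Jr p P := by
  unfold thompsonSubgroupOf thompsonSubgroup Jr
  apply le_antisymm
  · rw [Subgroup.map_le_iff_le_comap]
    apply sSup_le
    intro A' hA'
    rw [← Subgroup.map_le_iff_le_comap]
    apply le_sSup
    refine ⟨Subgroup.map_subtype_le _, ea_map hA'.1 P.subtype, ?_⟩
    intro B hBP hB
    rw [Subgroup.card_subtype, ← card_subgroupOf_of_le hBP]
    exact hA'.2 _ (ea_subgroupOf hB P)
  · apply sSup_le
    intro A hA
    rw [← Subgroup.map_subgroupOf_eq_of_le hA.1]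
    apply Subgroup.map_mono
    apply le_sSup
    refine ⟨ea_subgroupOf hA.2.1 P, ?_⟩
    intro B' hB'
    rw [card_subgroupOf_of_le hA.1, ← Subgroup.card_subtype P B']
    exact hA.2.2 _ (Subgroup.map_subtype_le _) (ea_map hB' P.subtype)

theorem exists_maxEA [Finite G] (p : ℕ) (P : Subgroup G) : ∃ A, A ∈ maxEA p P := by
  have : Nonempty {A : Subgroup G // A ≤ P ∧ IsElementaryAbelian p A} :=
    ⟨⟨⊥, bot_le, isElementaryAbelian_bot p⟩⟩
  obtain ⟨A, hA⟩ := Finite.exists_max
    (fun A : {A : Subgroup G // A ≤ P ∧ IsElementaryAbelian p A} => Nat.card (A : Subgroup G))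
  exact ⟨A.1, A.2.1, A.2.2, fun B hBP hB => hA ⟨B, hBP, hB⟩⟩

theorem Jr_eq_of_le [Finite G] {p : ℕ} {P H : Subgroup G} (h1 : Jr p P ≤ H) (h2 : H ≤ P) :
    Jr p H = Jr p P := by
  have hset : maxEA p H = maxEA p P := by
    obtain ⟨A₀, hA₀⟩ := exists_maxEA p P
    have hA₀H : A₀ ≤ H := le_trans (le_Jr hA₀) h1
    ext A
    constructor
    · rintro ⟨hAH, hAe, hAmax⟩
      refine ⟨le_trans hAH h2, hAe, ?_⟩
      intro B hBP hB
      exact le_trans (hA₀.2.2 B hBP hB) (hAmax A₀ hA₀H hA₀.2.1)
    · intro hA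
      refine ⟨le_trans (le_Jr hA) h1, hA.2.1, ?_⟩
      intro B hBH hB
      exact hA.2.2 B (le_trans hBH h2) hB
  unfold Jr
  rw [hset]

theorem exists_maxEA_not_le {p : ℕ} {P H : Subgroup G} (h : ¬ Jr p P ≤ H) :
    ∃ A ∈ maxEA p P, ¬ A ≤ H := by
  by_contra hcon
  push Not at hcon
  exact h (sSup_le hcon)

end J

section Jmap
variable {G : Type u} [Group G] {G' : Type v} [Group G']

theorem card_map_of_injOn {A : Subgroup G} (f : G →* G') (h : ∀ x ∈ A, f x = 1 → x = 1) :
    Nat.card (A.map f) = Nat.card A := by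
  symm
  refine Nat.card_congr (Equiv.ofBijective
    (fun a : A => (⟨f a, Subgroup.mem_map_of_mem f a.2⟩ : A.map f)) ⟨?_, ?_⟩)
  · intro a b hab
    have h1 : f (a : G) = f (b : G) := congrArg Subtype.val hab
    have h2 : f ((a : G) * (b : G)⁻¹) = 1 := by rw [map_mul, map_inv, h1, mul_inv_cancel]
    have h3 := h _ (A.mul_mem a.2 (A.inv_mem b.2)) h2
    exact Subtype.ext (mul_inv_eq_one.1 h3)
  · rintro ⟨y, x, hx, rfl⟩
    exact ⟨⟨x, hx⟩, rfl⟩

theorem ea_comap_inf {p : ℕ} {P : Subgroup G} (f : G →* G')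
    (h : ∀ x ∈ P, f x = 1 → x = 1) {A' : Subgroup G'} (hA' : IsElementaryAbelian p A') :
    IsElementaryAbelian p (A'.comap f ⊓ P) := by
  rw [isElementaryAbelian_iff] at hA' ⊢
  constructor
  · rintro a ⟨ha, haP⟩ b ⟨hb, hbP⟩
    have h1 : f a * f b = f b * f a := hA'.1 _ ha _ hb
    have h2 : f (a * b * (b * a)⁻¹) = 1 := by
      rw [map_mul, map_inv, map_mul, map_mul, h1, mul_inv_cancel]
    have h3 := h _ (P.mul_mem (P.mul_mem haP hbP) (P.inv_mem (P.mul_mem hbP haP))) h2
    exact mul_inv_eq_one.1 h3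
  · rintro a ⟨ha, haP⟩
    have h1 : f (a ^ p) = 1 := by rw [map_pow]; exact hA'.2 _ ha
    exact h _ (P.pow_mem haP p) h1

theorem map_comap_inf_eq {P : Subgroup G} (f : G →* G') {A' : Subgroup G'}
    (hA' : A' ≤ P.map f) : (A'.comap f ⊓ P).map f = A' := by
  ext y
  constructor
  · rintro ⟨x, ⟨hx, _⟩, rfl⟩
    exact hx
  · intro hy
    obtain ⟨x, hxP, rfl⟩ := hA' hy
    exact ⟨x, ⟨hy, hxP⟩, rfl⟩

theorem maxEA_map {p : ℕ} {P : Subgroup G} (f : G →* G')
    (h : ∀ x ∈ P, f x = 1 → x = 1) {A : Subgroup G} (hA : A ∈ maxEA p P) :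
    A.map f ∈ maxEA p (P.map f) := by
  refine ⟨Subgroup.map_mono hA.1, ea_map hA.2.1 f, ?_⟩
  intro B' hB'P hB'
  have h1 : (B'.comap f ⊓ P).map f = B' := map_comap_inf_eq f hB'P
  have h2 : Nat.card ((B'.comap f ⊓ P).map f) = Nat.card (B'.comap f ⊓ P : Subgroup G) :=
    card_map_of_injOn f (fun x hx => h x hx.2)
  have h3 : Nat.card (A.map f) = Nat.card A := card_map_of_injOn f (fun x hx => h x (hA.1 hx))
  rw [h3, ← h1, h2]
  exact hA.2.2 _ inf_le_right (ea_comap_inf f h hB')

theorem maxEA_comap {p : ℕ} {P : Subgroup G} (f : G →* G')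
    (h : ∀ x ∈ P, f x = 1 → x = 1) {A' : Subgroup G'} (hA' : A' ∈ maxEA p (P.map f)) :
    (A'.comap f ⊓ P) ∈ maxEA p P := by
  refine ⟨inf_le_right, ea_comap_inf f h hA'.2.1, ?_⟩
  intro B hBP hB
  have h1 : (A'.comap f ⊓ P).map f = A' := map_comap_inf_eq f hA'.1
  have h2 : Nat.card ((A'.comap f ⊓ P).map f) = Nat.card (A'.comap f ⊓ P : Subgroup G) :=
    card_map_of_injOn f (fun x hx => h x hx.2)
  have h3 : Nat.card (B.map f) = Nat.card B := card_map_of_injOn f (fun x hx => h x (hBP hx))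
  rw [← h2, h1, ← h3]
  exact hA'.2.2 _ (Subgroup.map_mono hBP) (ea_map hB f)

theorem Jr_map {p : ℕ} {P : Subgroup G} (f : G →* G')
    (h : ∀ x ∈ P, f x = 1 → x = 1) : Jr p (P.map f) = (Jr p P).map f := by
  apply le_antisymm
  · apply sSup_le
    intro A' hA'
    rw [← map_comap_inf_eq f hA'.1]
    exact Subgroup.map_mono (le_Jr (maxEA_comap f h hA'))
  · rw [Subgroup.map_le_iff_le_comap]
    apply sSup_le
    intro A hA
    rw [← Subgroup.map_le_iff_le_comap]
    exact le_Jr (maxEA_map f h hA)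

end Jmap

section Jconj
variable {G : Type u} [Group G]

theorem Jr_cj (p : ℕ) (g : G) (P : Subgroup G) : Jr p (cj g P) = cj g (Jr p P) :=
  Jr_map (MulAut.conj g).toMonoidHom (fun x _ hx => by
    have := (MulAut.conj g).injective (a₁ := x) (a₂ := 1) (by simpa using hx)
    exact this)

theorem normalizer_le_normalizer_Jr (p : ℕ) (P : Subgroup G) :
    Subgroup.normalizer (P : Set G) ≤ Subgroup.normalizer (Jr p P : Set G) := by
  intro g hg
  rw [Subgroup.mem_normalizer_iff_map_conj_eq] at hg ⊢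
  have hg' : cj g P = P := hg
  have h1 := Jr_cj p g P
  rw [hg'] at h1
  exact h1.symm

theorem Jr_ne_bot [Finite G] {p : ℕ} [Fact p.Prime] {P : Subgroup G} (hP : IsPGroup p P)
    (h : P ≠ ⊥) : Jr p P ≠ ⊥ := by
  rw [← thompsonSubgroupOf_eq_Jr]
  unfold thompsonSubgroupOf
  intro hbot
  rw [Subgroup.map_eq_bot_iff_of_injective _ (Subgroup.subtype_injective P)] at hbot
  have hdvd : p ∣ Nat.card P := by
    obtain ⟨n, hn⟩ := (IsPGroup.iff_card).1 hP
    rcases Nat.eq_zero_or_pos n with rfl | hpos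
    · rw [pow_zero, Subgroup.card_eq_one] at hn
      exact absurd hn h
    · rw [hn]; exact dvd_pow_self p hpos.ne'
  exact (Cfsg.Agent.S0602.result (G := ↥P) (p := p)).2 hdvd hbot

end Jconj

section npc
variable {p : ℕ} [hp : Fact p.Prime]

theorem npc_of_injective {A : Type u} {B : Type v} [Group A] [Group B] [Finite A] [Finite B]
    (f : A →* B) (hf : Function.Injective f) (h : HasNormalPComplement p B) :
    HasNormalPComplement p A := by
  obtain ⟨K, hKn, hc, hq⟩ := exists_normal_hall_of_hasNormalPComplement p h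
  have hmem := mem_iff_coprime_of_normal_hall p K hc hq
  have : (K.comap f).Normal := hKn.comap f
  refine hasNormalPComplement_of_normal_hall p (K.comap f) ?_ ?_
  · have h1 : Nat.card (K.comap f) = Nat.card ((K.comap f).map f) :=
      (Subgroup.card_map_of_injective hf).symm
    have h2 : (K.comap f).map f ≤ K := Subgroup.map_comap_le f K
    rw [h1]
    exact Nat.Coprime.coprime_dvd_left (Subgroup.card_dvd_of_le h2) hc
  · apply isPGroup_quotient_of_coprime_mem
    intro g hg
    rw [Subgroup.mem_comap, hmem, orderOf_injective f hf]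
    exact hg

theorem npc_of_surjective {A : Type u} {B : Type v} [Group A] [Group B] [Finite A] [Finite B]
    (f : A →* B) (hf : Function.Surjective f) (h : HasNormalPComplement p A) :
    HasNormalPComplement p B := by
  obtain ⟨K, hKn, hc, hq⟩ := exists_normal_hall_of_hasNormalPComplement p h
  have : (K.map f).Normal := hKn.map f hf
  refine hasNormalPComplement_of_normal_hall p (K.map f) ?_ ?_
  · exact Nat.Coprime.coprime_dvd_left (Subgroup.card_map_dvd K f) hc
  · have hle : K ≤ (K.map f).comap f := Subgroup.le_comap_map f K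
    have hsurj : Function.Surjective (QuotientGroup.map K (K.map f) f hle) := by
      intro y
      induction y using QuotientGroup.induction_on with
      | H b =>
        obtain ⟨a, rfl⟩ := hf b
        exact ⟨(a : A ⧸ K), rfl⟩
    exact hq.of_surjective _ hsurj

theorem npc_of_card_coprime {A : Type u} [Group A] [Finite A] (h : (Nat.card A).Coprime p) :
    HasNormalPComplement p A := by
  refine hasNormalPComplement_of_normal_hall p (⊤ : Subgroup A) ?_ ?_
  · rw [Subgroup.card_top]; exact h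
  · apply isPGroup_quotient_of_coprime_mem
    intro g _
    exact Subgroup.mem_top g

theorem npc_of_isPGroup {A : Type u} [Group A] [Finite A] (h : IsPGroup p A) :
    HasNormalPComplement p A := by
  refine hasNormalPComplement_of_normal_hall p (⊥ : Subgroup A) ?_ ?_
  · rw [Subgroup.card_bot]; exact Nat.coprime_one_left p
  · exact h.to_quotient ⊥

/-- lifting a normal `p`-complement through a normal `p'`-subgroup -/
theorem npc_of_quotient {A : Type u} [Group A] [Finite A] (N : Subgroup A) [N.Normal]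
    (hN : (Nat.card N).Coprime p) (h : HasNormalPComplement p (A ⧸ N)) :
    HasNormalPComplement p A := by
  obtain ⟨K, hKn, hc, hq⟩ := exists_normal_hall_of_hasNormalPComplement p h
  have hmem := mem_iff_coprime_of_normal_hall p K hc hq
  have : (K.comap (QuotientGroup.mk' N)).Normal := hKn.comap _
  refine hasNormalPComplement_of_normal_hall p (K.comap (QuotientGroup.mk' N)) ?_ ?_
  · have h1 : Nat.card (K.comap (QuotientGroup.mk' N)) = Nat.card K * Nat.card N :=
      card_comap_mk_quot N K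
    rw [h1]
    exact Nat.Coprime.mul_left hc hN
  · apply isPGroup_quotient_of_coprime_mem
    intro g hg
    rw [Subgroup.mem_comap, hmem]
    exact Nat.Coprime.coprime_dvd_left (orderOf_map_dvd (QuotientGroup.mk' N) g) hg

end npc

end Cfsg.Agent.Lib.Lead.ThompsonJ
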