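import Mathlib
import Cfsg.Prelude.Def_OddOrderLocal
import Cfsg.Agent.S0012

set_option autoImplicit false

namespace Cfsg.Agent.Lib.Lead.Metacyclic

open Cfsg

universe u

theorem isMetacyclic_subgroup {R : Type u} [Group R] (h : IsMetacyclic R) (T : Subgroup R) :
    IsMetacyclic T := by
  obtain ⟨N, hN, hc1, hc2⟩ := h
  refine ⟨N.subgroupOf T, hN.subgroupOf T, ?_, ?_⟩
  · let f : (N.subgroupOf T) →* N :=
      { toFun := fun x => ⟨x.1.1, x.2⟩
        map_one' := rfl
        map_mul' := fun _ _ => rfl }
    apply isCyclic_of_injective f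
    intro a b hab
    have := congrArg (fun z : N => (z : R)) hab
    exact Subtype.ext (Subtype.ext this)
  · have hle : N.subgroupOf T ≤ N.comap T.subtype := fun x hx => hx
    let f : (T ⧸ N.subgroupOf T) →* (R ⧸ N) := QuotientGroup.map _ _ T.subtype hle
    apply isCyclic_of_injective f
    rw [injective_iff_map_eq_one]
    intro a ha
    induction a using QuotientGroup.induction_on with
    | H t =>
      have h1 : f (QuotientGroup.mk t) = QuotientGroup.mk (t : R) := rfl
      rw [h1, QuotientGroup.eq_one_iff] at ha
      rw [QuotientGroup.eq_one_iff]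
      exact ha

theorem isMetacyclic_of_mulEquiv {R R' : Type u} [Group R] [Group R'] (e : R ≃* R')
    (h : IsMetacyclic R) : IsMetacyclic R' := by
  obtain ⟨N, hN, hc1, hc2⟩ := h
  have hN' : (N.map e.toMonoidHom).Normal := hN.map e.toMonoidHom e.surjective
  refine ⟨N.map e.toMonoidHom, hN', ?_, ?_⟩
  · exact isCyclic_of_surjective (N.equivMapOfInjective e.toMonoidHom e.injective).toMonoidHom
      (N.equivMapOfInjective e.toMonoidHom e.injective).surjective
  · have hle : N ≤ (N.map e.toMonoidHom).comap e.toMonoidHom := Subgroup.le_comap_map _ _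
    let f : (R ⧸ N) →* (R' ⧸ N.map e.toMonoidHom) := QuotientGroup.map _ _ e.toMonoidHom hle
    apply isCyclic_of_surjective f
    intro b
    induction b using QuotientGroup.induction_on with
    | H t =>
      exact ⟨QuotientGroup.mk (e.symm t), by
        show QuotientGroup.mk (e (e.symm t)) = _
        rw [e.apply_symm_apply]⟩

/-- a finite cyclic group of exponent dividing `p` has order dividing `p` -/
theorem card_dvd_of_cyclic_of_exp {C : Type*} [Group C] [Finite C] [hC : IsCyclic C] (p : ℕ)
    (h : ∀ x : C, x ^ p = 1) : Nat.card C ∣ p := by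
  obtain ⟨g, hg⟩ := hC.exists_generator
  have h1 : orderOf g = Nat.card C := orderOf_eq_card_of_forall_mem_zpowers hg
  rw [← h1]
  exact orderOf_dvd_of_pow_eq_one (h g)

theorem frattini_index_dvd {Q : Type*} [Group Q] [Finite Q] (p : ℕ) [Fact p.Prime]
    (hQ : IsPGroup p Q) (h : IsMetacyclic Q) : (frattini Q).index ∣ p ^ 2 := by
  obtain ⟨N, hN, hc1, hc2⟩ := h
  obtain ⟨hcomm, hpow⟩ := Cfsg.Agent.S0012.result p hQ
  have hsurj := QuotientGroup.mk'_surjective (frattini Q)
  have hVexp : ∀ x : Q ⧸ frattini Q, x ^ p = 1 := by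
    intro x
    induction x using QuotientGroup.induction_on with
    | H a =>
      rw [← QuotientGroup.mk_pow, QuotientGroup.eq_one_iff]
      exact hpow a
  set Nb : Subgroup (Q ⧸ frattini Q) := N.map (QuotientGroup.mk' (frattini Q)) with hNb
  have hNbn : Nb.Normal := hN.map _ hsurj
  have h1 : Nat.card Nb ∣ p := by
    have hcyc : IsCyclic Nb := by
      let f : N →* Nb := ((QuotientGroup.mk' (frattini Q)).subgroupMap N)
      exact isCyclic_of_surjective f ((QuotientGroup.mk' (frattini Q)).subgroupMap_surjective N)
    apply card_dvd_of_cyclic_of_exp p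
    intro x
    apply Subtype.ext
    simpa using hVexp x.1
  have h2 : Nb.index ∣ p := by
    rw [Subgroup.index_eq_card]
    have hle : N ≤ Nb.comap (QuotientGroup.mk' (frattini Q)) := Subgroup.le_comap_map _ _
    let f : (Q ⧸ N) →* ((Q ⧸ frattini Q) ⧸ Nb) := QuotientGroup.map _ _ (QuotientGroup.mk' (frattini Q)) hle
    have hf : Function.Surjective f := by
      intro b
      induction b using QuotientGroup.induction_on with
      | H t =>
        induction t using QuotientGroup.induction_on with
        | H u => exact ⟨QuotientGroup.mk u, rfl⟩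
    have hcyc : IsCyclic ((Q ⧸ frattini Q) ⧸ Nb) := isCyclic_of_surjective f hf
    apply card_dvd_of_cyclic_of_exp p
    intro x
    induction x using QuotientGroup.induction_on with
    | H t =>
      rw [← QuotientGroup.mk_pow, hVexp t]
      rfl
  have h3 : Nat.card (Q ⧸ frattini Q) = Nat.card Nb * Nb.index := (Subgroup.card_mul_index Nb).symm
  rw [Subgroup.index_eq_card, h3, sq]
  exact Nat.mul_dvd_mul h1 h2

end Cfsg.Agent.Lib.Lead.Metacyclic
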