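import Mathlib

set_option autoImplicit false

namespace Cfsg.Agent.Lib.Lead

universe u

/-- A free action of a finite group on a finite set: the group order divides the size of the set. -/
theorem card_dvd_card_of_free {H S : Type*} [Group H] [Finite H] [MulAction H S] [Finite S]
    (hfree : ∀ (s : S) (h : H), h • s = s → h = 1) : Nat.card H ∣ Nat.card S := by
  classical
  let _ : Fintype (MulAction.orbitRel.Quotient H S) := Fintype.ofFinite _
  have e := MulAction.selfEquivSigmaOrbits' H S
  rw [Nat.card_congr e, Nat.card_sigma]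
  apply Finset.dvd_sum
  intro ω _
  induction ω using Quotient.inductionOn' with
  | h s =>
    rw [MulAction.orbitRel.Quotient.orbit_mk]
    have h2 : MulAction.stabilizer H s = ⊥ := by
      rw [eq_bot_iff]
      intro h hh
      rw [Subgroup.mem_bot]
      exact hfree s h hh
    have h1 := MulAction.index_stabilizer H s
    rw [h2, Subgroup.index_bot] at h1
    rw [h1, Nat.card_coe_set_eq]

/-- A group of order `p ^ r` is generated by `r` elements. -/
theorem exists_generators_of_card_prime_pow (p : ℕ) [Fact p.Prime] :
    ∀ (r : ℕ) (G : Type u) [Group G] [Finite G], Nat.card G = p ^ r →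
      ∃ x : Fin r → G, Subgroup.closure (Set.range x) = ⊤ := by
  intro r
  induction r with
  | zero =>
    intro G _ _ hG
    rw [pow_zero] at hG
    have : Subsingleton G := (Nat.card_eq_one_iff_unique.1 hG).1
    exact ⟨fun i => 1, Subsingleton.elim _ _⟩
  | succ r ih =>
    intro G _ _ hG
    obtain ⟨H, hH⟩ := Sylow.exists_subgroup_card_pow_prime (G := G) p (n := r)
      (by rw [hG]; exact pow_dvd_pow p (Nat.le_succ r))
    obtain ⟨x', hx'⟩ := ih H hH
    have hHne : H ≠ ⊤ := by
      intro h
      rw [h, Subgroup.card_top, hG] at hH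
      have hp := (Fact.out : p.Prime).one_lt
      have := Nat.pow_lt_pow_right hp (Nat.lt_succ_self r)
      exact this.ne' hH
    obtain ⟨g, hg⟩ : ∃ g : G, g ∉ H := by
      by_contra hcon
      push Not at hcon
      exact hHne (eq_top_iff.2 fun g _ => hcon g)
    refine ⟨Fin.snoc (fun i => (x' i : G)) g, ?_⟩
    set K := Subgroup.closure (Set.range (Fin.snoc (fun i => (x' i : G)) g : Fin (r + 1) → G))
      with hK
    have hHK : H ≤ K := by
      have h1 : (Subgroup.closure (Set.range x')).map H.subtype = H := by
        rw [hx', ← MonoidHom.range_eq_map, Subgroup.range_subtype]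
      rw [← h1, MonoidHom.map_closure, Subgroup.closure_le]
      rintro _ ⟨_, ⟨i, rfl⟩, rfl⟩
      apply Subgroup.subset_closure
      exact ⟨Fin.castSucc i, by simp⟩
    have hgK : g ∈ K := by
      apply Subgroup.subset_closure
      exact ⟨Fin.last r, by simp⟩
    -- K has order a power of p, larger than |H|
    have hKdvd : Nat.card K ∣ p ^ (r + 1) := by rw [← hG]; exact Subgroup.card_subgroup_dvd_card K
    obtain ⟨j, hj, hKj⟩ := (Nat.dvd_prime_pow (Fact.out : p.Prime)).1 hKdvd
    have hlt : Nat.card H < Nat.card K := by
      have hle : Nat.card H ≤ Nat.card K := Subgroup.card_le_of_le hHK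
      rcases hle.lt_or_eq with h | h
      · exact h
      · exfalso
        have : H = K := Subgroup.eq_of_le_of_card_ge hHK h.ge
        exact hg (this ▸ hgK)
    rw [hH, hKj] at hlt
    have hj' : r < j := (Nat.pow_lt_pow_iff_right (Fact.out : p.Prime).one_lt).1 hlt
    have : j = r + 1 := by omega
    apply Subgroup.eq_top_of_card_eq
    rw [hKj, this, hG]

/-- Lifting generators through the Frattini quotient. -/
theorem exists_generators_of_frattini_index {P : Type u} [Group P] [Finite P] (p r : ℕ)
    [Fact p.Prime] (hr : (frattini P).index = p ^ r) :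
    ∃ y : Fin r → P, Subgroup.closure (Set.range y) = ⊤ := by
  have hcard : Nat.card (P ⧸ frattini P) = p ^ r := by rw [← Subgroup.index_eq_card, hr]
  obtain ⟨x, hx⟩ := exists_generators_of_card_prime_pow p r (P ⧸ frattini P) hcard
  refine ⟨fun i => (x i).out, ?_⟩
  apply frattini_nongenerating
  have h1 : (Subgroup.closure (Set.range fun i => (x i).out)).map (QuotientGroup.mk' (frattini P)) = ⊤ := by
    rw [MonoidHom.map_closure, ← hx]
    congr 1
    ext q
    constructor
    · rintro ⟨_, ⟨i, rfl⟩, rfl⟩
      exact ⟨i, by simp⟩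
    · rintro ⟨i, rfl⟩
      exact ⟨(x i).out, ⟨i, rfl⟩, by simp⟩
  have h2 := Subgroup.comap_map_eq (QuotientGroup.mk' (frattini P))
    (Subgroup.closure (Set.range fun i => (x i).out))
  rw [h1, Subgroup.comap_top, QuotientGroup.ker_mk'] at h2
  exact h2.symm

end Cfsg.Agent.Lib.Lead
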