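import Mathlib
import Cfsg.Agent.Lib.Lead.FrattiniGen

set_option autoImplicit false

namespace Cfsg.Agent.Lib.Lead

section
variable {V : Type*} [CommGroup V] (p r : ℕ) [Fact p.Prime] [Module (ZMod p) (Additive V)]
  [Finite V]

local notation "W" => Additive V

theorem card_addAut_dvd (hcard : Nat.card W = p ^ r) :
    Nat.card (MulAut V) ∣ ∏ i ∈ Finset.range r, (p ^ r - p ^ i) := by
  classical
  have hfr : Module.finrank (ZMod p) W = r := by
    have h1 := @Module.natCard_eq_pow_finrank (ZMod p) W _ _ _ Module.Finite.of_finite
    rw [Nat.card_zmod, hcard] at h1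
    exact (Nat.pow_right_injective (Fact.out : p.Prime).two_le h1).symm
  have hB : Nat.card {s : Fin r → W // LinearIndependent (ZMod p) s} =
      ∏ i : Fin r, (p ^ r - p ^ (i : ℕ)) := by
    have h1 := @card_linearIndependent (ZMod p) W _ _ _ _ _ r (le_of_eq hfr.symm)
    rw [h1, hfr, ZMod.card]
  let toLin (α : MulAut V) : W →ₗ[ZMod p] W :=
    (MulEquiv.toAdditive α).toAddMonoidHom.toZModLinearMap p
  have htoLin : ∀ (α : MulAut V) (w : W), toLin α w = Additive.ofMul (α w.toMul) :=
    fun α w => rfl
  have hker : ∀ α : MulAut V, LinearMap.ker (toLin α) = ⊥ := by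
    intro α
    rw [LinearMap.ker_eq_bot]
    intro a b hab
    rw [htoLin, htoLin] at hab
    have := α.injective (Additive.ofMul.injective hab)
    exact Additive.toMul.injective this
  let _ : MulAction (MulAut V) {s : Fin r → W // LinearIndependent (ZMod p) s} :=
    { smul := fun α s => ⟨fun i => toLin α (s.1 i), s.2.map' (toLin α) (hker α)⟩
      one_smul := by
        rintro ⟨s, hs⟩
        apply Subtype.ext
        funext i
        rfl
      mul_smul := by
        rintro α β ⟨s, hs⟩
        apply Subtype.ext
        funext i
        rfl }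
  have hsmul : ∀ (α : MulAut V) (s : {s : Fin r → W // LinearIndependent (ZMod p) s})
      (i : Fin r), (α • s).1 i = toLin α (s.1 i) := fun α s i => rfl
  have hfree : ∀ (s : {s : Fin r → W // LinearIndependent (ZMod p) s}) (α : MulAut V),
      α • s = s → α = 1 := by
    intro s α h
    have hspan : Submodule.span (ZMod p) (Set.range s.1) = ⊤ :=
      s.2.span_eq_top_of_card_eq_finrank' (by rw [Fintype.card_fin, hfr])
    have h1 : toLin α = LinearMap.id := by
      apply LinearMap.ext_on hspan
      rintro _ ⟨i, rfl⟩
      have := congrArg (fun t => t.1 i) h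
      simpa [hsmul] using this
    ext v
    have := congrArg (fun f => f (Additive.ofMul v)) h1
    simp only [htoLin, LinearMap.id_apply] at this
    exact Additive.ofMul.injective this
  have hdvd := card_dvd_card_of_free hfree
  rw [hB] at hdvd
  rw [Finset.prod_range]
  exact hdvd

end

/-- The automorphism group of an elementary abelian group of order `p ^ r` has order dividing
`∏ (p ^ r - p ^ i)`. -/
theorem card_mulAut_dvd_of_elementary {V : Type*} [CommGroup V] [Finite V] (p r : ℕ) [Fact p.Prime]
    (hexp : ∀ x : V, x ^ p = 1) (hcard : Nat.card V = p ^ r) :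
    Nat.card (MulAut V) ∣ ∏ i ∈ Finset.range r, (p ^ r - p ^ i) := by
  let _ : Module (ZMod p) (Additive V) := AddCommGroup.zmodModule (n := p) (fun x => by
      show p • x = 0
      exact congrArg Additive.ofMul (hexp x.toMul))
  exact card_addAut_dvd (V := V) p r hcard

/-- The action of `Aut P` on the Frattini quotient. -/
noncomputable def frattiniQuotAut (P : Type*) [Group P] : MulAut P →* MulAut (P ⧸ frattini P) where
  toFun α := QuotientGroup.congr (frattini P) (frattini P) α
    (Subgroup.characteristic_iff_map_eq.mp inferInstance α)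
  map_one' := by
    ext x
    induction x using QuotientGroup.induction_on
    rfl
  map_mul' := by
    intro α β
    ext x
    induction x using QuotientGroup.induction_on
    rfl

theorem frattiniQuotAut_mk (P : Type*) [Group P] (α : MulAut P) (x : P) :
    frattiniQuotAut P α (QuotientGroup.mk x) = QuotientGroup.mk (α x) := rfl

end Cfsg.Agent.Lib.Lead
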