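import Mathlib
import Cfsg.Agent.S0012
import Cfsg.Agent.S4207
import Cfsg.Agent.Lib.Lead.AutElemAb

set_option autoImplicit false

namespace Cfsg.Agent.Lib.Lead

open scoped commutatorElement

theorem card_mulAut_frattini_quot_dvd {P : Type*} [Group P] [Finite P] {p n r : ℕ} [Fact p.Prime]
    (hP : Nat.card P = p ^ n) (hr : (frattini P).index = p ^ r) :
    Nat.card (MulAut (P ⧸ frattini P)) ∣ ∏ i ∈ Finset.range r, (p ^ r - p ^ i) := by
  classical
  have hpg : IsPGroup p P := IsPGroup.of_card hP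
  obtain ⟨hcomm, hpow⟩ := Cfsg.Agent.S0012.result p hpg
  have hVcomm : ∀ x y : P ⧸ frattini P, x * y = y * x := by
    intro x y
    induction x using QuotientGroup.induction_on with
    | H a =>
      induction y using QuotientGroup.induction_on with
      | H b =>
        rw [← QuotientGroup.mk_mul, ← QuotientGroup.mk_mul, QuotientGroup.eq]
        apply hcomm
        have h1 : (a * b)⁻¹ * (b * a) = ⁅b⁻¹, a⁻¹⁆ := by
          rw [commutatorElement_def]; group
        rw [h1, commutator_def]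
        exact Subgroup.commutator_mem_commutator (Subgroup.mem_top _) (Subgroup.mem_top _)
  let _ : CommGroup (P ⧸ frattini P) :=
    { (inferInstance : Group (P ⧸ frattini P)) with mul_comm := hVcomm }
  have hVexp : ∀ x : P ⧸ frattini P, x ^ p = 1 := by
    intro x
    induction x using QuotientGroup.induction_on with
    | H a =>
      rw [← QuotientGroup.mk_pow, QuotientGroup.eq_one_iff]
      exact hpow a
  have hVcard : Nat.card (P ⧸ frattini P) = p ^ r := by
    rw [← Subgroup.index_eq_card, hr]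
  exact card_mulAut_dvd_of_elementary (V := P ⧸ frattini P) p r hVexp hVcard

theorem orderOf_mulAut_dvd {P : Type*} [Group P] [Finite P] {p n r : ℕ} [Fact p.Prime]
    (hP : Nat.card P = p ^ n) (hr : (frattini P).index = p ^ r) (α : MulAut P)
    (hα : (orderOf α).Coprime p) :
    orderOf α ∣ ∏ i ∈ Finset.range r, (p ^ r - p ^ i) := by
  set ρ := frattiniQuotAut P with hρ
  set k := orderOf (ρ α) with hk
  have hkdvd : k ∣ ∏ i ∈ Finset.range r, (p ^ r - p ^ i) :=
    (orderOf_dvd_natCard _).trans (card_mulAut_frattini_quot_dvd hP hr)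
  have hβ : α ^ k ∈ ρ.ker := by
    rw [MonoidHom.mem_ker, map_pow, hk, pow_orderOf_eq_one]
  have hker : Nat.card ρ.ker ∣ p ^ (r * (n - r)) := by
    apply Cfsg.Agent.S4207.result hP hr ρ.ker
    intro γ hγ x
    rw [MonoidHom.mem_ker] at hγ
    have h2 := frattiniQuotAut_mk P γ x
    rw [← hρ, hγ, MulAut.one_apply] at h2
    rw [← QuotientGroup.eq_one_iff, QuotientGroup.mk_mul, QuotientGroup.mk_inv, ← h2]
    exact mul_inv_cancel _
  have h1 : orderOf (α ^ k) ∣ p ^ (r * (n - r)) := by
    have := orderOf_dvd_natCard (⟨α ^ k, hβ⟩ : ρ.ker)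
    rw [Subgroup.orderOf_mk] at this
    exact this.trans hker
  have h2 : orderOf (α ^ k) ∣ orderOf α := orderOf_pow_dvd k
  have h3 : orderOf (α ^ k) = 1 :=
    Nat.eq_one_of_dvd_coprimes (hα.pow_right _) h2 h1
  have h4 : α ^ k = 1 := orderOf_eq_one_iff.mp h3
  exact (orderOf_dvd_of_pow_eq_one h4).trans hkdvd

theorem prime_dvd_sq_sub_one {p r ℓ : ℕ} (hp : p.Prime) (hℓ : ℓ.Prime) (hne : ℓ ≠ p) (hr : r ≤ 2)
    (h : ℓ ∣ ∏ i ∈ Finset.range r, (p ^ r - p ^ i)) : ℓ ∣ p ^ 2 - 1 := by
  have hp1 : 1 ≤ p := hp.one_lt.le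
  have hfac : p ^ 2 - 1 = (p - 1) * (p + 1) := by
    obtain ⟨m, rfl⟩ : ∃ m, p = m + 1 := ⟨p - 1, by omega⟩
    simp only [Nat.add_sub_cancel]
    have : (m + 1) ^ 2 = m * (m + 1 + 1) + 1 := by ring
    rw [this, Nat.add_sub_cancel]
  interval_cases r
  · simp at h
    exact absurd h hℓ.one_lt.ne'
  · simp at h
    rw [hfac]
    exact h.mul_right _
  · rw [Finset.prod_range_succ, Finset.prod_range_one] at h
    simp only [pow_zero, pow_one] at h
    rcases (Nat.Prime.dvd_mul hℓ).mp h with h1 | h1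
    · exact h1
    · have : p ^ 2 - p = p * (p - 1) := by
        obtain ⟨m, rfl⟩ : ∃ m, p = m + 1 := ⟨p - 1, by omega⟩
        simp only [Nat.add_sub_cancel]
        have : (m + 1) ^ 2 = (m + 1) * m + (m + 1) := by ring
        rw [this, Nat.add_sub_cancel]
      rw [this] at h1
      rcases (Nat.Prime.dvd_mul hℓ).mp h1 with h2 | h2
      · exact absurd ((Nat.prime_dvd_prime_iff_eq hℓ hp).mp h2) hne
      · rw [hfac]
        exact h2.mul_right _

end Cfsg.Agent.Lib.Lead
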