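import Mathlib
import Cfsg.Prelude.Def_PLocal
import Cfsg.Agent.S0623
import Cfsg.Agent.S0542
import Cfsg.Agent.Lib.Lead.ThompsonJ
import Cfsg.Agent.Lib.Helper1.Fitting
import Cfsg.Agent.Lib.Helper3.CharP
import Cfsg.Agent.Lib.Helper3.FrattiniFaithful
import Cfsg.Agent.Lib.Helper3.NormAux
import Cfsg.Agent.Lib.Helper3.Transport
import Cfsg.Agent.Lib.Helper4.Replacement

set_option autoImplicit false
set_option linter.style.haveILetI false
set_option linter.unusedVariables false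
set_option linter.unusedSectionVars false
open scoped commutatorElement

universe u

namespace Cfsg.Agent.Lib.Lead.StableW

open Cfsg

theorem ea_closure {G : Type*} [Group G] (p : ℕ) (E : Set G)
    (hc : ∀ a ∈ E, ∀ b ∈ E, a * b = b * a) (hp : ∀ a ∈ E, a ^ p = 1) :
    (∀ a ∈ Subgroup.closure E, ∀ b ∈ Subgroup.closure E, a * b = b * a) ∧
      ∀ a ∈ Subgroup.closure E, a ^ p = 1 := by
  have h1 : Subgroup.closure E ≤ Subgroup.centralizer E := by
    rw [Subgroup.closure_le]
    intro e he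
    rw [SetLike.mem_coe, Subgroup.mem_centralizer_iff]
    intro h hh
    exact hc h hh e he
  have h2 : Subgroup.closure E ≤ Subgroup.centralizer (Subgroup.closure E : Set G) := by
    rw [Subgroup.centralizer_closure]; exact h1
  have hcomm : ∀ a ∈ Subgroup.closure E, ∀ b ∈ Subgroup.closure E, a * b = b * a := by
    intro a ha b hb
    exact (Subgroup.mem_centralizer_iff.mp (h2 hb)) a ha
  refine ⟨hcomm, ?_⟩
  intro a ha
  induction ha using Subgroup.closure_induction with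
  | mem x hx => exact hp x hx
  | one => exact one_pow p
  | mul x y hx hy ihx ihy =>
    have hxy : Commute x y := hcomm x hx y hy
    rw [hxy.mul_pow, ihx, ihy, one_mul]
  | inv x hx ihx => rw [inv_pow, ihx, inv_one]

theorem conj_closure_mem' {G : Type*} [Group G] (E : Set G) (x : G)
    (hE : ∀ q ∈ E, x * q * x⁻¹ ∈ E) :
    ∀ y ∈ Subgroup.closure E, x * y * x⁻¹ ∈ Subgroup.closure E := by
  intro y hy
  induction hy using Subgroup.closure_induction with
  | mem q hq => exact Subgroup.subset_closure (hE q hq)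
  | one =>
    have : x * 1 * x⁻¹ = 1 := by group
    rw [this]; exact Subgroup.one_mem _
  | mul a b _ _ iha ihb =>
    have : x * (a * b) * x⁻¹ = (x * a * x⁻¹) * (x * b * x⁻¹) := by group
    rw [this]; exact Subgroup.mul_mem _ iha ihb
  | inv a _ iha =>
    have : x * a⁻¹ * x⁻¹ = (x * a * x⁻¹)⁻¹ := by group
    rw [this]; exact Subgroup.inv_mem _ iha

section snc
variable {S : Type u} [Group S] [Finite S] {p : ℕ}

theorem snc_le_omega : stableNormalClosure p S ≤ omegaCenterThompson p S :=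
  sInf_le ⟨S0623.omegaCenter_le p S,
    fun H _ τ hτ => S0623.omegaCenter_map_normal τ hτ.1 hτ.2.2.2.2.1⟩

theorem snc_map_normal {H : Type u} [Group H] (τ : S →* H) (hτ : IsStableEmbedding p τ) :
    ((stableNormalClosure p S).map τ).Normal := by
  have hinj : Function.Injective τ := hτ.1
  refine ⟨fun n hn h => ?_⟩
  obtain ⟨x, hx, rfl⟩ := Subgroup.mem_map.mp hn
  have hΩn : ((omegaCenterThompson p S).map τ).Normal :=
    S0623.omegaCenter_map_normal τ hinj hτ.2.2.2.2.1
  have hxΩ : x ∈ omegaCenterThompson p S := snc_le_omega hx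
  have h1 : h * τ x * h⁻¹ ∈ (omegaCenterThompson p S).map τ :=
    hΩn.conj_mem _ (Subgroup.mem_map_of_mem τ hxΩ) h
  obtain ⟨y, hy, hyx⟩ := Subgroup.mem_map.mp h1
  refine Subgroup.mem_map.mpr ⟨y, ?_, hyx⟩
  unfold stableNormalClosure
  rw [Subgroup.mem_sInf]
  intro W' hW'
  have hxW' : x ∈ W' := by
    have h3 : stableNormalClosure p S ≤ W' := sInf_le hW'
    exact h3 hx
  have h2 : h * τ x * h⁻¹ ∈ W'.map τ :=
    (hW'.2 H τ hτ).conj_mem _ (Subgroup.mem_map_of_mem τ hxW') h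
  obtain ⟨y', hy', e⟩ := Subgroup.mem_map.mp h2
  have h4 : y' = y := hinj (e.trans hyx.symm)
  rw [← h4]; exact hy'

end snc

section emb
variable {G : Type u} [Group G] [Finite G] {p : ℕ} [Fact p.Prime]

/-- the Thompson subgroup of a Sylow subgroup inside `G` -/
abbrev JJ (p : ℕ) (P : Sylow p G) : Subgroup G := thompsonSubgroupOf p (P : Subgroup G)

/-- its normalizer -/
abbrev NN (p : ℕ) (P : Sylow p G) : Subgroup G := Subgroup.normalizer (JJ p P : Set G)

theorem le_NN (p : ℕ) (P : Sylow p G) : (P : Subgroup G) ≤ NN p P := by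
  show (P : Subgroup G) ≤ Subgroup.normalizer (thompsonSubgroupOf p (P : Subgroup G) : Set G)
  rw [ThompsonJ.thompsonSubgroupOf_eq_Jr]
  exact Subgroup.le_normalizer.trans (ThompsonJ.normalizer_le_normalizer_Jr p _)

theorem map_inclusion_eq {A B : Subgroup G} (h : A ≤ B) (X : Subgroup ↥A) :
    X.map (Subgroup.inclusion h) = (X.map A.subtype).subgroupOf B := by
  ext y
  rw [Subgroup.mem_subgroupOf]
  constructor
  · rintro ⟨x, hx, rfl⟩
    exact ⟨x, hx, rfl⟩
  · rintro ⟨x, hx, hxy⟩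
    exact ⟨x, hx, Subtype.ext hxy⟩

theorem map_map_inclusion {A B : Subgroup G} (h : A ≤ B) (X : Subgroup ↥A) :
    (X.map (Subgroup.inclusion h)).map B.subtype = X.map A.subtype := by
  rw [Subgroup.map_map, Subgroup.subtype_comp_inclusion]

theorem stable_embedding (hst : IsActionPStable p G)
    (hc : Subgroup.centralizer (pCore p G : Set G) ≤ pCore p G) (P : Sylow p G) :
    IsStableEmbedding p (Subgroup.inclusion (le_NN p P)) := by
  classical
  refine ⟨Subgroup.inclusion_injective _, inferInstance, ?_, ?_, ?_, ?_⟩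
  · refine ⟨P.subtype (le_NN p P), ?_⟩
    rw [Sylow.coe_subtype, Subgroup.inclusion_range]
  · have hQn : (pCore p G).Normal := Helper3.pCore_normal' p
    have hQp : IsPGroup p ↥(pCore p G) := Helper1.pCore_isPGroup
    have hJp : IsPGroup p ↥(JJ p P) := P.2.to_le (Subgroup.map_subtype_le _)
    have hrel := Helper3.charp_local (H := NN p P) (P := JJ p P) (U := pCore p G) hJp hQp
      (Helper3.le_normalizer_of_normal hQn _) (Helper3.le_normalizer_of_normal hQn _)
      (inf_le_right.trans hc)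
      (Helper3.le_pCore_map (inf_le_right.trans (Subgroup.centralizer_le_normalizer _))
        (hQp.to_le inf_le_left)
        ((le_inf (Helper3.le_normalizer_of_normal hQn _)
          (Helper3.normalizer_le_normalizer_centralizer (JJ p P))).trans
          (Helper3.normalizer_inf_normalizer_le _ _)))
      (Or.inl (Helper3.le_pCore_map Subgroup.le_normalizer hJp le_rfl))
    intro x hx
    have h1 : (x : G) ∈ (pCore p ↥(NN p P)).map (NN p P).subtype := by
      apply hrel
      refine ⟨x.2, ?_⟩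
      show (x : G) ∈ Subgroup.centralizer
        (((pCore p ↥(NN p P)).map (NN p P).subtype : Subgroup G) : Set G)
      rw [Subgroup.mem_centralizer_iff]
      rintro _ ⟨d, hd, rfl⟩
      have := Subgroup.mem_centralizer_iff.mp hx d hd
      exact congrArg Subtype.val this
    obtain ⟨d, hd, hdx⟩ := h1
    have : d = x := Subtype.ext hdx
    rwa [← this]
  · rw [map_inclusion_eq]
    exact Subgroup.normal_subgroupOf_of_le_normalizer le_rfl
  · intro V hVn hV
    apply hst.2.2 P V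
    have h1 := Subgroup.map_mono (f := (NN p P).subtype) hV
    rw [map_map_inclusion] at h1
    exact h1


theorem snc_normal_main (hst : IsActionPStable p G)
    (hc : Subgroup.centralizer (pCore p G : Set G) ≤ pCore p G) (P : Sylow p G) :
    ((stableNormalClosure p ↥(P : Subgroup G)).map (P : Subgroup G).subtype).Normal := by
  classical
  have hτ := stable_embedding hst hc P
  obtain ⟨W, hWdef⟩ : ∃ W : Subgroup G,
      W = (stableNormalClosure p ↥(P : Subgroup G)).map (P : Subgroup G).subtype := ⟨_, rfl⟩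
  rw [← hWdef]
  obtain ⟨Q, hQdef⟩ : ∃ Q : Subgroup G, Q = pCore p G := ⟨_, rfl⟩
  have hQn : Q.Normal := by rw [hQdef]; exact Helper3.pCore_normal' p
  have hQp : IsPGroup p ↥Q := by rw [hQdef]; exact Helper1.pCore_isPGroup
  have hQP : Q ≤ (P : Subgroup G) := by rw [hQdef]; exact Helper1.pCore_le_sylow P
  have hPp : IsPGroup p ↥(P : Subgroup G) := P.2
  have hWsn : ((stableNormalClosure p ↥(P : Subgroup G)).map
      (Subgroup.inclusion (le_NN p P))).Normal := snc_map_normal _ hτ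
  have hNW : NN p P ≤ Subgroup.normalizer (W : Set G) := by
    have h1 := Helper3.le_normalizer_map_of_normal (H := NN p P)
      ((stableNormalClosure p ↥(P : Subgroup G)).map (Subgroup.inclusion (le_NN p P)))
    rw [map_map_inclusion] at h1
    rw [hWdef]; exact h1
  have hPW : (P : Subgroup G) ≤ Subgroup.normalizer (W : Set G) := (le_NN p P).trans hNW
  have hWP : W ≤ (P : Subgroup G) := by rw [hWdef]; exact Subgroup.map_subtype_le _
  have hPconj : ∀ s ∈ (P : Subgroup G), ∀ w ∈ W, s * w * s⁻¹ ∈ W := fun s hs w hw =>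
    Helper3.conj_mem_of_mem_normalizer' (hPW hs) hw
  have hWmem : ∀ w ∈ W, ∃ v ∈ stableNormalClosure p ↥(P : Subgroup G),
      ((v : ↥(P : Subgroup G)) : G) = w := by
    intro w hw
    rw [hWdef] at hw
    obtain ⟨v, hv, rfl⟩ := hw
    exact ⟨v, hv, rfl⟩
  have hWmk : ∀ v ∈ stableNormalClosure p ↥(P : Subgroup G),
      ((v : ↥(P : Subgroup G)) : G) ∈ W := by
    intro v hv
    rw [hWdef]; exact ⟨v, hv, rfl⟩
  -- W is elementary abelian
  have hWea : (∀ a ∈ W, ∀ b ∈ W, a * b = b * a) ∧ ∀ a ∈ W, a ^ p = 1 := by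
    have hE := ea_closure (G := ↥(P : Subgroup G)) p
      {x | x ∈ thompsonSubgroup p ↥(P : Subgroup G) ⊓
        Subgroup.centralizer (thompsonSubgroup p ↥(P : Subgroup G) : Set ↥(P : Subgroup G)) ∧
        x ^ p = 1}
      (fun a ha b hb => (Subgroup.mem_centralizer_iff.mp (Subgroup.mem_inf.mp hb.1).2) a
        (Subgroup.mem_inf.mp ha.1).1)
      (fun a ha => ha.2)
    have hle : stableNormalClosure p ↥(P : Subgroup G) ≤ Subgroup.closure
        {x | x ∈ thompsonSubgroup p ↥(P : Subgroup G) ⊓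
          Subgroup.centralizer (thompsonSubgroup p ↥(P : Subgroup G) : Set ↥(P : Subgroup G)) ∧
          x ^ p = 1} := snc_le_omega
    constructor
    · intro a ha b hb
      obtain ⟨a', ha', rfl⟩ := hWmem a ha
      obtain ⟨b', hb', rfl⟩ := hWmem b hb
      exact congrArg Subtype.val (hE.1 a' (hle ha') b' (hle hb'))
    · intro a ha
      obtain ⟨a', ha', rfl⟩ := hWmem a ha
      have h1 := congrArg Subtype.val (hE.2 a' (hle ha'))
      rw [Subgroup.coe_pow] at h1
      exact h1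
  -- the key consequence of the quadratic lemma
  have hkey : ∀ x ∈ (P : Subgroup G),
      (∀ w ∈ W, ∀ i j : ℤ, x ^ j * ⁅w, x ^ i⁆ = ⁅w, x ^ i⁆ * x ^ j) →
      ∀ w ∈ W, x * w = w * x := by
    intro x hx hquad
    have h1 : ⁅⁅stableNormalClosure p ↥(P : Subgroup G),
        Subgroup.zpowers (⟨x, hx⟩ : ↥(P : Subgroup G))⁆,
        Subgroup.zpowers (⟨x, hx⟩ : ↥(P : Subgroup G))⁆ = ⊥ := by
      rw [S0623.quad_iff]
      intro v hv i j
      apply Subtype.ext
      have h2 := hquad (v : G) (hWmk v hv) i j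
      simpa [commutatorElement_def] using h2
    have h2 := S0623.result hPp (⟨x, hx⟩ : ↥(P : Subgroup G)) h1
    rw [S0623.cent_iff] at h2
    intro w hw
    obtain ⟨v, hv, rfl⟩ := hWmem w hw
    exact congrArg Subtype.val (h2 v hv)
  -- W ≤ O_p(G)
  have hWQ : W ≤ Q := by
    intro a ha
    have hquad : ⁅⁅pCore p G, Subgroup.zpowers a⁆, Subgroup.zpowers a⁆ ≤
        (frattini ↥(pCore p G)).map (pCore p G).subtype := by
      have h0 : ⁅⁅pCore p G, Subgroup.zpowers a⁆, Subgroup.zpowers a⁆ = ⊥ := by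
        rw [S0623.quad_iff]
        intro v hv i j
        have hai : a ^ i ∈ W := Subgroup.zpow_mem _ ha i
        have haj : a ^ j ∈ W := Subgroup.zpow_mem _ ha j
        have hvP : v ∈ (P : Subgroup G) := by
          apply hQP; rw [hQdef]; exact hv
        have hcm : ⁅v, a ^ i⁆ ∈ W := by
          rw [commutatorElement_def]
          exact W.mul_mem (hPconj v hvP _ hai) (W.inv_mem hai)
        exact hWea.1 _ haj _ hcm
      rw [h0]; exact bot_le
    obtain ⟨D, hDn, hKD, ⟨k, hk⟩, haD⟩ := hst.2.1 a hquad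
    have hKQ : sectionKernel (pCore p G) ((frattini ↥(pCore p G)).map (pCore p G).subtype) ≤
        pCore p G := by
      intro y hy
      rw [← Helper3.mem_pCore_iff_commutator_mem_frattini hc y]
      intro d hd
      have h1 := hy
      unfold sectionKernel at h1
      rw [Subgroup.mem_comap, Subgroup.mem_centralizer_iff] at h1
      have h2 := h1 _ (Subgroup.mem_map_of_mem _ hd)
      have h3 : (QuotientGroup.mk' ((frattini ↥(pCore p G)).map (pCore p G).subtype)) ⁅y, d⁆ = 1 := by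
        rw [map_commutatorElement, commutatorElement_eq_one_iff_commute]
        exact h2.symm
      exact (QuotientGroup.eq_one_iff _).mp h3
    have hDp : IsPGroup p ↥D := by
      have hKp : IsPGroup p ↥(sectionKernel (pCore p G)
          ((frattini ↥(pCore p G)).map (pCore p G).subtype)) :=
        (Helper1.pCore_isPGroup).to_le hKQ
      obtain ⟨j, hj⟩ := (IsPGroup.iff_card).mp hKp
      have h1 := Subgroup.relIndex_mul_relIndex ⊥ _ D bot_le hKD
      rw [Subgroup.relIndex_bot_left, Subgroup.relIndex_bot_left, hj, hk, ← pow_add] at h1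
      exact IsPGroup.of_card h1.symm
    have hDQ : D ≤ pCore p G := Helper1.le_pCore D hDn hDp
    rw [hQdef]; exact hDQ haD
  -- conjugates of W commute with W
  have hD1 : ∀ g : G, ∀ w₀ ∈ W, ∀ w ∈ W, (g * w₀ * g⁻¹) * w = w * (g * w₀ * g⁻¹) := by
    intro g w₀ hw₀ w hw
    have hxQ : g * w₀ * g⁻¹ ∈ Q := hQn.conj_mem w₀ (hWQ hw₀) g
    apply hkey _ (hQP hxQ) _ w hw
    intro w' hw' i j
    have hi : (g * w₀ * g⁻¹) ^ i = g * w₀ ^ i * g⁻¹ := conj_zpow
    have hj : (g * w₀ * g⁻¹) ^ j = g * w₀ ^ j * g⁻¹ := conj_zpow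
    rw [hi, hj]
    have hui : w₀ ^ i ∈ W := W.zpow_mem hw₀ i
    have huj : w₀ ^ j ∈ W := W.zpow_mem hw₀ j
    obtain ⟨ui, huidef⟩ : ∃ ui, ui = w₀ ^ i := ⟨_, rfl⟩
    obtain ⟨uj, hujdef⟩ : ∃ uj, uj = w₀ ^ j := ⟨_, rfl⟩
    rw [← huidef] at hui ⊢
    rw [← hujdef] at huj ⊢
    have hqQ : g⁻¹ * w' * g ∈ Q := by
      have h1 := hQn.conj_mem w' (hWQ hw') g⁻¹
      rwa [inv_inv] at h1
    obtain ⟨c, hcdef⟩ : ∃ c, c = (g⁻¹ * w' * g) * ui * (g⁻¹ * w' * g)⁻¹ * ui⁻¹ := ⟨_, rfl⟩
    have hc : c ∈ W := by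
      rw [hcdef]
      exact W.mul_mem (hPconj _ (hQP hqQ) _ hui) (W.inv_mem hui)
    have e : ⁅w', g * ui * g⁻¹⁆ = g * c * g⁻¹ := by
      rw [commutatorElement_def, hcdef]; group
    rw [e]
    have hcomm := hWea.1 _ huj _ hc
    calc g * uj * g⁻¹ * (g * c * g⁻¹) = g * (uj * c) * g⁻¹ := by group
      _ = g * (c * uj) * g⁻¹ := by rw [hcomm]
      _ = g * c * g⁻¹ * (g * uj * g⁻¹) := by group
  -- the normal closure V of W
  obtain ⟨E, hEdef⟩ : ∃ E : Set G, E = {y | ∃ g : G, ∃ w ∈ W, y = g * w * g⁻¹} := ⟨_, rfl⟩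
  have hEc : ∀ a ∈ E, ∀ b ∈ E, a * b = b * a := by
    intro a ha b hb
    rw [hEdef] at ha hb
    obtain ⟨g₁, w₁, hw₁, rfl⟩ := ha
    obtain ⟨g₂, w₂, hw₂, rfl⟩ := hb
    have h1 := hD1 (g₂⁻¹ * g₁) w₁ hw₁ w₂ hw₂
    calc g₁ * w₁ * g₁⁻¹ * (g₂ * w₂ * g₂⁻¹)
        = g₂ * ((g₂⁻¹ * g₁) * w₁ * (g₂⁻¹ * g₁)⁻¹ * w₂) * g₂⁻¹ := by group
      _ = g₂ * (w₂ * ((g₂⁻¹ * g₁) * w₁ * (g₂⁻¹ * g₁)⁻¹)) * g₂⁻¹ := by rw [h1]
      _ = g₂ * w₂ * g₂⁻¹ * (g₁ * w₁ * g₁⁻¹) := by group
  have hEp : ∀ a ∈ E, a ^ p = 1 := by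
    intro a ha
    rw [hEdef] at ha
    obtain ⟨g, w, hw, rfl⟩ := ha
    rw [conj_pow, hWea.2 w hw]; group
  obtain ⟨hVc, hVp⟩ := ea_closure p E hEc hEp
  obtain ⟨V, hVdef⟩ : ∃ V : Subgroup G, V = Subgroup.closure E := ⟨_, rfl⟩
  rw [← hVdef] at hVc hVp
  have hEconj : ∀ x : G, ∀ q ∈ E, x * q * x⁻¹ ∈ E := by
    intro x q hq
    rw [hEdef] at hq ⊢
    obtain ⟨g, w, hw, rfl⟩ := hq
    exact ⟨x * g, w, hw, by group⟩
  have hVn : V.Normal := by
    refine ⟨fun n hn g => ?_⟩
    rw [hVdef] at hn ⊢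
    exact conj_closure_mem' E g (hEconj g) n hn
  haveI := hVn
  have hWV : W ≤ V := by
    intro w hw
    rw [hVdef]
    apply Subgroup.subset_closure
    rw [hEdef]
    exact ⟨1, w, hw, by group⟩
  have hVQ : V ≤ Q := by
    rw [hVdef, Subgroup.closure_le]
    intro e he
    rw [hEdef] at he
    obtain ⟨g, w, hw, rfl⟩ := he
    exact hQn.conj_mem w (hWQ hw) g
  have hVea : IsElementaryAbelian p V :=
    ⟨⟨⟨fun a b => Subtype.ext (hVc a a.2 b b.2)⟩⟩, hVp⟩
  have hVpg : IsPGroup p ↥V := fun v =>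
    ⟨1, Subtype.ext (by rw [pow_one, Subgroup.coe_pow]; exact hVp v v.2)⟩
  have hPS : IsPStableOn p V := hst.1 V hVea
  -- quadratic elements centralize W
  have hE1 : ∀ a : G, ⁅⁅V, Subgroup.zpowers a⁆, Subgroup.zpowers a⁆ = ⊥ →
      ∀ w ∈ W, a * w = w * a := by
    intro a hqa w hw
    have hmem := hPS a hqa
    have h1 : QuotientGroup.mk' (Subgroup.centralizer (V : Set G)) a ∈
        ((P.mapSurjective (QuotientGroup.mk'_surjective (Subgroup.centralizer (V : Set G))) :
          Sylow p (G ⧸ Subgroup.centralizer (V : Set G))) :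
          Subgroup (G ⧸ Subgroup.centralizer (V : Set G))) :=
      Helper1.pCore_le_sylow _ hmem
    rw [Sylow.coe_mapSurjective] at h1
    obtain ⟨t, ht, hta⟩ := Subgroup.mem_map.mp h1
    have hcC : t⁻¹ * a ∈ Subgroup.centralizer (V : Set G) := QuotientGroup.eq.mp hta
    have hpowC : ∀ i : ℤ, (t ^ i)⁻¹ * a ^ i ∈ Subgroup.centralizer (V : Set G) := by
      intro i
      apply QuotientGroup.eq.mp
      have hta' : ((t : G) : G ⧸ Subgroup.centralizer (V : Set G)) = (a : G) := hta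
      rw [QuotientGroup.mk_zpow, QuotientGroup.mk_zpow, hta']
    have hconj : ∀ u ∈ V, ∀ i : ℤ, a ^ i * u * (a ^ i)⁻¹ = t ^ i * u * (t ^ i)⁻¹ := by
      intro u hu i
      have hcu := (Subgroup.mem_centralizer_iff.mp (hpowC i)) u hu
      obtain ⟨ti, hti⟩ : ∃ ti, ti = t ^ i := ⟨_, rfl⟩
      obtain ⟨ai, hai⟩ : ∃ ai, ai = a ^ i := ⟨_, rfl⟩
      rw [← hti, ← hai] at hcu ⊢
      calc ai * u * ai⁻¹ = ti * ((ti⁻¹ * ai) * u) * ai⁻¹ := by group
        _ = ti * (u * (ti⁻¹ * ai)) * ai⁻¹ := by rw [hcu]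
        _ = ti * u * ti⁻¹ := by group
    have hqa' := (S0623.quad_iff V a).mp hqa
    have hqt : ∀ w ∈ W, ∀ i j : ℤ, t ^ j * ⁅w, t ^ i⁆ = ⁅w, t ^ i⁆ * t ^ j := by
      intro w hw i j
      have hwV : w ∈ V := hWV hw
      have e1 : ⁅w, t ^ i⁆ = ⁅w, a ^ i⁆ := by
        have h := hconj w⁻¹ (V.inv_mem hwV) i
        rw [commutatorElement_def, commutatorElement_def]
        calc w * t ^ i * w⁻¹ * (t ^ i)⁻¹ = w * (t ^ i * w⁻¹ * (t ^ i)⁻¹) := by
              simp only [mul_assoc]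
          _ = w * (a ^ i * w⁻¹ * (a ^ i)⁻¹) := by rw [h]
          _ = w * a ^ i * w⁻¹ * (a ^ i)⁻¹ := by simp only [mul_assoc]
      have huV : ⁅w, a ^ i⁆ ∈ V := by
        rw [commutatorElement_def]
        have h1 : a ^ i * w⁻¹ * (a ^ i)⁻¹ ∈ V := hVn.conj_mem _ (V.inv_mem hwV) _
        have e : w * a ^ i * w⁻¹ * (a ^ i)⁻¹ = w * (a ^ i * w⁻¹ * (a ^ i)⁻¹) := by
          simp only [mul_assoc]
        rw [e]; exact V.mul_mem hwV h1
      rw [e1]
      have h2 := hqa' w hwV i j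
      have h3 := hconj _ huV j
      have h4 : a ^ j * ⁅w, a ^ i⁆ * (a ^ j)⁻¹ = ⁅w, a ^ i⁆ := by
        rw [h2, mul_assoc, mul_inv_cancel, mul_one]
      rw [h4] at h3
      calc t ^ j * ⁅w, a ^ i⁆ = (t ^ j * ⁅w, a ^ i⁆ * (t ^ j)⁻¹) * t ^ j := by
            rw [mul_assoc, mul_assoc, inv_mul_cancel, mul_one]
        _ = ⁅w, a ^ i⁆ * t ^ j := by rw [← h3]
    have htw := hkey t ht hqt w hw
    have hcw := (Subgroup.mem_centralizer_iff.mp hcC) w (hWV hw)
    calc a * w = t * ((t⁻¹ * a) * w) := by group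
      _ = t * (w * (t⁻¹ * a)) := by rw [hcw]
      _ = (t * w) * (t⁻¹ * a) := by group
      _ = (w * t) * (t⁻¹ * a) := by rw [htw]
      _ = w * a := by group
  have hquad_conj : ∀ a h : G, ⁅⁅V, Subgroup.zpowers a⁆, Subgroup.zpowers a⁆ = ⊥ →
      ⁅⁅V, Subgroup.zpowers (h * a * h⁻¹)⁆, Subgroup.zpowers (h * a * h⁻¹)⁆ = ⊥ := by
    intro a h hqa
    rw [S0623.quad_iff] at hqa ⊢
    intro v hv i j
    have hi : (h * a * h⁻¹) ^ i = h * a ^ i * h⁻¹ := conj_zpow
    have hj : (h * a * h⁻¹) ^ j = h * a ^ j * h⁻¹ := conj_zpow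
    rw [hi, hj]
    have hv' : h⁻¹ * v * h ∈ V := by
      have h1 := hVn.conj_mem v hv h⁻¹
      rwa [inv_inv] at h1
    have h1 := hqa _ hv' i j
    obtain ⟨ai, hai⟩ : ∃ ai, ai = a ^ i := ⟨_, rfl⟩
    obtain ⟨aj, haj⟩ : ∃ aj, aj = a ^ j := ⟨_, rfl⟩
    rw [← hai, ← haj] at h1 ⊢
    have e : ⁅v, h * ai * h⁻¹⁆ = h * ⁅h⁻¹ * v * h, ai⁆ * h⁻¹ := by
      rw [commutatorElement_def, commutatorElement_def]; group
    rw [e]
    calc h * aj * h⁻¹ * (h * ⁅h⁻¹ * v * h, ai⁆ * h⁻¹)
        = h * (aj * ⁅h⁻¹ * v * h, ai⁆) * h⁻¹ := by group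
      _ = h * (⁅h⁻¹ * v * h, ai⁆ * aj) * h⁻¹ := by rw [h1]
      _ = h * ⁅h⁻¹ * v * h, ai⁆ * h⁻¹ * (h * aj * h⁻¹) := by group
  have hE2 : ∀ a : G, ⁅⁅V, Subgroup.zpowers a⁆, Subgroup.zpowers a⁆ = ⊥ →
      a ∈ Subgroup.centralizer (V : Set G) := by
    intro a hqa
    have h1 : a ∈ Subgroup.centralizer E := by
      rw [Subgroup.mem_centralizer_iff]
      intro e he
      rw [hEdef] at he
      obtain ⟨g, w, hw, rfl⟩ := he
      have h2 := hE1 (g⁻¹ * a * g⁻¹⁻¹) (hquad_conj a g⁻¹ hqa) w hw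
      rw [inv_inv] at h2
      calc g * w * g⁻¹ * a = g * (w * (g⁻¹ * a * g)) * g⁻¹ := by group
        _ = g * (g⁻¹ * a * g * w) * g⁻¹ := by rw [h2]
        _ = a * (g * w * g⁻¹) := by group
    rw [hVdef, Subgroup.centralizer_closure]
    exact h1
  -- every elementary abelian subgroup of maximal order centralizes V
  have hF : ∀ A ∈ ThompsonJ.maxEA p (P : Subgroup G), A ≤ Subgroup.centralizer (V : Set G) := by
    intro A hA
    obtain ⟨hAP, ⟨hAc, hAe⟩, hAmax⟩ := hA
    have hAcomm : ∀ x ∈ A, ∀ y ∈ A, x * y = y * x := fun x hx y hy =>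
      congrArg Subtype.val (hAc.is_comm.comm ⟨x, hx⟩ ⟨y, hy⟩)
    have hVcc : V ≤ Subgroup.centralizer (V : Set G) := fun v hv => by
      rw [Subgroup.mem_centralizer_iff]; intro u hu; exact hVc u hu v hv
    have hAV : A ≤ Subgroup.normalizer (V : Set G) := Helper3.le_normalizer_of_normal hVn A
    have hab : ⁅A, A⁆ ≤ Subgroup.centralizer (V : Set G) := by
      rw [Subgroup.commutator_le]
      intro x hx y hy
      have h1 : ⁅x, y⁆ = 1 := commutatorElement_eq_one_iff_commute.mpr (hAcomm x hx y hy)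
      rw [h1]; exact Subgroup.one_mem _
    have hbest : ∀ B : Subgroup G, B ≤ A →
        Nat.card B * Nat.card ↥(V ⊓ Subgroup.centralizer (B : Set G)) ≤
        Nat.card A * Nat.card ↥(V ⊓ Subgroup.centralizer (A : Set G)) := by
      intro B hBA
      obtain ⟨D, hDdef⟩ : ∃ D : Subgroup G, D = V ⊓ Subgroup.centralizer (B : Set G) := ⟨_, rfl⟩
      rw [← hDdef]
      have h1 := Helper4.repl_card_mul_card_le B D
      have hBDea : IsElementaryAbelian p (B ⊔ D) := by
        have hsup : B ⊔ D = Subgroup.closure ((B : Set G) ∪ (D : Set G)) :=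
          Subgroup.sup_eq_closure B D
        have hgen := ea_closure p ((B : Set G) ∪ (D : Set G))
          (by
            intro a ha b hb
            rcases ha with ha | ha <;> rcases hb with hb | hb
            · exact hAcomm a (hBA ha) b (hBA hb)
            · have hb' : b ∈ V ⊓ Subgroup.centralizer (B : Set G) := by rw [← hDdef]; exact hb
              exact (Subgroup.mem_centralizer_iff.mp hb'.2) a ha
            · have ha' : a ∈ V ⊓ Subgroup.centralizer (B : Set G) := by rw [← hDdef]; exact ha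
              exact ((Subgroup.mem_centralizer_iff.mp ha'.2) b hb).symm
            · have ha' : a ∈ V ⊓ Subgroup.centralizer (B : Set G) := by rw [← hDdef]; exact ha
              have hb' : b ∈ V ⊓ Subgroup.centralizer (B : Set G) := by rw [← hDdef]; exact hb
              exact hVc a ha'.1 b hb'.1)
          (by
            intro a ha
            rcases ha with ha | ha
            · exact hAe a (hBA ha)
            · have ha' : a ∈ V ⊓ Subgroup.centralizer (B : Set G) := by rw [← hDdef]; exact ha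
              exact hVp a ha'.1)
        rw [hsup]
        exact ⟨⟨⟨fun a b => Subtype.ext (hgen.1 a a.2 b b.2)⟩⟩, hgen.2⟩
      have hBDP : B ⊔ D ≤ (P : Subgroup G) := by
        refine sup_le (hBA.trans hAP) ?_
        rw [hDdef]; exact inf_le_left.trans (hVQ.trans hQP)
      have h2 : Nat.card ↥(B ⊔ D) ≤ Nat.card A := hAmax _ hBDP hBDea
      have h3 : Nat.card ↥(B ⊓ D) ≤ Nat.card ↥(V ⊓ Subgroup.centralizer (A : Set G)) := by
        apply Subgroup.card_le_of_le
        intro x hx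
        have hxD : x ∈ V ⊓ Subgroup.centralizer (B : Set G) := by rw [← hDdef]; exact hx.2
        refine ⟨hxD.1, ?_⟩
        show x ∈ Subgroup.centralizer (A : Set G)
        rw [Subgroup.mem_centralizer_iff]
        intro y hy
        exact hAcomm y hy x (hBA hx.1)
      calc Nat.card B * Nat.card D ≤ Nat.card ↥(B ⊔ D) * Nat.card ↥(B ⊓ D) := h1
        _ ≤ Nat.card A * Nat.card ↥(V ⊓ Subgroup.centralizer (A : Set G)) :=
          Nat.mul_le_mul h2 h3
    obtain ⟨r1, r2⟩ := Helper4.replacement_main hVcc hAV hab hbest V le_rfl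
    obtain ⟨A₀, hA₀def⟩ : ∃ A₀ : Subgroup G,
        A₀ = A ⊓ Subgroup.centralizer ((⁅V, A⁆ : Subgroup G) : Set G) := ⟨_, rfl⟩
    rw [← hA₀def] at r1 r2
    have hA₀C : A₀ ≤ Subgroup.centralizer (V : Set G) := by
      intro a ha
      apply hE2
      rw [Subgroup.commutator_eq_bot_iff_le_centralizer]
      have haA : a ∈ A := by rw [hA₀def] at ha; exact ha.1
      have h1 : ⁅V, Subgroup.zpowers a⁆ ≤ ⁅V, A⁆ :=
        Subgroup.commutator_mono le_rfl (Subgroup.zpowers_le.mpr haA)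
      refine h1.trans ?_
      intro u hu
      rw [Subgroup.mem_centralizer_iff]
      intro z hz
      have hzA₀ : z ∈ A₀ := (Subgroup.zpowers_le.mpr ha) hz
      rw [hA₀def] at hzA₀
      exact ((Subgroup.mem_centralizer_iff.mp hzA₀.2) u hu).symm
    have hVA₀ : V ⊓ Subgroup.centralizer (A₀ : Set G) = V :=
      inf_eq_left.mpr (Subgroup.le_centralizer_iff.mp hA₀C)
    rw [hVA₀] at r2
    have h5 : ⁅V, A⁆ = ⊥ := Helper4.repl_commutator_eq_bot hVcc hVpg hAV
      (fun a ha => by rw [hAe a ha]; exact Subgroup.one_mem _) (le_of_eq r2)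
    rw [Subgroup.commutator_eq_bot_iff_le_centralizer] at h5
    exact Subgroup.le_centralizer_iff.mp h5
  -- Frattini argument
  have hJC : ThompsonJ.Jr p (P : Subgroup G) ≤ Subgroup.centralizer (V : Set G) := sSup_le hF
  have hCn : (Subgroup.centralizer (V : Set G)).Normal := Subgroup.normal_centralizer
  obtain ⟨Qs, hQs⟩ := S0542.result p (Subgroup.centralizer (V : Set G)) hCn.isSubnormal P
  have hfr := Sylow.normalizer_sup_eq_top Qs
  rw [hQs, Subgroup.subgroupOf_map_subtype] at hfr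
  have hT₀ : Subgroup.normalizer
      (((P : Subgroup G) ⊓ Subgroup.centralizer (V : Set G) : Subgroup G) : Set G) ≤ NN p P := by
    have h1 := ThompsonJ.normalizer_le_normalizer_Jr p
      ((P : Subgroup G) ⊓ Subgroup.centralizer (V : Set G))
    rw [ThompsonJ.Jr_eq_of_le (le_inf (ThompsonJ.Jr_le p _) hJC) inf_le_left] at h1
    show _ ≤ Subgroup.normalizer (thompsonSubgroupOf p (P : Subgroup G) : Set G)
    rw [ThompsonJ.thompsonSubgroupOf_eq_Jr]
    exact h1
  rw [← Subgroup.normalizer_eq_top_iff, eq_top_iff, ← hfr]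
  refine sup_le (hT₀.trans hNW) ?_
  exact (Subgroup.centralizer_le hWV).trans (Subgroup.centralizer_le_normalizer _)

end emb

end Cfsg.Agent.Lib.Lead.StableW
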