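import Cfsg.Agent.Lib.Lead.KleinDih2
import Cfsg.Agent.Lib.Helper4.ConjSub

set_option autoImplicit false
set_option linter.style.haveILetI false
set_option linter.unusedVariables false
set_option linter.unusedSectionVars false

namespace Cfsg.Agent.Lib.Lead.KleinDih

open Cfsg.Agent.Lib.Helper4

section mk
variable {X : Type*} [Group X]

theorem invol_pow_cases (z : X) (hz : z * z = 1) (i : ℕ) : z ^ i = 1 ∨ z ^ i = z := by
  induction i with
  | zero => left; exact pow_zero z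
  | succ i ih =>
    rcases ih with h | h
    · right; rw [pow_succ, h, one_mul]
    · left; rw [pow_succ, h, hz]

/-- the four-group generated by two commuting involutions -/
def kleinSub (z u : X) (hz : z * z = 1) (hu : u * u = 1) (hzu : z * u = u * z) : Subgroup X where
  carrier := {x | ∃ i j : ℕ, x = z ^ i * u ^ j}
  mul_mem' := by
    rintro a b ⟨i, j, rfl⟩ ⟨k, l, rfl⟩
    refine ⟨i + k, j + l, ?_⟩
    have hc : Commute z u := hzu
    have h1 : u ^ j * z ^ k = z ^ k * u ^ j := ((hc.pow_pow k j).eq).symm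
    calc z ^ i * u ^ j * (z ^ k * u ^ l) = z ^ i * (u ^ j * z ^ k) * u ^ l := by
          simp only [mul_assoc]
      _ = z ^ i * (z ^ k * u ^ j) * u ^ l := by rw [h1]
      _ = z ^ (i + k) * u ^ (j + l) := by
          rw [pow_add, pow_add]; simp only [mul_assoc]
  one_mem' := ⟨0, 0, by simp⟩
  inv_mem' := by
    rintro a ⟨i, j, rfl⟩
    refine ⟨i, j, ?_⟩
    have hc : Commute z u := hzu
    have hzi : z⁻¹ = z := inv_eq_of_mul_eq_one_right hz
    have hui : u⁻¹ = u := inv_eq_of_mul_eq_one_right hu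
    rw [mul_inv_rev, ← inv_pow, ← inv_pow, hzi, hui]
    exact ((hc.pow_pow i j).eq).symm

theorem mem_kleinSub_iff (z u : X) (hz : z * z = 1) (hu : u * u = 1) (hzu : z * u = u * z) (x : X) :
    x ∈ kleinSub z u hz hu hzu ↔ x = 1 ∨ x = z ∨ x = u ∨ x = z * u := by
  constructor
  · rintro ⟨i, j, rfl⟩
    rcases invol_pow_cases z hz i with h1 | h1 <;> rcases invol_pow_cases u hu j with h2 | h2
    · left; rw [h1, h2, one_mul]
    · right; right; left; rw [h1, h2, one_mul]
    · right; left; rw [h1, h2, mul_one]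
    · right; right; right; rw [h1, h2]
  · intro h
    rcases h with h | h | h | h
    · rw [h]; exact Subgroup.one_mem _
    · rw [h]; exact ⟨1, 0, by simp⟩
    · rw [h]; exact ⟨0, 1, by simp⟩
    · rw [h]; exact ⟨1, 1, by simp⟩

theorem klein_mk [Finite X] (z u : X) (hz : z * z = 1) (hu : u * u = 1) (hzu : z * u = u * z)
    (hz1 : z ≠ 1) (hu1 : u ≠ 1) (hne : z ≠ u) :
    ∃ U : Subgroup X, IsKleinFour ↥U ∧ (∀ x, x ∈ U ↔ x = 1 ∨ x = z ∨ x = u ∨ x = z * u) := by
  classical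
  refine ⟨kleinSub z u hz hu hzu, ?_, mem_kleinSub_iff z u hz hu hzu⟩
  have hset : ((kleinSub z u hz hu hzu : Subgroup X) : Set X) = {1, z, u, z * u} := by
    ext x
    rw [SetLike.mem_coe, mem_kleinSub_iff]
    simp only [Set.mem_insert_iff, Set.mem_singleton_iff]
  have hzu1 : z * u ≠ 1 := by
    intro h
    apply hne
    have h1 : z = u⁻¹ := eq_inv_of_mul_eq_one_left h
    rw [h1]; exact inv_eq_of_mul_eq_one_right hu
  have hu_zu : u ≠ z * u := by
    intro h
    apply hz1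
    have h2 : 1 * u = z * u := by rw [one_mul]; exact h
    exact (mul_right_cancel h2).symm
  have hz_zu : z ≠ z * u := by
    intro h
    apply hu1
    have h2 : z * 1 = z * u := by rw [mul_one]; exact h
    exact (mul_left_cancel h2).symm
  have e1 : ({u, z * u} : Set X).ncard = 2 := Set.ncard_pair hu_zu
  have e2 : ({z, u, z * u} : Set X).ncard = 3 := by
    rw [Set.ncard_insert_of_notMem, e1]
    simp only [Set.mem_insert_iff, Set.mem_singleton_iff, not_or]
    exact ⟨hne, hz_zu⟩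
  have e3 : ({1, z, u, z * u} : Set X).ncard = 4 := by
    rw [Set.ncard_insert_of_notMem, e2]
    simp only [Set.mem_insert_iff, Set.mem_singleton_iff, not_or]
    exact ⟨fun h => hz1 h.symm, fun h => hu1 h.symm, fun h => hzu1 h.symm⟩
  have hcard : Nat.card ↥(kleinSub z u hz hu hzu) = 4 := by
    have h1 : Nat.card ↥(kleinSub z u hz hu hzu) =
        ((kleinSub z u hz hu hzu : Subgroup X) : Set X).ncard := Nat.card_coe_set_eq _
    rw [h1, hset, e3]
  have hsq : ∀ x ∈ kleinSub z u hz hu hzu, x * x = 1 := by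
    intro x hx
    rcases (mem_kleinSub_iff z u hz hu hzu x).mp hx with h | h | h | h
    · rw [h, one_mul]
    · rw [h]; exact hz
    · rw [h]; exact hu
    · rw [h]
      calc z * u * (z * u) = z * (u * z) * u := by simp only [mul_assoc]
        _ = z * (z * u) * u := by rw [hzu]
        _ = (z * z) * (u * u) := by simp only [mul_assoc]
        _ = 1 := by rw [hz, hu, one_mul]
  haveI : Nontrivial ↥(kleinSub z u hz hu hzu) :=
    ⟨⟨⟨z, (mem_kleinSub_iff z u hz hu hzu z).mpr (Or.inr (Or.inl rfl))⟩, 1,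
      fun h => hz1 (congrArg Subtype.val h)⟩⟩
  have hexp : Monoid.exponent ↥(kleinSub z u hz hu hzu) = 2 := by
    rw [Monoid.exponent_eq_prime_iff Nat.prime_two]
    intro q hq1
    apply orderOf_eq_prime
    · apply Subtype.ext
      have h1 := hsq q.1 q.2
      rw [pow_two]; exact h1
    · exact hq1
  exact ⟨hcard, hexp⟩

end mk

section trans
variable {X : Type*} [Group X] [Finite X]

theorem klein_sq_cent (U : Subgroup X) [IsKleinFour ↥U] (g t : X)
    (hg : g ∈ Subgroup.normalizer (U : Set X))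
    (htU : t ∈ U) (ht1 : t ≠ 1) (hgt : g * t * g⁻¹ = t) :
    g ^ 2 ∈ Subgroup.centralizer (U : Set X) := by
  obtain ⟨a, haU, ha1, hat⟩ : ∃ a ∈ U, a ≠ 1 ∧ a ≠ t := by
    obtain ⟨a, ha, b, hb, ha1, hb1, hab⟩ := klein_two U
    by_cases h : a = t
    · exact ⟨b, hb, hb1, fun hbt => hab (h.trans hbt.symm)⟩
    · exact ⟨a, ha, ha1, h⟩
  have hta : t ≠ a := fun h => hat h.symm
  have hgaU : g * a * g⁻¹ ∈ U := conj_mem_of_normalizer U hg haU
  by_cases hga : g * a * g⁻¹ = a
  · exact Subgroup.pow_mem _ (cent_of_two U htU haU ht1 ha1 hta g hgt hga) 2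
  · have hgat : g * a * g⁻¹ ≠ t := by
      intro h
      rw [← hgt] at h
      exact hat (conj_inj h)
    have hga_eq : g * a * g⁻¹ = t * a :=
      klein_third U htU haU hgaU ht1 ha1 hta (conj_ne_one ha1) hgat hga
    have htt : t * t = 1 := klein_sq U t htU
    have e2 : ∀ u : X, g ^ 2 * u * (g ^ 2)⁻¹ = g * (g * u * g⁻¹) * g⁻¹ := by
      intro u
      rw [pow_two]; group
    apply cent_of_two U htU haU ht1 ha1 hta
    · rw [e2, hgt, hgt]
    · rw [e2, hga_eq, conj_mul_eq, hgt, hga_eq, ← mul_assoc, htt, one_mul]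

theorem klein_trans (U : Subgroup X) [IsKleinFour ↥U] (g : X)
    (hg : g ∈ Subgroup.normalizer (U : Set X))
    (hnf : ∀ a ∈ U, a ≠ 1 → g * a * g⁻¹ ≠ a) (a b : X) (ha : a ∈ U) (hb : b ∈ U)
    (ha1 : a ≠ 1) (hb1 : b ≠ 1) : ∃ h : X, h * a * h⁻¹ = b := by
  by_cases hab : b = a
  · exact ⟨1, by rw [hab]; group⟩
  by_cases hab' : b = g * a * g⁻¹
  · exact ⟨g, hab'.symm⟩
  have ha'U : g * a * g⁻¹ ∈ U := conj_mem_of_normalizer U hg ha
  have ha'1 : g * a * g⁻¹ ≠ 1 := conj_ne_one ha1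
  have ha'a : g * a * g⁻¹ ≠ a := hnf a ha ha1
  have hb_eq : b = a * (g * a * g⁻¹) :=
    klein_third U ha ha'U hb ha1 ha'1 (Ne.symm ha'a) hb1 hab hab'
  have ha''U : g * (g * a * g⁻¹) * g⁻¹ ∈ U := conj_mem_of_normalizer U hg ha'U
  have ha''1 : g * (g * a * g⁻¹) * g⁻¹ ≠ 1 := conj_ne_one ha'1
  have ha''a' : g * (g * a * g⁻¹) * g⁻¹ ≠ g * a * g⁻¹ := hnf _ ha'U ha'1
  have ha''a : g * (g * a * g⁻¹) * g⁻¹ ≠ a := by
    intro h
    have h1 : g * (a * (g * a * g⁻¹)) * g⁻¹ = a * (g * a * g⁻¹) := by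
      rw [conj_mul_eq g a (g * a * g⁻¹), h]
      exact klein_comm U _ _ ha'U ha
    exact hnf _ (U.mul_mem ha ha'U) (klein_mul_ne_one U ha ha'U (Ne.symm ha'a)) h1
  have hc_eq : g * (g * a * g⁻¹) * g⁻¹ = a * (g * a * g⁻¹) :=
    klein_third U ha ha'U ha''U ha1 ha'1 (Ne.symm ha'a) ha''1 ha''a ha''a'
  refine ⟨g * g, ?_⟩
  rw [hb_eq, ← hc_eq]; group

theorem klein_all_conj (U : Subgroup X) [IsKleinFour ↥U]
    (h3 : 3 ∣ (Subgroup.centralizer (U : Set X)).relIndex (Subgroup.normalizer (U : Set X)))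
    (a b : X) (ha : a ∈ U) (hb : b ∈ U) (ha1 : a ≠ 1) (hb1 : b ≠ 1) :
    ∃ h : X, h * a * h⁻¹ = b := by
  haveI : Fact (Nat.Prime 3) := ⟨Nat.prime_three⟩
  have hker := Subgroup.normalizerMonoidHom_ker U
  have hidx : (Subgroup.centralizer (U : Set X)).relIndex (Subgroup.normalizer (U : Set X)) =
      U.normalizerMonoidHom.ker.index := by
    rw [hker]; rfl
  rw [hidx, Subgroup.index_eq_card] at h3
  obtain ⟨x, hx⟩ := exists_prime_orderOf_dvd_card' 3 h3
  obtain ⟨g, rfl⟩ := QuotientGroup.mk_surjective x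
  have hg3 : g ^ 3 ∈ U.normalizerMonoidHom.ker := by
    rw [← QuotientGroup.eq_one_iff, QuotientGroup.mk_pow]
    have h := pow_orderOf_eq_one (QuotientGroup.mk g : ↥(Subgroup.normalizer (U : Set X)) ⧸
      U.normalizerMonoidHom.ker)
    rw [hx] at h
    exact h
  have hg1 : g ∉ U.normalizerMonoidHom.ker := by
    intro h
    rw [← QuotientGroup.eq_one_iff] at h
    rw [h, orderOf_one] at hx
    omega
  rw [hker, Subgroup.mem_subgroupOf] at hg3 hg1
  have hgN : (g : X) ∈ Subgroup.normalizer (U : Set X) := g.2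
  have hg3' : (g : X) ^ 3 ∈ Subgroup.centralizer (U : Set X) := by
    rw [← Subgroup.coe_pow]; exact hg3
  apply klein_trans U (g : X) hgN _ a b ha hb ha1 hb1
  intro c hc hc1 hfix
  apply hg1
  have h2 := klein_sq_cent U (g : X) c hgN hc hc1 hfix
  have e : (g : X) = (g : X) ^ 3 * ((g : X) ^ 2)⁻¹ := by
    have h3' : (g : X) ^ 3 = (g : X) * (g : X) * (g : X) := by simp [pow_succ]
    have h2' : (g : X) ^ 2 = (g : X) * (g : X) := pow_two _
    rw [h3', h2']; group
  rw [e]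
  exact Subgroup.mul_mem _ hg3' (Subgroup.inv_mem _ h2)

theorem invol_conj_into_sylow (S : Sylow 2 X) (a : X) (ha : orderOf a = 2) :
    ∃ g : X, g * a * g⁻¹ ∈ (S : Subgroup X) := by
  haveI : Fact (Nat.Prime 2) := ⟨Nat.prime_two⟩
  have hz2 : IsPGroup 2 ↥(Subgroup.zpowers a) := by
    apply IsPGroup.of_card (n := 1)
    rw [Nat.card_zpowers, ha, pow_one]
  obtain ⟨P, hP⟩ := hz2.exists_le_sylow
  obtain ⟨x, hx⟩ := MulAction.exists_smul_eq X P S
  have hPS : cj x (P : Subgroup X) = (S : Subgroup X) := by rw [← sylow_smul_eq_cj, hx]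
  refine ⟨x, ?_⟩
  rw [← hPS]
  exact conj_mem_cj x _ (hP (Subgroup.mem_zpowers a))

end trans

theorem dih_center_facts {X : Type*} [Group X] (S : Subgroup X) (m : ℕ) [NeZero m] (m2 : ℕ)
    (hm2 : m = 2 * m2) (eS : ↥S ≃* DihedralGroup m) (ρ : X)
    (hρ : ρ = ((eS.symm (DihedralGroup.r 1) : ↥S) : X)) :
    ρ ∈ S ∧
    (∃ z ∈ Subgroup.zpowers ρ, z * z = 1 ∧ z ≠ 1 ∧ ∀ x ∈ S, z * x = x * z) ∧
    (∃ s ∈ S, s ∉ Subgroup.zpowers ρ) := by
  classical
  obtain ⟨hzp, hrk, hnotin, F1, F2, F3⟩ := dih_facts S m eS ρ hρ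
  have hm0 : m ≠ 0 := NeZero.ne m
  have hm2pos : 0 < m2 := by omega
  refine ⟨by rw [hρ]; exact (eS.symm _).2, ?_, ?_⟩
  · obtain ⟨c, hcdef⟩ : ∃ c : ZMod m, c = ((m2 : ℕ) : ZMod m) := ⟨_, rfl⟩
    have hcc : c + c = 0 := by
      have h1 : ((m2 + m2 : ℕ) : ZMod m) = 0 := by
        rw [ZMod.natCast_eq_zero_iff]; exact ⟨1, by omega⟩
      rw [hcdef, ← Nat.cast_add]; exact h1
    have hc0 : c ≠ 0 := by
      intro h
      rw [hcdef, ZMod.natCast_eq_zero_iff] at h
      have := Nat.le_of_dvd hm2pos h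
      omega
    have hneg : -c = c := by
      rw [neg_eq_iff_add_eq_zero]; exact hcc
    refine ⟨((eS.symm (DihedralGroup.r c) : ↥S) : X), hrk c, ?_, ?_, ?_⟩
    · have h1 : eS.symm (DihedralGroup.r c) * eS.symm (DihedralGroup.r c) = 1 := by
        rw [← map_mul, DihedralGroup.r_mul_r, hcc, ← DihedralGroup.one_def, map_one]
      exact congrArg Subtype.val h1
    · intro h
      have h1 : eS.symm (DihedralGroup.r c) = 1 := Subtype.ext h
      have h2 : (DihedralGroup.r c : DihedralGroup m) = 1 := by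
        have h3 := congrArg eS h1
        rwa [MulEquiv.apply_symm_apply, map_one] at h3
      rw [DihedralGroup.one_def] at h2
      apply hc0
      injection h2
    · intro x hx
      have key : eS.symm (DihedralGroup.r c) * ⟨x, hx⟩ = ⟨x, hx⟩ * eS.symm (DihedralGroup.r c) := by
        cases h : eS ⟨x, hx⟩ with
        | r k =>
          have hk : (⟨x, hx⟩ : ↥S) = eS.symm (DihedralGroup.r k) := by
            rw [← h, MulEquiv.symm_apply_apply]
          rw [hk, ← map_mul, ← map_mul, DihedralGroup.r_mul_r, DihedralGroup.r_mul_r, add_comm]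
        | sr k =>
          have hk : (⟨x, hx⟩ : ↥S) = eS.symm (DihedralGroup.sr k) := by
            rw [← h, MulEquiv.symm_apply_apply]
          rw [hk, ← map_mul, ← map_mul, DihedralGroup.r_mul_sr, DihedralGroup.sr_mul_r,
            sub_eq_add_neg, hneg]
      exact congrArg Subtype.val key
  · refine ⟨((eS.symm (DihedralGroup.sr 0) : ↥S) : X), (eS.symm _).2, ?_⟩
    intro h
    obtain ⟨i, hi⟩ := Subgroup.mem_zpowers_iff.mp h
    rw [hzp] at hi
    have h1 : eS.symm (DihedralGroup.r (i : ZMod m)) = eS.symm (DihedralGroup.sr 0) :=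
      Subtype.ext hi
    have h2 := eS.symm.injective h1
    cases h2

end Cfsg.Agent.Lib.Lead.KleinDih
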