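import Cfsg.Agent.Lib.Lead.KleinDih

set_option autoImplicit false
set_option linter.style.haveILetI false
set_option linter.unusedVariables false
set_option linter.unusedSectionVars false

namespace Cfsg.Agent.Lib.Lead.KleinDih

theorem zmod_invol_unique (m : ℕ) [NeZero m] (i j : ZMod m) (hi : i + i = 0)
    (hj : j + j = 0) (hi0 : i ≠ 0) (hj0 : j ≠ 0) : i = j := by
  have key : ∀ k : ZMod m, k + k = 0 → k ≠ 0 → 2 * k.val = m := by
    intro k hk hk0
    have h1 : ((k.val + k.val : ℕ) : ZMod m) = 0 := by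
      rw [Nat.cast_add, ZMod.natCast_zmod_val]; exact hk
    rw [ZMod.natCast_eq_zero_iff] at h1
    have h2 := ZMod.val_lt k
    have h3 : 0 < k.val := Nat.pos_of_ne_zero (fun h => hk0 ((ZMod.val_eq_zero k).mp h))
    obtain ⟨c, hc⟩ := h1
    have hc1 : c = 1 := by
      rcases Nat.lt_or_ge c 2 with h | h
      · interval_cases c
        · omega
        · rfl
      · have h4 : m * 2 ≤ m * c := Nat.mul_le_mul_left _ h
        omega
    subst hc1
    omega
  apply ZMod.val_injective m
  have h1 := key i hi hi0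
  have h2 := key j hj hj0
  omega

/-- the structural facts about a subgroup isomorphic to a dihedral group -/
theorem dih_facts {X : Type*} [Group X] (S : Subgroup X) (m : ℕ) [NeZero m]
    (eS : ↥S ≃* DihedralGroup m) (ρ : X)
    (hρ : ρ = ((eS.symm (DihedralGroup.r 1) : ↥S) : X)) :
    (∀ i : ℤ, ρ ^ i = ((eS.symm (DihedralGroup.r (i : ZMod m)) : ↥S) : X)) ∧
    (∀ k : ZMod m, ((eS.symm (DihedralGroup.r k) : ↥S) : X) ∈ Subgroup.zpowers ρ) ∧
    (∀ x (hx : x ∈ S), x ∉ Subgroup.zpowers ρ →
      ∃ k, (⟨x, hx⟩ : ↥S) = eS.symm (DihedralGroup.sr k)) ∧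
    (∀ x ∈ S, x ∈ Subgroup.zpowers ρ ∨ x * x = 1) ∧
    (∀ x ∈ S, ∀ y ∈ S, x ∉ Subgroup.zpowers ρ → y ∉ Subgroup.zpowers ρ →
      x⁻¹ * y ∈ Subgroup.zpowers ρ) ∧
    (∀ x ∈ Subgroup.zpowers ρ, ∀ y ∈ Subgroup.zpowers ρ, x * x = 1 → y * y = 1 →
      x ≠ 1 → y ≠ 1 → x = y) := by
  classical
  have hzp : ∀ i : ℤ, ρ ^ i = ((eS.symm (DihedralGroup.r (i : ZMod m)) : ↥S) : X) := by
    intro i
    rw [hρ, ← Subgroup.coe_zpow, ← map_zpow, DihedralGroup.r_one_zpow]
  have hrk : ∀ k : ZMod m,
      ((eS.symm (DihedralGroup.r k) : ↥S) : X) ∈ Subgroup.zpowers ρ := by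
    intro k
    rw [Subgroup.mem_zpowers_iff]
    refine ⟨(k.val : ℤ), ?_⟩
    rw [hzp]
    have h1 : (((k.val : ℤ)) : ZMod m) = k := by
      rw [Int.cast_natCast, ZMod.natCast_zmod_val]
    rw [h1]
  have hcases : ∀ x : ↥S, (∃ k, x = eS.symm (DihedralGroup.r k)) ∨
      (∃ k, x = eS.symm (DihedralGroup.sr k)) := by
    intro x
    cases h : eS x with
    | r k => left; exact ⟨k, by rw [← h, MulEquiv.symm_apply_apply]⟩
    | sr k => right; exact ⟨k, by rw [← h, MulEquiv.symm_apply_apply]⟩
  have hnotin : ∀ x (hx : x ∈ S), x ∉ Subgroup.zpowers ρ →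
      ∃ k, (⟨x, hx⟩ : ↥S) = eS.symm (DihedralGroup.sr k) := by
    intro x hx hxR
    rcases hcases ⟨x, hx⟩ with ⟨k, hk⟩ | ⟨k, hk⟩
    · exfalso
      apply hxR
      have h1 := hrk k
      rw [← hk] at h1
      exact h1
    · exact ⟨k, hk⟩
  refine ⟨hzp, hrk, hnotin, ?_, ?_, ?_⟩
  · intro x hx
    by_cases hxR : x ∈ Subgroup.zpowers ρ
    · exact Or.inl hxR
    · right
      obtain ⟨k, hk⟩ := hnotin x hx hxR
      have h1 : (⟨x, hx⟩ : ↥S) * ⟨x, hx⟩ = 1 := by
        rw [hk, ← map_mul, DihedralGroup.sr_mul_self, map_one]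
      exact congrArg Subtype.val h1
  · intro x hx y hy hxR hyR
    obtain ⟨i, hi⟩ := hnotin x hx hxR
    obtain ⟨j, hj⟩ := hnotin y hy hyR
    have h1 : (⟨x, hx⟩ : ↥S)⁻¹ * ⟨y, hy⟩ = eS.symm (DihedralGroup.r (j - i)) := by
      rw [hi, hj, ← map_inv, ← map_mul, DihedralGroup.inv_sr, DihedralGroup.sr_mul_sr]
    have h2 := hrk (j - i)
    rw [← h1] at h2
    exact h2
  · intro x hx y hy hx2 hy2 hx1 hy1
    obtain ⟨i, rfl⟩ := Subgroup.mem_zpowers_iff.mp hx
    obtain ⟨j, rfl⟩ := Subgroup.mem_zpowers_iff.mp hy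
    rw [hzp] at hx2 hx1 ⊢
    rw [hzp] at hy2 hy1 ⊢
    have key : ∀ k : ZMod m,
        ((eS.symm (DihedralGroup.r k) : ↥S) : X) *
          ((eS.symm (DihedralGroup.r k) : ↥S) : X) = 1 →
        ((eS.symm (DihedralGroup.r k) : ↥S) : X) ≠ 1 → k + k = 0 ∧ k ≠ 0 := by
      intro k h2 h1
      constructor
      · have h3 : eS.symm (DihedralGroup.r k) * eS.symm (DihedralGroup.r k) = 1 :=
          Subtype.ext h2
        rw [← map_mul, DihedralGroup.r_mul_r] at h3
        have h4 : (DihedralGroup.r (k + k) : DihedralGroup m) = 1 := by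
          have h5 := congrArg eS h3
          rwa [MulEquiv.apply_symm_apply, map_one] at h5
        rw [DihedralGroup.one_def] at h4
        injection h4
      · intro hk
        apply h1
        rw [hk, ← DihedralGroup.one_def, map_one]
        rfl
    obtain ⟨hi, hi0⟩ := key _ hx2 hx1
    obtain ⟨hj, hj0⟩ := key _ hy2 hy1
    rw [zmod_invol_unique m _ _ hi hj hi0 hj0]

section back2
variable {X : Type*} [Group X] [Finite X]

/-- variant of `back_core` where the Klein four case is a hypothesis about `g` itself -/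
theorem back_core' (S : Subgroup X) (hS2 : IsPGroup 2 ↥S) (ρ : X)
    (F1 : ∀ x ∈ S, x ∈ Subgroup.zpowers ρ ∨ x * x = 1)
    (F2 : ∀ x ∈ S, ∀ y ∈ S, x ∉ Subgroup.zpowers ρ → y ∉ Subgroup.zpowers ρ →
      x⁻¹ * y ∈ Subgroup.zpowers ρ)
    (F3 : ∀ x ∈ Subgroup.zpowers ρ, ∀ y ∈ Subgroup.zpowers ρ, x * x = 1 → y * y = 1 →
      x ≠ 1 → y ≠ 1 → x = y)
    (Q : Subgroup X) (hQS : Q ≤ S) (g : X) (hg : g ∈ Subgroup.normalizer (Q : Set X))
    (hodd : Odd (orderOf g))
    (HKg : IsKleinFour ↥Q → g ∈ Subgroup.centralizer (Q : Set X)) :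
    g ∈ Subgroup.centralizer (Q : Set X) := by
  classical
  have hQ2 : IsPGroup 2 ↥Q := hS2.to_le hQS
  have hgQ : ∀ q ∈ Q, g * q * g⁻¹ ∈ Q := fun q hq => (Subgroup.mem_normalizer_iff.mp hg q).mp hq
  have hgQ' : ∀ q ∈ Q, g⁻¹ * q * g ∈ Q := fun q hq =>
    (Subgroup.mem_normalizer_iff''.mp hg q).mp hq
  suffices hfix : ∀ q ∈ Q, g * q * g⁻¹ = q by
    rw [Subgroup.mem_centralizer_iff]
    intro q hq
    calc q * g = (g * q * g⁻¹) * g := by rw [hfix q hq]
      _ = g * q := by group
  by_cases hcase1 : Q ≤ Subgroup.zpowers ρ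
  · have hc := cyc_centralize Q (isCyclic_of_le_zpowers Q ρ hcase1) hQ2 g hg hodd
    intro q hq
    have h1 := (Subgroup.mem_centralizer_iff.mp hc) q hq
    calc g * q * g⁻¹ = (q * g) * g⁻¹ := by rw [h1]
      _ = q := by group
  · obtain ⟨s, hsQ, hsR⟩ := SetLike.not_le_iff_exists.mp hcase1
    have hs1 : s ≠ 1 := by
      intro h; apply hsR; rw [h]; exact Subgroup.one_mem _
    by_cases hcase2 : ∃ x ∈ Q, x * x ≠ 1
    · obtain ⟨x, hxQ, hx2⟩ := hcase2
      have hxR : x ∈ Subgroup.zpowers ρ := by
        rcases F1 x (hQS hxQ) with h | h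
        · exact h
        · exact absurd h hx2
      have hEQ : nonInv Q ⊆ (Q : Set X) := fun q hq => hq.1
      have hER : nonInv Q ⊆ (Subgroup.zpowers ρ : Set X) := by
        intro q hq
        rcases F1 q (hQS hq.1) with h | h
        · exact h
        · exact absurd h hq.2
      have hQ1Q : Subgroup.closure (nonInv Q) ≤ Q := (Subgroup.closure_le Q).mpr hEQ
      have hQ1R : Subgroup.closure (nonInv Q) ≤ Subgroup.zpowers ρ :=
        (Subgroup.closure_le _).mpr hER
      have hRcomm : ∀ u ∈ Subgroup.zpowers ρ, ∀ v ∈ Subgroup.zpowers ρ, u * v = v * u := by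
        intro u hu v hv
        obtain ⟨i, rfl⟩ := Subgroup.mem_zpowers_iff.mp hu
        obtain ⟨j, rfl⟩ := Subgroup.mem_zpowers_iff.mp hv
        rw [← zpow_add, ← zpow_add, add_comm]
      have hQ01 : ∀ y ∈ Q, y ∈ Subgroup.zpowers ρ → y ∈ Subgroup.closure (nonInv Q) := by
        intro y hyQ hyR
        by_cases hy2 : y * y = 1
        · have hxy : x * y ∈ nonInv Q := by
            refine ⟨Q.mul_mem hxQ hyQ, ?_⟩
            have h1 : x * y * (x * y) = (x * x) * (y * y) := by
              calc x * y * (x * y) = x * (y * x) * y := by group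
                _ = x * (x * y) * y := by rw [hRcomm y hyR x hxR]
                _ = (x * x) * (y * y) := by group
            rw [h1, hy2, mul_one]; exact hx2
          have hxE : x ∈ nonInv Q := ⟨hxQ, hx2⟩
          have h2 : y = x⁻¹ * (x * y) := by group
          rw [h2]
          exact Subgroup.mul_mem _ (Subgroup.inv_mem _ (Subgroup.subset_closure hxE))
            (Subgroup.subset_closure hxy)
        · exact Subgroup.subset_closure ⟨hyQ, hy2⟩
      have hEg : ∀ q ∈ nonInv Q, g * q * g⁻¹ ∈ nonInv Q := by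
        intro q hq
        refine ⟨hgQ q hq.1, ?_⟩
        intro h
        apply hq.2
        have h1 : g * q * g⁻¹ * (g * q * g⁻¹) = g * (q * q) * g⁻¹ := by group
        rw [h1] at h
        exact conj_eq_one_iff.mp h
      have hEg' : ∀ q ∈ nonInv Q, g⁻¹ * q * g⁻¹⁻¹ ∈ nonInv Q := by
        intro q hq
        rw [inv_inv]
        refine ⟨hgQ' q hq.1, ?_⟩
        intro h
        apply hq.2
        have h1 : g⁻¹ * q * g * (g⁻¹ * q * g) = g⁻¹ * (q * q) * g⁻¹⁻¹ := by group
        rw [h1] at h
        exact conj_eq_one_iff.mp h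
      have hQ1g := conj_closure_mem (nonInv Q) g hEg
      have hQ1g' : ∀ y ∈ Subgroup.closure (nonInv Q), g⁻¹ * y * g ∈ Subgroup.closure (nonInv Q) := by
        intro y hy
        have h1 := conj_closure_mem (nonInv Q) g⁻¹ hEg' y hy
        rwa [inv_inv] at h1
      have hgN1 : g ∈ Subgroup.normalizer ((Subgroup.closure (nonInv Q) : Subgroup X) : Set X) := by
        rw [Subgroup.mem_normalizer_iff]
        intro y
        constructor
        · exact hQ1g y
        · intro h
          have h1 := hQ1g' _ h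
          have e : g⁻¹ * (g * y * g⁻¹) * g = y := by group
          rwa [e] at h1
      have hgC1 := cyc_centralize _ (isCyclic_of_le_zpowers _ ρ hQ1R) (hQ2.to_le hQ1Q) g hgN1 hodd
      have hfix1 : ∀ y ∈ Subgroup.closure (nonInv Q), g * y * g⁻¹ = y := by
        intro y hy
        have h1 := (Subgroup.mem_centralizer_iff.mp hgC1) y hy
        calc g * y * g⁻¹ = (y * g) * g⁻¹ := by rw [h1]
          _ = y := by group
      intro q hq
      obtain ⟨c, hcdef⟩ : ∃ c, c = q⁻¹ * (g * q * g⁻¹) := ⟨_, rfl⟩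
      have hc1 : c ∈ Subgroup.closure (nonInv Q) := by
        by_cases hqR : q ∈ Subgroup.zpowers ρ
        · have h1 := hfix1 q (hQ01 q hq hqR)
          rw [hcdef, h1, inv_mul_cancel]; exact Subgroup.one_mem _
        · have hgqR : g * q * g⁻¹ ∉ Subgroup.zpowers ρ := by
            intro h
            have h1 : g * q * g⁻¹ ∈ Subgroup.closure (nonInv Q) := hQ01 _ (hgQ q hq) h
            have h2 := hQ1g' _ h1
            have e : g⁻¹ * (g * q * g⁻¹) * g = q := by group
            rw [e] at h2
            exact hqR (hQ1R h2)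
          have h3 := F2 q (hQS hq) _ (hQS (hgQ q hq)) hqR hgqR
          rw [hcdef]
          exact hQ01 _ (Q.mul_mem (Q.inv_mem hq) (hgQ q hq)) h3
      have hgq : g * q * g⁻¹ = q * c := by rw [hcdef]; group
      have hgc : g * c * g⁻¹ = c := hfix1 c hc1
      have hpow : ∀ j : ℕ, g ^ j * q * (g ^ j)⁻¹ = q * c ^ j := by
        intro j
        induction j with
        | zero => simp
        | succ j ih =>
          have e : g ^ (j + 1) * q * (g ^ (j + 1))⁻¹ = g * (g ^ j * q * (g ^ j)⁻¹) * g⁻¹ := by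
            rw [pow_succ']; group
          have e2 : g * c ^ j * g⁻¹ = c ^ j := by
            rw [← conj_pow, hgc]
          rw [e, ih, conj_mul_eq, hgq, e2, pow_succ', mul_assoc]
      obtain ⟨k, hk⟩ := (IsPGroup.iff_card).mp (hQ2.to_le hQ1Q)
      have hck : c ^ 2 ^ k = 1 := by
        have h1 := pow_card_eq_one' (G := ↥(Subgroup.closure (nonInv Q))) (x := ⟨c, hc1⟩)
        rw [hk] at h1
        exact congrArg Subtype.val h1
      apply fix_of_pow_fix g q k hodd
      rw [hpow, hck, mul_one]
    · push Not at hcase2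
      by_cases hcase3 : ∃ z ∈ Q, z ∈ Subgroup.zpowers ρ ∧ z ≠ 1
      · obtain ⟨z, hzQ, hzR, hz1⟩ := hcase3
        have hmem : ∀ q ∈ Q, q = 1 ∨ q = z ∨ q = s ∨ q = s * z := by
          intro q hq
          by_cases hqR : q ∈ Subgroup.zpowers ρ
          · by_cases hq1 : q = 1
            · exact Or.inl hq1
            · right; left
              exact F3 q hqR z hzR (hcase2 q hq) (hcase2 z hzQ) hq1 hz1
          · have h1 := F2 s (hQS hsQ) q (hQS hq) hsR hqR
            have h2 : s⁻¹ * q ∈ Q := Q.mul_mem (Q.inv_mem hsQ) hq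
            have h5 : q = s * (s⁻¹ * q) := by group
            by_cases h3 : s⁻¹ * q = 1
            · right; right; left
              rw [h5, h3, mul_one]
            · right; right; right
              have h4 := F3 _ h1 z hzR (hcase2 _ h2) (hcase2 z hzQ) h3 hz1
              rw [h5, h4]
        have hsz : s ≠ z := fun h => hsR (h ▸ hzR)
        have hszz : s * z ≠ 1 := by
          intro h
          apply hsR
          have h1 : s = z⁻¹ := eq_inv_of_mul_eq_one_left h
          rw [h1]; exact Subgroup.inv_mem _ hzR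
        have hQset : (Q : Set X) = {1, z, s, s * z} := by
          ext q
          constructor
          · intro hq
            rcases hmem q hq with h | h | h | h <;> simp [h]
          · intro hq
            simp only [Set.mem_insert_iff, Set.mem_singleton_iff] at hq
            rcases hq with h | h | h | h
            · rw [h]; exact Q.one_mem
            · rw [h]; exact hzQ
            · rw [h]; exact hsQ
            · rw [h]; exact Q.mul_mem hsQ hzQ
        have hcard : Nat.card ↥Q = 4 := by
          have h1 : Nat.card ↥Q = (Q : Set X).ncard := Nat.card_coe_set_eq (Q : Set X)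
          rw [h1, hQset]
          rw [Set.ncard_insert_of_notMem, Set.ncard_insert_of_notMem, Set.ncard_pair]
          · intro h; apply hz1
            have h2 : s * 1 = s * z := by rw [mul_one]; exact h
            exact (mul_left_cancel h2).symm
          · simp only [Set.mem_insert_iff, Set.mem_singleton_iff, not_or]
            refine ⟨fun h => hsz h.symm, ?_⟩
            intro h; apply hs1
            have h2 : 1 * z = s * z := by rw [one_mul]; exact h
            exact (mul_right_cancel h2).symm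
          · simp only [Set.mem_insert_iff, Set.mem_singleton_iff, not_or]
            exact ⟨fun h => hz1 h.symm, fun h => hs1 h.symm, fun h => hszz h.symm⟩
        haveI : Nontrivial ↥Q := ⟨⟨⟨s, hsQ⟩, 1, fun h => hs1 (congrArg Subtype.val h)⟩⟩
        have hexp : Monoid.exponent ↥Q = 2 := by
          rw [Monoid.exponent_eq_prime_iff Nat.prime_two]
          intro q hq1
          apply orderOf_eq_prime
          · apply Subtype.ext
            have h1 := hcase2 q.1 q.2
            rw [pow_two]; exact h1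
          · exact hq1
        have hKQ : IsKleinFour ↥Q := ⟨hcard, hexp⟩
        have hc := HKg hKQ
        intro q hq
        have h1 := (Subgroup.mem_centralizer_iff.mp hc) q hq
        calc g * q * g⁻¹ = (q * g) * g⁻¹ := by rw [h1]
          _ = q := by group
      · push Not at hcase3
        have hmem : ∀ q ∈ Q, q = 1 ∨ q = s := by
          intro q hq
          by_cases hqR : q ∈ Subgroup.zpowers ρ
          · exact Or.inl (hcase3 q hq hqR)
          · right
            have h1 := F2 s (hQS hsQ) q (hQS hq) hsR hqR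
            have h2 := hcase3 _ (Q.mul_mem (Q.inv_mem hsQ) hq) h1
            have h3 : q = s * (s⁻¹ * q) := by group
            rw [h3, h2, mul_one]
        intro q hq
        rcases hmem q hq with h | h
        · rw [h]; group
        · rw [h]
          rcases hmem _ (hgQ s hsQ) with h2 | h2
          · exact absurd h2 (conj_ne_one hs1)
          · exact h2

/-- a normalizing element of odd order fixing a nonidentity element of a Klein four-group
centralizes it -/
theorem klein_odd_fix (U : Subgroup X) [IsKleinFour ↥U] (g t : X)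
    (hg : g ∈ Subgroup.normalizer (U : Set X)) (hodd : Odd (orderOf g))
    (htU : t ∈ U) (ht1 : t ≠ 1) (hgt : g * t * g⁻¹ = t) :
    g ∈ Subgroup.centralizer (U : Set X) := by
  obtain ⟨a, haU, ha1, hat⟩ : ∃ a ∈ U, a ≠ 1 ∧ a ≠ t := by
    obtain ⟨a, ha, b, hb, ha1, hb1, hab⟩ := klein_two U
    by_cases h : a = t
    · exact ⟨b, hb, hb1, fun hbt => hab (h.trans hbt.symm)⟩
    · exact ⟨a, ha, ha1, h⟩
  have hta : t ≠ a := fun h => hat h.symm
  have hgaU : g * a * g⁻¹ ∈ U := conj_mem_of_normalizer U hg haU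
  by_cases hga : g * a * g⁻¹ = a
  · exact cent_of_two U htU haU ht1 ha1 hta g hgt hga
  · have hgat : g * a * g⁻¹ ≠ t := by
      intro h
      rw [← hgt] at h
      exact hat (conj_inj h)
    have hga_eq : g * a * g⁻¹ = t * a :=
      klein_third U htU haU hgaU ht1 ha1 hta (conj_ne_one ha1) hgat hga
    have htt : t * t = 1 := klein_sq U t htU
    have e2 : ∀ u : X, g ^ 2 * u * (g ^ 2)⁻¹ = g * (g * u * g⁻¹) * g⁻¹ := by
      intro u
      rw [pow_two]; group
    have h2 : g ^ 2 ∈ Subgroup.centralizer (U : Set X) := by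
      apply cent_of_two U htU haU ht1 ha1 hta
      · rw [e2, hgt, hgt]
      · rw [e2, hga_eq, conj_mul_eq, hgt, hga_eq, ← mul_assoc, htt, one_mul]
    have h3 : g ^ orderOf g ∈ Subgroup.centralizer (U : Set X) := by
      rw [pow_orderOf_eq_one]; exact Subgroup.one_mem _
    have hcop : Nat.Coprime 2 (orderOf g) := hodd.coprime_two_left
    exact mem_of_pow_mem_coprime _ g 2 (orderOf g) hcop h2 h3

end back2

end Cfsg.Agent.Lib.Lead.KleinDih
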