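import Mathlib

set_option autoImplicit false

namespace Cfsg.Agent.Lib.Lead.Heis

universe u

/-- A finite product of cyclic groups of pairwise coprime orders is cyclic. -/
theorem isCyclic_pi_of_pairwise_coprime {ι : Type*} [Fintype ι] (n : ι → ℕ) (hn : ∀ i, 1 < n i)
    (hcop : ∀ i j, i ≠ j → Nat.Coprime (n i) (n j)) :
    IsCyclic ((i : ι) → Multiplicative (ZMod (n i))) := by
  have : ∀ i, NeZero (n i) := fun i => ⟨by have := hn i; omega⟩
  rw [IsCyclic.iff_exponent_eq_card, Monoid.exponent_pi, Nat.card_pi]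
  have h1 : ∀ i, Monoid.exponent (Multiplicative (ZMod (n i))) = n i := fun i => by
    rw [Monoid.exponent_multiplicative, ZMod.exponent]
  have h2 : ∀ i, Nat.card (Multiplicative (ZMod (n i))) = n i := fun i => by
    rw [Nat.card_eq_fintype_card, Fintype.card_multiplicative, ZMod.card]
  simp only [h1, h2]
  apply Finset.lcm_eq_prod
  intro i _ j _ hij
  exact hcop i j hij

/-- A finite abelian group that is not cyclic maps to `ℤ/p × ℤ/p` hitting `(1,0)` and `(0,1)`. -/
theorem exists_hom_of_not_cyclic {G : Type u} [CommGroup G] [Finite G] (hG : ¬ IsCyclic G) :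
    ∃ (p : ℕ) (_ : p.Prime) (f : G →* Multiplicative (ZMod p × ZMod p)) (gx gy : G),
      f gx = Multiplicative.ofAdd ((1 : ZMod p), (0 : ZMod p)) ∧
      f gy = Multiplicative.ofAdd ((0 : ZMod p), (1 : ZMod p)) := by
  classical
  obtain ⟨ι, hι, n, hn, ⟨e⟩⟩ := CommGroup.equiv_prod_multiplicative_zmod_of_finite G
  have hpair : ∃ i j, i ≠ j ∧ ¬ Nat.Coprime (n i) (n j) := by
    by_contra hcon
    push Not at hcon
    have := isCyclic_pi_of_pairwise_coprime n hn hcon
    exact hG (isCyclic_of_surjective e.symm e.symm.surjective)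
  obtain ⟨i, j, hij, hnc⟩ := hpair
  obtain ⟨p, hp, hpd⟩ := Nat.exists_prime_and_dvd hnc
  have hpi : p ∣ n i := hpd.trans (Nat.gcd_dvd_left _ _)
  have hpj : p ∣ n j := hpd.trans (Nat.gcd_dvd_right _ _)
  -- the coordinate maps
  let φ : ((k : ι) → Multiplicative (ZMod (n k))) →* Multiplicative (ZMod p × ZMod p) :=
    { toFun := fun x => Multiplicative.ofAdd
        (ZMod.castHom hpi (ZMod p) (Multiplicative.toAdd (x i)),
          ZMod.castHom hpj (ZMod p) (Multiplicative.toAdd (x j)))
      map_one' := by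
        show Multiplicative.ofAdd (ZMod.castHom hpi (ZMod p) 0, ZMod.castHom hpj (ZMod p) 0) = 1
        rw [map_zero, map_zero]; rfl
      map_mul' := by
        intro x y
        show Multiplicative.ofAdd
            (ZMod.castHom hpi (ZMod p) (Multiplicative.toAdd (x i) + Multiplicative.toAdd (y i)),
              ZMod.castHom hpj (ZMod p) (Multiplicative.toAdd (x j) + Multiplicative.toAdd (y j))) = _
        rw [map_add, map_add]; rfl }
  refine ⟨p, hp, φ.comp e.toMonoidHom,
    e.symm (Pi.mulSingle i (Multiplicative.ofAdd 1)), e.symm (Pi.mulSingle j (Multiplicative.ofAdd 1)),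
    ?_, ?_⟩
  · show φ (e (e.symm _)) = _
    rw [MulEquiv.apply_symm_apply]
    show Multiplicative.ofAdd (_, _) = _
    rw [Pi.mulSingle_eq_same, Pi.mulSingle_eq_of_ne hij.symm]
    show Multiplicative.ofAdd (ZMod.castHom hpi (ZMod p) 1, ZMod.castHom hpj (ZMod p) 0) = _
    rw [map_one, map_zero]
  · show φ (e (e.symm _)) = _
    rw [MulEquiv.apply_symm_apply]
    show Multiplicative.ofAdd (_, _) = _
    rw [Pi.mulSingle_eq_same, Pi.mulSingle_eq_of_ne hij]
    show Multiplicative.ofAdd (ZMod.castHom hpi (ZMod p) 0, ZMod.castHom hpj (ZMod p) 1) = _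
    rw [map_one, map_zero]

end Cfsg.Agent.Lib.Lead.Heis
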