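import Mathlib
import Cfsg.Agent.Lib.Helper4.ConjSub

set_option autoImplicit false

namespace Cfsg.Agent.Lib.Lead.Clifford

open Cfsg.Agent.Lib.Helper4

variable {G : Type*} [Group G]

/-- elementwise invariance of `W` under conjugation by `K` -/
def Inv (K W : Subgroup G) : Prop := ∀ k ∈ K, ∀ w ∈ W, k * w * k⁻¹ ∈ W

theorem le_normalizer_iff_inv (K W : Subgroup G) :
    K ≤ Subgroup.normalizer (W : Set G) ↔ Inv K W := by
  constructor
  · intro h k hk w hw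
    exact (Subgroup.mem_normalizer_iff.1 (h hk) w).1 hw
  · intro h k hk
    rw [Subgroup.mem_normalizer_iff]
    intro w
    constructor
    · exact h k hk w
    · intro hw
      have h1 := h k⁻¹ (K.inv_mem hk) _ hw
      have e : k⁻¹ * (k * w * k⁻¹) * k⁻¹⁻¹ = w := by group
      rwa [e] at h1

theorem Inv.mono_left {K K' W : Subgroup G} (h : Inv K W) (hK : K' ≤ K) : Inv K' W :=
  fun k hk w hw => h k (hK hk) w hw

theorem inv_bot (K : Subgroup G) : Inv K ⊥ := by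
  intro k _ w hw
  rw [Subgroup.mem_bot] at hw ⊢
  rw [hw]; group

theorem inv_inf {K W₁ W₂ : Subgroup G} (h₁ : Inv K W₁) (h₂ : Inv K W₂) : Inv K (W₁ ⊓ W₂) :=
  fun k hk w hw => ⟨h₁ k hk w hw.1, h₂ k hk w hw.2⟩

theorem inv_sup {K W₁ W₂ : Subgroup G} (h₁ : Inv K W₁) (h₂ : Inv K W₂) : Inv K (W₁ ⊔ W₂) := by
  intro k hk w hw
  have hle : W₁ ⊔ W₂ ≤ (W₁ ⊔ W₂).comap (MulAut.conj k).toMonoidHom := by
    apply sup_le
    · intro x hx
      simp only [Subgroup.mem_comap, MulEquiv.coe_toMonoidHom, MulAut.conj_apply]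
      exact (le_sup_left : W₁ ≤ W₁ ⊔ W₂) (h₁ k hk x hx)
    · intro x hx
      simp only [Subgroup.mem_comap, MulEquiv.coe_toMonoidHom, MulAut.conj_apply]
      exact (le_sup_right : W₂ ≤ W₁ ⊔ W₂) (h₂ k hk x hx)
  have := hle hw
  simpa only [Subgroup.mem_comap, MulEquiv.coe_toMonoidHom, MulAut.conj_apply] using this

theorem inv_sSup {K : Subgroup G} {𝒮 : Set (Subgroup G)} (h : ∀ W ∈ 𝒮, Inv K W) :
    Inv K (sSup 𝒮) := by
  intro k hk w hw
  have hle : sSup 𝒮 ≤ (sSup 𝒮).comap (MulAut.conj k).toMonoidHom := by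
    apply sSup_le
    intro W hW x hx
    simp only [Subgroup.mem_comap, MulEquiv.coe_toMonoidHom, MulAut.conj_apply]
    exact (le_sSup hW : W ≤ sSup 𝒮) (h W hW k hk x hx)
  have := hle hw
  simpa only [Subgroup.mem_comap, MulEquiv.coe_toMonoidHom, MulAut.conj_apply] using this

/-- conjugates of an `A`-invariant subgroup by an element normalizing `A` are `A`-invariant -/
theorem inv_cj {H A M : Subgroup G} (hHA : Inv H A) (hM : Inv A M) {h : G} (hh : h ∈ H) :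
    Inv A (cj h M) := by
  intro a ha x hx
  rw [mem_cj_iff] at hx ⊢
  have h1 : h⁻¹ * a * h⁻¹⁻¹ ∈ A := hHA h⁻¹ (H.inv_mem hh) a ha
  rw [inv_inv] at h1
  have h2 := hM _ h1 _ hx
  have e : h⁻¹ * a * h * (h⁻¹ * x * h) * (h⁻¹ * a * h)⁻¹ = h⁻¹ * (a * x * a⁻¹) * h := by group
  rwa [e] at h2

theorem cj_le_of_inv {H V M : Subgroup G} (hHV : Inv H V) (hMV : M ≤ V) {h : G} (hh : h ∈ H) :
    cj h M ≤ V := by
  intro x hx
  rw [mem_cj_iff] at hx
  have h1 := hHV h hh _ (hMV hx)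
  have e : h * (h⁻¹ * x * h) * h⁻¹ = x := by group
  rwa [e] at h1

theorem cj_inv_cj (h : G) (M : Subgroup G) : cj h⁻¹ (cj h M) = M := by
  rw [← cj_mul, inv_mul_cancel, cj_one]

theorem cj_cj_inv (h : G) (M : Subgroup G) : cj h (cj h⁻¹ M) = M := by
  rw [← cj_mul, mul_inv_cancel, cj_one]

/-- minimal nontrivial `K`-invariant subgroups of `V` -/
def MinInv (K V M : Subgroup G) : Prop :=
  M ≠ ⊥ ∧ M ≤ V ∧ Inv K M ∧ ∀ M' : Subgroup G, M' ≤ M → Inv K M' → M' = ⊥ ∨ M' = M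

theorem exists_minInv [Finite G] {K V W : Subgroup G} (hW : W ≠ ⊥) (hWV : W ≤ V)
    (hinv : Inv K W) : ∃ M ≤ W, MinInv K V M := by
  obtain ⟨M, hMW, ⟨hM1, hMinv⟩, hmin⟩ := Finite.exists_le_minimal
    (p := fun M : Subgroup G => M ≠ ⊥ ∧ Inv K M) (a := W) ⟨hW, hinv⟩
  refine ⟨M, hMW, hM1, le_trans hMW hWV, hMinv, ?_⟩
  intro M' hM'M hM'inv
  by_cases h : M' = ⊥
  · exact Or.inl h
  · exact Or.inr (le_antisymm hM'M (hmin ⟨h, hM'inv⟩ hM'M))

theorem minInv_cj {H A V M : Subgroup G} (hHA : Inv H A) (hHV : Inv H V) (hM : MinInv A V M)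
    {h : G} (hh : h ∈ H) : MinInv A V (cj h M) := by
  obtain ⟨hM1, hMV, hMinv, hMmin⟩ := hM
  refine ⟨?_, cj_le_of_inv hHV hMV hh, inv_cj hHA hMinv hh, ?_⟩
  · intro hbot
    apply hM1
    rw [← cj_inv_cj h M, hbot]
    exact Subgroup.map_bot _
  · intro M' hM' hM'inv
    have h1 : cj h⁻¹ M' ≤ M := by
      have := cj_mono h⁻¹ hM'
      rwa [cj_inv_cj] at this
    have h2 : Inv A (cj h⁻¹ M') := inv_cj hHA hM'inv (H.inv_mem hh)
    rcases hMmin _ h1 h2 with h3 | h3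
    · left
      rw [← cj_cj_inv h M', h3]
      exact Subgroup.map_bot _
    · right
      rw [← cj_cj_inv h M', h3]

/-- the product of two elementwise commuting subgroups -/
def mulSub (W M : Subgroup G) (hc : ∀ w ∈ W, ∀ m ∈ M, w * m = m * w) : Subgroup G where
  carrier := {x | ∃ w ∈ W, ∃ m ∈ M, x = w * m}
  one_mem' := ⟨1, W.one_mem, 1, M.one_mem, by rw [one_mul]⟩
  mul_mem' := by
    rintro _ _ ⟨w, hw, m, hm, rfl⟩ ⟨w', hw', m', hm', rfl⟩
    refine ⟨w * w', W.mul_mem hw hw', m * m', M.mul_mem hm hm', ?_⟩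
    calc w * m * (w' * m') = w * (m * w') * m' := by group
      _ = w * (w' * m) * m' := by rw [hc w' hw' m hm]
      _ = w * w' * (m * m') := by group
  inv_mem' := by
    rintro _ ⟨w, hw, m, hm, rfl⟩
    refine ⟨w⁻¹, W.inv_mem hw, m⁻¹, M.inv_mem hm, ?_⟩
    rw [mul_inv_rev, hc w⁻¹ (W.inv_mem hw) m⁻¹ (M.inv_mem hm)]

theorem exists_mul_of_mem_sup {W M : Subgroup G} (hc : ∀ w ∈ W, ∀ m ∈ M, w * m = m * w)
    {x : G} (hx : x ∈ W ⊔ M) : ∃ w ∈ W, ∃ m ∈ M, x = w * m := by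
  have hle : W ⊔ M ≤ mulSub W M hc := by
    apply sup_le
    · intro w hw; exact ⟨w, hw, 1, M.one_mem, by rw [mul_one]⟩
    · intro m hm; exact ⟨1, W.one_mem, m, hm, by rw [one_mul]⟩
  exact hle hx

theorem clifford [Finite G] (H A V : Subgroup G) (hVab : IsMulCommutative V) (hHV : Inv H V)
    (hAH : A ≤ H) (hHA : Inv H A)
    (hss : ∀ U : Subgroup G, U ≤ V → Inv H U →
      ∃ W : Subgroup G, W ≤ V ∧ Inv H W ∧ U ⊓ W = ⊥ ∧ U ⊔ W = V)
    (U : Subgroup G) (hUV : U ≤ V) (hAU : Inv A U) :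
    ∃ W : Subgroup G, W ≤ V ∧ Inv A W ∧ U ⊓ W = ⊥ ∧ U ⊔ W = V := by
  classical
  have hVc : ∀ a ∈ V, ∀ b ∈ V, a * b = b * a := fun a ha b hb =>
    congrArg Subtype.val (hVab.is_comm.comm ⟨a, ha⟩ ⟨b, hb⟩)
  -- (a) V is the sup of the minimal H-invariant subgroups
  have hSH : V ≤ sSup {M | MinInv H V M} := by
    have h1 : sSup {M | MinInv H V M} ≤ V := sSup_le (fun M hM => hM.2.1)
    have h2 : Inv H (sSup {M | MinInv H V M}) := inv_sSup (fun M hM => hM.2.2.1)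
    obtain ⟨W, hWV, hWinv, hdisj, hsup⟩ := hss _ h1 h2
    have hW : W = ⊥ := by
      by_contra hW
      obtain ⟨M, hMW, hM⟩ := exists_minInv hW hWV hWinv
      apply hM.1
      rw [eq_bot_iff, ← hdisj]
      exact le_inf (le_sSup hM) hMW
    rw [hW, sup_bot_eq] at hsup
    rw [hsup]
  -- (b) V is the sup of the minimal A-invariant subgroups
  have hSA : V ≤ sSup {M | MinInv A V M} := by
    refine le_trans hSH (sSup_le ?_)
    intro M₁ hM₁
    obtain ⟨hM₁1, hM₁V, hM₁inv, hM₁min⟩ := hM₁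
    obtain ⟨M₀, hM₀M₁, hM₀⟩ := exists_minInv (K := A) hM₁1 hM₁V (hM₁inv.mono_left hAH)
    have hT1 : sSup {B | ∃ h ∈ H, B = cj h M₀} ≤ sSup {M | MinInv A V M} := by
      apply sSup_le
      rintro B ⟨h, hh, rfl⟩
      exact le_sSup (minInv_cj hHA hHV hM₀ hh)
    have hT2 : sSup {B | ∃ h ∈ H, B = cj h M₀} ≤ M₁ := by
      apply sSup_le
      rintro B ⟨h, hh, rfl⟩
      exact cj_le_of_inv hM₁inv hM₀M₁ hh
    have hT3 : Inv H (sSup {B | ∃ h ∈ H, B = cj h M₀}) := by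
      intro k hk w hw
      have hle : sSup {B | ∃ h ∈ H, B = cj h M₀} ≤
          (sSup {B | ∃ h ∈ H, B = cj h M₀}).comap (MulAut.conj k).toMonoidHom := by
        apply sSup_le
        rintro B ⟨h, hh, rfl⟩ x hx
        simp only [Subgroup.mem_comap, MulEquiv.coe_toMonoidHom, MulAut.conj_apply]
        have h1 : k * x * k⁻¹ ∈ cj (k * h) M₀ := by
          rw [mem_cj_iff] at hx ⊢
          have e : (k * h)⁻¹ * (k * x * k⁻¹) * (k * h) = h⁻¹ * x * h := by group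
          rw [e]; exact hx
        exact (le_sSup ⟨k * h, H.mul_mem hk hh, rfl⟩ :
          cj (k * h) M₀ ≤ sSup {B | ∃ h ∈ H, B = cj h M₀}) h1
      have := hle hw
      simpa only [Subgroup.mem_comap, MulEquiv.coe_toMonoidHom, MulAut.conj_apply] using this
    have hT4 : sSup {B | ∃ h ∈ H, B = cj h M₀} ≠ ⊥ := by
      intro hbot
      apply hM₀.1
      rw [eq_bot_iff, ← hbot]
      exact le_sSup ⟨1, H.one_mem, (cj_one M₀).symm⟩
    rcases hM₁min _ hT2 hT3 with h | h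
    · exact absurd h hT4
    · rw [← h]; exact hT1
  -- (c) the complement
  obtain ⟨W, -, ⟨hWV, hWinv, hUW⟩, hmax⟩ := Finite.exists_le_maximal
    (p := fun W : Subgroup G => W ≤ V ∧ Inv A W ∧ U ⊓ W = ⊥) (a := ⊥)
    ⟨bot_le, inv_bot A, inf_bot_eq _⟩
  refine ⟨W, hWV, hWinv, hUW, le_antisymm (sup_le hUV hWV) ?_⟩
  refine le_trans hSA (sSup_le ?_)
  intro M hM
  obtain ⟨hM1, hMV, hMinv, hMmin⟩ := hM
  rcases hMmin (M ⊓ (U ⊔ W)) inf_le_left (inv_inf hMinv (inv_sup hAU hWinv)) with h | h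
  · have hW' : W ⊔ M ≤ W := by
      apply hmax ⟨sup_le hWV hMV, inv_sup hWinv hMinv, ?_⟩ le_sup_left
      rw [eq_bot_iff]
      rintro u ⟨huU, huWM⟩
      rw [Subgroup.mem_bot]
      obtain ⟨w, hw, m, hm, rfl⟩ := exists_mul_of_mem_sup
        (fun w hw m hm => hVc w (hWV hw) m (hMV hm)) huWM
      have hm1 : m ∈ M ⊓ (U ⊔ W) := by
        refine ⟨hm, ?_⟩
        have e : m = w⁻¹ * (w * m) := by group
        rw [e]
        exact Subgroup.mul_mem _ ((le_sup_right : W ≤ U ⊔ W) (W.inv_mem hw))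
          ((le_sup_left : U ≤ U ⊔ W) huU)
      rw [h, Subgroup.mem_bot] at hm1
      rw [hm1, mul_one] at huU ⊢
      have hw1 : w ∈ U ⊓ W := ⟨huU, hw⟩
      rw [hUW, Subgroup.mem_bot] at hw1
      exact hw1
    exact le_trans (le_trans le_sup_right hW') le_sup_right
  · rw [← h]; exact inf_le_right

end Cfsg.Agent.Lib.Lead.Clifford
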