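import Mathlib

set_option autoImplicit false

namespace Cfsg.Agent.Lib.Lead

open Finset
open scoped Classical

/-- Lemma A: the elements of a coset `q` of `N` commuting with `u` inject into `C_N(u)`. -/
theorem card_coset_commute_le {X : Type*} [Group X] [Fintype X]
    (N : Subgroup X) (q : X ⧸ N) (u : X) :
    (univ.filter (fun b : X => (QuotientGroup.mk b : X ⧸ N) = q ∧ Commute b u)).card ≤
      (univ.filter (fun n : N => Commute (n : X) u)).card := by
  by_cases hne : (univ.filter (fun b : X => (QuotientGroup.mk b : X ⧸ N) = q ∧ Commute b u)).Nonempty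
  · obtain ⟨b0, hb0⟩ := hne
    rw [mem_filter] at hb0
    obtain ⟨-, hb0q, hb0u⟩ := hb0
    let f : X → N := fun b => if h : b0⁻¹ * b ∈ N then ⟨b0⁻¹ * b, h⟩ else 1
    apply Finset.card_le_card_of_injOn f
    · intro b hb
      rw [mem_coe, mem_filter] at hb
      obtain ⟨-, hbq, hbu⟩ := hb
      have hmem : b0⁻¹ * b ∈ N := by
        rw [← QuotientGroup.eq, hb0q, hbq]
      rw [mem_coe, mem_filter]
      refine ⟨mem_univ _, ?_⟩
      simp only [f, dif_pos hmem]
      exact (hb0u.inv_left).mul_left hbu
    · intro b hb c hc hbc
      rw [mem_coe, mem_filter] at hb hc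
      have hmemb : b0⁻¹ * b ∈ N := by
        rw [← QuotientGroup.eq, hb0q, hb.2.1]
      have hmemc : b0⁻¹ * c ∈ N := by
        rw [← QuotientGroup.eq, hb0q, hc.2.1]
      simp only [f, dif_pos hmemb, dif_pos hmemc] at hbc
      have := congrArg Subtype.val hbc
      exact mul_left_cancel this
  · rw [not_nonempty_iff_eq_empty] at hne
    rw [hne]; simp


/-- Number of commuting pairs as a double sum. -/
theorem card_comm_pairs_eq_sum {X : Type*} [Mul X] [Fintype X] :
    (univ.filter (fun p : X × X => Commute p.1 p.2)).card =
      ∑ a : X, (univ.filter (fun b : X => Commute a b)).card := by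
  rw [Finset.card_filter, Fintype.sum_prod_type]
  apply Finset.sum_congr rfl
  intro a _
  rw [Finset.card_filter]

/-- Sum of `|C_N(a)|` over a coset is at most the number of commuting pairs of `N`. -/
theorem sum_coset_card_le {X : Type*} [Group X] [Fintype X] (N : Subgroup X) (r : X ⧸ N) :
    ∑ a ∈ univ.filter (fun a : X => (QuotientGroup.mk a : X ⧸ N) = r),
        (univ.filter (fun n : N => Commute (n : X) a)).card ≤
      (univ.filter (fun p : N × N => Commute p.1 p.2)).card := by
  calc ∑ a ∈ univ.filter (fun a : X => (QuotientGroup.mk a : X ⧸ N) = r),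
        (univ.filter (fun n : N => Commute (n : X) a)).card
      = ∑ a ∈ univ.filter (fun a : X => (QuotientGroup.mk a : X ⧸ N) = r),
          ∑ n : N, (if Commute (n : X) a then 1 else 0) := by
        apply Finset.sum_congr rfl
        intro a _
        rw [Finset.card_filter]
    _ = ∑ n : N, ∑ a ∈ univ.filter (fun a : X => (QuotientGroup.mk a : X ⧸ N) = r),
          (if Commute (n : X) a then 1 else 0) := Finset.sum_comm
    _ = ∑ n : N, (univ.filter (fun a : X => (QuotientGroup.mk a : X ⧸ N) = r ∧
          Commute a (n : X))).card := by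
        apply Finset.sum_congr rfl
        intro n _
        rw [← Finset.sum_filter, Finset.filter_filter, Finset.card_eq_sum_ones]
        apply Finset.sum_congr
        · ext a
          simp only [mem_filter, mem_univ, true_and]
          exact ⟨fun h => ⟨h.1, h.2.symm⟩, fun h => ⟨h.1, h.2.symm⟩⟩
        · intros; rfl
    _ ≤ ∑ n : N, (univ.filter (fun n' : N => Commute (n' : X) (n : X))).card := by
        apply Finset.sum_le_sum
        intro n _
        exact card_coset_commute_le N r (n : X)
    _ = (univ.filter (fun p : N × N => Commute p.1 p.2)).card := by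
        rw [Finset.card_filter, Fintype.sum_prod_type, Finset.sum_comm]
        apply Finset.sum_congr rfl
        intro n _
        rw [Finset.card_filter]
        apply Finset.sum_congr rfl
        intro n' _
        have : Commute (n' : X) (n : X) ↔ Commute n' n := by
          constructor
          · intro h; exact Subtype.ext h
          · intro h; exact congrArg Subtype.val h
        simp only [this]

/-- Commuting pairs of `X` are at most commuting pairs of `N` times commuting pairs of `X ⧸ N`. -/
theorem card_comm_pairs_le {X : Type*} [Group X] [Fintype X] (N : Subgroup X) [N.Normal] :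
    (univ.filter (fun p : X × X => Commute p.1 p.2)).card ≤
      (univ.filter (fun p : N × N => Commute p.1 p.2)).card *
        (univ.filter (fun p : (X ⧸ N) × (X ⧸ N) => Commute p.1 p.2)).card := by
  rw [card_comm_pairs_eq_sum]
  -- S2
  have hS2 : ∀ a : X, (univ.filter (fun b : X => Commute a b)).card ≤
      (univ.filter (fun n : N => Commute (n : X) a)).card *
        (univ.filter (fun q : X ⧸ N => Commute (QuotientGroup.mk a : X ⧸ N) q)).card := by
    intro a
    have h1 := Finset.card_le_mul_card_image (f := fun b : X => (QuotientGroup.mk b : X ⧸ N))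
      (univ.filter (fun b : X => Commute a b))
      (univ.filter (fun n : N => Commute (n : X) a)).card ?_
    · refine h1.trans (Nat.mul_le_mul_left _ (Finset.card_le_card ?_))
      intro q hq
      rw [mem_image] at hq
      obtain ⟨b, hb, rfl⟩ := hq
      rw [mem_filter] at hb ⊢
      refine ⟨mem_univ _, ?_⟩
      have := hb.2
      exact this.map (QuotientGroup.mk' N)
    · intro q _
      rw [Finset.filter_filter]
      refine le_trans (Finset.card_le_card ?_) (card_coset_commute_le N q a)
      intro b hb
      rw [mem_filter] at hb ⊢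
      exact ⟨mem_univ _, hb.2.2, hb.2.1.symm⟩
  calc ∑ a : X, (univ.filter (fun b : X => Commute a b)).card
      ≤ ∑ a : X, (univ.filter (fun n : N => Commute (n : X) a)).card *
        (univ.filter (fun q : X ⧸ N => Commute (QuotientGroup.mk a : X ⧸ N) q)).card :=
        Finset.sum_le_sum (fun a _ => hS2 a)
    _ = ∑ r : X ⧸ N, ∑ a ∈ univ.filter (fun a : X => (QuotientGroup.mk a : X ⧸ N) = r),
          (univ.filter (fun n : N => Commute (n : X) a)).card *
          (univ.filter (fun q : X ⧸ N => Commute (QuotientGroup.mk a : X ⧸ N) q)).card :=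
        (Finset.sum_fiberwise univ (fun a : X => (QuotientGroup.mk a : X ⧸ N)) _).symm
    _ = ∑ r : X ⧸ N, (∑ a ∈ univ.filter (fun a : X => (QuotientGroup.mk a : X ⧸ N) = r),
          (univ.filter (fun n : N => Commute (n : X) a)).card) *
          (univ.filter (fun q : X ⧸ N => Commute r q)).card := by
        apply Finset.sum_congr rfl
        intro r _
        rw [Finset.sum_mul]
        apply Finset.sum_congr rfl
        intro a ha
        rw [mem_filter] at ha
        rw [ha.2]
    _ ≤ ∑ r : X ⧸ N, (univ.filter (fun p : N × N => Commute p.1 p.2)).card *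
          (univ.filter (fun q : X ⧸ N => Commute r q)).card := by
        apply Finset.sum_le_sum
        intro r _
        exact Nat.mul_le_mul_right _ (sum_coset_card_le N r)
    _ = (univ.filter (fun p : N × N => Commute p.1 p.2)).card *
        (univ.filter (fun p : (X ⧸ N) × (X ⧸ N) => Commute p.1 p.2)).card := by
        rw [← Finset.mul_sum]
        congr 1
        exact card_comm_pairs_eq_sum.symm

/-- Gallagher: `k(X) ≤ k(N) * k(X ⧸ N)` for a normal subgroup `N` of a finite group. -/
theorem card_conjClasses_le_mul {X : Type*} [Group X] [Finite X] (N : Subgroup X) [N.Normal] :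
    Nat.card (ConjClasses X) ≤ Nat.card (ConjClasses N) * Nat.card (ConjClasses (X ⧸ N)) := by
  have : Fintype X := Fintype.ofFinite X
  have h := card_comm_pairs_le N
  have e : ∀ (Y : Type _) [Group Y] [Fintype Y],
      (univ.filter (fun p : Y × Y => Commute p.1 p.2)).card =
        Nat.card (ConjClasses Y) * Nat.card Y := by
    intro Y _ _
    rw [← card_comm_eq_card_conjClasses_mul_card, Nat.card_eq_fintype_card, Fintype.card_subtype]
  rw [e X, e N, e (X ⧸ N)] at h
  have hcard : Nat.card X = Nat.card N * Nat.card (X ⧸ N) := by
    rw [← Subgroup.index_eq_card, mul_comm]; exact (Subgroup.index_mul_card N).symm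
  have hpos : 0 < Nat.card X := Nat.card_pos
  rw [hcard] at h hpos
  have h2 : Nat.card (ConjClasses X) * (Nat.card N * Nat.card (X ⧸ N)) ≤
      (Nat.card (ConjClasses N) * Nat.card (ConjClasses (X ⧸ N))) *
        (Nat.card N * Nat.card (X ⧸ N)) := by
    calc _ ≤ _ := h
      _ = _ := by ring
  exact Nat.le_of_mul_le_mul_right h2 hpos


/-- `|C_X(a)| ≤ |C_N(a)| * (number of cosets of `N` met by `C_X(a)`)`. -/
theorem card_commute_le_mul_image {X : Type*} [Group X] [Fintype X] (N : Subgroup X) (a : X) :
    (univ.filter (fun b : X => Commute a b)).card ≤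
      (univ.filter (fun n : N => Commute (n : X) a)).card *
        ((univ.filter (fun b : X => Commute a b)).image
          (fun b : X => (QuotientGroup.mk b : X ⧸ N))).card := by
  apply Finset.card_le_mul_card_image
  intro q _
  rw [Finset.filter_filter]
  refine le_trans (Finset.card_le_card ?_) (card_coset_commute_le N q a)
  intro b hb
  rw [mem_filter] at hb ⊢
  exact ⟨mem_univ _, hb.2.2, hb.2.1.symm⟩

/-- `∑_{a ∈ X} |C_Y(a)| = ∑_{y ∈ Y} |C_X(y)|`. -/
theorem sum_card_commute_swap {X : Type*} [Group X] [Fintype X] (Y : Subgroup X) :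
    ∑ a : X, (univ.filter (fun n : Y => Commute (n : X) a)).card =
      ∑ y : Y, (univ.filter (fun b : X => Commute (y : X) b)).card := by
  simp_rw [Finset.card_filter]
  exact Finset.sum_comm

theorem card_comm_pairs_eq_mul {Y : Type*} [Group Y] [Fintype Y] :
    (univ.filter (fun p : Y × Y => Commute p.1 p.2)).card =
      Nat.card (ConjClasses Y) * Nat.card Y := by
  rw [← card_comm_eq_card_conjClasses_mul_card, Nat.card_eq_fintype_card, Fintype.card_subtype]

theorem card_comm_pairs_subgroup_eq_sum {X : Type*} [Group X] [Fintype X] (Y : Subgroup X) :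
    (univ.filter (fun p : Y × Y => Commute p.1 p.2)).card =
      ∑ y : Y, (univ.filter (fun n : Y => Commute (n : X) (y : X))).card := by
  rw [Finset.card_filter, Fintype.sum_prod_type, Finset.sum_comm]
  apply Finset.sum_congr rfl
  intro n _
  rw [Finset.card_filter]
  apply Finset.sum_congr rfl
  intro n' _
  have : Commute (n' : X) (n : X) ↔ Commute n' n := by
    constructor
    · intro h; exact Subtype.ext h
    · intro h; exact congrArg Subtype.val h
  simp only [this]

/-- `k(X) ≤ [X:Y] k(Y)`, strictly if `Y` is not normal. -/
theorem card_conjClasses_le_index_mul {X : Type*} [Group X] [Finite X] (Y : Subgroup X) :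
    Nat.card (ConjClasses X) ≤ Y.index * Nat.card (ConjClasses Y) ∧
      (¬ Y.Normal → Nat.card (ConjClasses X) < Y.index * Nat.card (ConjClasses Y)) := by
  have : Fintype X := Fintype.ofFinite X
  have hidx : Fintype.card (X ⧸ Y) = Y.index := by
    rw [Subgroup.index, Nat.card_eq_fintype_card]
  -- the basic bound
  have hb : ∀ a : X, (univ.filter (fun b : X => Commute a b)).card ≤
      (univ.filter (fun n : Y => Commute (n : X) a)).card * Y.index := by
    intro a
    refine (card_commute_le_mul_image Y a).trans (Nat.mul_le_mul_left _ ?_)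
    rw [← hidx]
    exact Finset.card_le_univ _
  have h1 : (univ.filter (fun p : X × X => Commute p.1 p.2)).card ≤
      (∑ y : Y, (univ.filter (fun b : X => Commute (y : X) b)).card) * Y.index := by
    rw [card_comm_pairs_eq_sum, ← sum_card_commute_swap, Finset.sum_mul]
    exact Finset.sum_le_sum (fun a _ => hb a)
  have h2 : (∑ y : Y, (univ.filter (fun b : X => Commute (y : X) b)).card) ≤
      (univ.filter (fun p : Y × Y => Commute p.1 p.2)).card * Y.index := by
    rw [card_comm_pairs_subgroup_eq_sum, Finset.sum_mul]
    exact Finset.sum_le_sum (fun y _ => hb (y : X))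
  have hcard : Nat.card X = Nat.card Y * Y.index := (Subgroup.card_mul_index Y).symm
  have hpos : 0 < Nat.card X := Nat.card_pos
  have hipos : 0 < Y.index := Nat.pos_of_ne_zero Subgroup.index_ne_zero_of_finite
  rw [card_comm_pairs_eq_mul] at h1
  rw [card_comm_pairs_eq_mul] at h2
  constructor
  · have h3 : Nat.card (ConjClasses X) * Nat.card X ≤
        (Y.index * Nat.card (ConjClasses Y)) * Nat.card X := by
      calc Nat.card (ConjClasses X) * Nat.card X
          ≤ (∑ y : Y, (univ.filter (fun b : X => Commute (y : X) b)).card) * Y.index := h1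
        _ ≤ (Nat.card (ConjClasses Y) * Nat.card Y * Y.index) * Y.index :=
            Nat.mul_le_mul_right _ h2
        _ = (Y.index * Nat.card (ConjClasses Y)) * Nat.card X := by rw [hcard]; ring
    exact Nat.le_of_mul_le_mul_right h3 hpos
  · intro hn
    -- find y ∈ Y and g with g y g⁻¹ ∉ Y
    have hex : ∃ y ∈ Y, ∃ g : X, g * y * g⁻¹ ∉ Y := by
      by_contra hcon
      push Not at hcon
      exact hn ⟨fun y hy g => hcon y hy g⟩
    obtain ⟨y0, hy0, g, hg⟩ := hex
    -- strict bound at y0
    have hstrict : (univ.filter (fun b : X => Commute y0 b)).card <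
        (univ.filter (fun n : Y => Commute (n : X) y0)).card * Y.index := by
      have hpos1 : 0 < (univ.filter (fun n : Y => Commute (n : X) y0)).card := by
        apply Finset.card_pos.mpr
        exact ⟨1, by simp⟩
      have hlt : ((univ.filter (fun b : X => Commute y0 b)).image
          (fun b : X => (QuotientGroup.mk b : X ⧸ Y))).card < Y.index := by
        rw [← hidx]
        apply Finset.card_lt_univ_of_notMem (x := (QuotientGroup.mk g⁻¹ : X ⧸ Y))
        intro hmem
        rw [mem_image] at hmem
        obtain ⟨c, hc, hcq⟩ := hmem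
        rw [mem_filter] at hc
        have hcy : Commute y0 c := hc.2
        have ht : c⁻¹ * g⁻¹ ∈ Y := QuotientGroup.eq.mp hcq
        apply hg
        have ht' : g * c ∈ Y := by
          have := Y.inv_mem ht
          simpa [mul_assoc] using this
        have heq : g * y0 * g⁻¹ = (g * c) * y0 * (g * c)⁻¹ := by
          have : c * y0 * c⁻¹ = y0 := by
            rw [← hcy.eq]; group
          calc g * y0 * g⁻¹ = g * (c * y0 * c⁻¹) * g⁻¹ := by rw [this]
            _ = (g * c) * y0 * (g * c)⁻¹ := by group
        rw [heq]
        exact Y.mul_mem (Y.mul_mem ht' hy0) (Y.inv_mem ht')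
      calc (univ.filter (fun b : X => Commute y0 b)).card
          ≤ _ := card_commute_le_mul_image Y y0
        _ < _ := Nat.mul_lt_mul_of_pos_left hlt hpos1
    have h2' : (∑ y : Y, (univ.filter (fun b : X => Commute (y : X) b)).card) <
        Nat.card (ConjClasses Y) * Nat.card Y * Y.index := by
      rw [← card_comm_pairs_eq_mul, card_comm_pairs_subgroup_eq_sum, Finset.sum_mul]
      exact Finset.sum_lt_sum (s := (univ : Finset Y))
        (f := fun y : Y => (univ.filter (fun b : X => Commute (y : X) b)).card)
        (g := fun y : Y => (univ.filter (fun n : Y => Commute (n : X) (y : X))).card * Y.index)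
        (fun y _ => hb (y : X)) ⟨⟨y0, hy0⟩, mem_univ _, hstrict⟩
    have h3 : Nat.card (ConjClasses X) * Nat.card X <
        (Y.index * Nat.card (ConjClasses Y)) * Nat.card X := by
      calc Nat.card (ConjClasses X) * Nat.card X
          ≤ (∑ y : Y, (univ.filter (fun b : X => Commute (y : X) b)).card) * Y.index := h1
        _ < (Nat.card (ConjClasses Y) * Nat.card Y * Y.index) * Y.index :=
            Nat.mul_lt_mul_of_pos_right h2' hipos
        _ = (Y.index * Nat.card (ConjClasses Y)) * Nat.card X := by rw [hcard]; ring
    exact Nat.lt_of_mul_lt_mul_right h3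

end Cfsg.Agent.Lib.Lead
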