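import Mathlib

set_option autoImplicit false

namespace Cfsg.Agent.Lib.Lead

/-- orbit-stabilizer for the conjugation action of a subgroup `N` on an element `x`. -/
theorem card_orbit_conj_mul {G : Type*} [Group G] [Finite G] (N : Subgroup G) (x : G) :
    Nat.card {g : G // ∃ n ∈ N, g = n * x * n⁻¹} *
      Nat.card ↥(N ⊓ Subgroup.centralizer ({x} : Set G)) = Nat.card N := by
  classical
  set K : Subgroup (ConjAct G) := N.map (ConjAct.toConjAct (G := G)).toMonoidHom with hK
  have hKmem : ∀ k : ConjAct G, k ∈ K ↔ ConjAct.ofConjAct k ∈ N := by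
    intro k
    rw [hK, Subgroup.mem_map]
    constructor
    · rintro ⟨n, hn, rfl⟩
      simpa using hn
    · intro h
      exact ⟨ConjAct.ofConjAct k, h, by simp⟩
  have hcardK : Nat.card K = Nat.card N := by
    apply Nat.card_congr
    exact (Subgroup.equivMapOfInjective N _ (ConjAct.toConjAct (G := G)).injective).symm.toEquiv
  have h1 := MulAction.index_stabilizer K x
  have h2 := Subgroup.index_mul_card (MulAction.stabilizer K x)
  rw [h1, hcardK] at h2
  rw [← h2]
  congr 1
  · rw [← Nat.card_coe_set_eq]
    apply Nat.card_congr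
    refine Equiv.subtypeEquivRight (fun g => ?_)
    rw [MulAction.mem_orbit_iff]
    constructor
    · rintro ⟨n, hn, rfl⟩
      refine ⟨⟨ConjAct.toConjAct n, (hKmem _).mpr (by simpa using hn)⟩, ?_⟩
      rw [Subgroup.smul_def, ConjAct.smul_def]
      simp
    · rintro ⟨k, rfl⟩
      refine ⟨ConjAct.ofConjAct (k : ConjAct G), (hKmem _).mp k.2, ?_⟩
      rw [Subgroup.smul_def, ConjAct.smul_def]
  · apply Nat.card_congr
    refine ⟨fun c => ⟨⟨ConjAct.toConjAct (c : G),
        (hKmem _).mpr (by simpa using (Subgroup.mem_inf.mp c.2).1)⟩, ?_⟩,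
      fun k => ⟨ConjAct.ofConjAct (k : K).1,
        Subgroup.mem_inf.mpr ⟨(hKmem _).mp (k : K).2, ?_⟩⟩, ?_, ?_⟩
    · rw [MulAction.mem_stabilizer_iff, Subgroup.smul_def, ConjAct.smul_def]
      have hc : (c : G) ∈ Subgroup.centralizer ({x} : Set G) := (Subgroup.mem_inf.mp c.2).2
      rw [Subgroup.mem_centralizer_iff] at hc
      have := hc x (Set.mem_singleton x)
      simp only [ConjAct.ofConjAct_toConjAct]
      rw [← this]; group
    · have hk := k.2
      rw [MulAction.mem_stabilizer_iff, Subgroup.smul_def, ConjAct.smul_def] at hk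
      rw [Subgroup.mem_centralizer_iff]
      intro y hy
      rw [Set.mem_singleton_iff] at hy
      rw [hy]
      generalize ConjAct.ofConjAct (k : K).1 = c at hk
      have : c * x = x * c := by
        calc c * x = (c * x * c⁻¹) * c := by group
          _ = x * c := by rw [hk]
      exact this.symm
    · intro c; rfl
    · intro k; rfl

end Cfsg.Agent.Lib.Lead
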