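import Mathlib.GroupTheory.GroupAction.ConjAct
import Mathlib.GroupTheory.GroupAction.Quotient
import Mathlib.GroupTheory.Index
import Mathlib.GroupTheory.Rank
import Mathlib.Tactic.Group
import Cfsg.Agent.Lib.Lead.ClassSize

set_option autoImplicit false

namespace Cfsg.Agent.Lib.Lead

/-- the fibre of `g ↦ g⁻¹ x g` over a conjugate `y` of `x` is a coset of the centralizer -/
theorem card_conj_fibre {G : Type*} [Group G] (x y : G) (hy : IsConj x y) :
    Nat.card {g : G // g⁻¹ * x * g = y} = Nat.card (Subgroup.centralizer ({x} : Set G)) := by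
  obtain ⟨c, hc⟩ := isConj_iff.mp hy
  -- hc : c * x * c⁻¹ = y ; g0 = c⁻¹
  apply Nat.card_congr
  refine ⟨fun g => ⟨g.1 * c, ?_⟩, fun z => ⟨z.1 * c⁻¹, ?_⟩, ?_, ?_⟩
  · rw [Subgroup.mem_centralizer_iff]
    intro h hh
    rw [Set.mem_singleton_iff] at hh
    subst hh
    have h1 : g.1⁻¹ * h * g.1 = c * h * c⁻¹ := g.2.trans hc.symm
    calc h * (g.1 * c) = g.1 * (g.1⁻¹ * h * g.1) * c := by group
      _ = g.1 * (c * h * c⁻¹) * c := by rw [h1]
      _ = g.1 * c * h := by group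
  · have hz := z.2
    rw [Subgroup.mem_centralizer_iff] at hz
    have h1 := hz x (Set.mem_singleton x)
    -- x * z = z * x
    rw [← hc]
    calc (z.1 * c⁻¹)⁻¹ * x * (z.1 * c⁻¹) = c * (z.1⁻¹ * (x * z.1)) * c⁻¹ := by group
      _ = c * (z.1⁻¹ * (z.1 * x)) * c⁻¹ := by rw [h1]
      _ = c * x * c⁻¹ := by group
  · intro g; apply Subtype.ext; simp
  · intro z; apply Subtype.ext; simp

/-- counting the `g` with `g⁻¹ x g ∈ S` via the conjugates of `x` in `S` -/
theorem card_conj_preimage {G : Type*} [Group G] [Finite G] (x : G) (S : Set G) :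
    Nat.card {g : G // g⁻¹ * x * g ∈ S} =
      Nat.card {y : G // IsConj x y ∧ y ∈ S} * Nat.card (Subgroup.centralizer ({x} : Set G)) := by
  have e : {g : G // g⁻¹ * x * g ∈ S} ≃
      Σ y : {y : G // IsConj x y ∧ y ∈ S}, {g : G // g⁻¹ * x * g = y.1} :=
    { toFun := fun g => ⟨⟨g.1⁻¹ * x * g.1, isConj_iff.mpr ⟨g.1⁻¹, by group⟩, g.2⟩, ⟨g.1, rfl⟩⟩
      invFun := fun z => ⟨z.2.1, by rw [z.2.2]; exact z.1.2.2⟩
      left_inv := fun g => rfl
      right_inv := by
        rintro ⟨⟨y, hy1, hy2⟩, ⟨g, hg⟩⟩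
        dsimp only at hg
        subst hg
        rfl }
  letI : Fintype {y : G // IsConj x y ∧ y ∈ S} := Fintype.ofFinite _
  rw [Nat.card_congr e, Nat.card_sigma]
  have : ∀ y : {y : G // IsConj x y ∧ y ∈ S}, Nat.card {g : G // g⁻¹ * x * g = y.1} =
      Nat.card (Subgroup.centralizer ({x} : Set G)) := fun y => card_conj_fibre x y.1 y.2.1
  simp only [this]
  rw [Finset.sum_const, Finset.card_univ, smul_eq_mul, ← Nat.card_eq_fintype_card]

end Cfsg.Agent.Lib.Lead
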