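import Mathlib

set_option autoImplicit false

namespace Cfsg.Agent.Lib.Lead

open MulAction

/-- A finite group is not the union of the conjugates of a proper subgroup:
some `g` has no conjugate `x⁻¹ * g * x` in `M`. -/
theorem exists_forall_conj_notMem {G : Type*} [Group G] [Finite G] (M : Subgroup G) (hM : M ≠ ⊤) :
    ∃ g : G, ∀ x : G, x⁻¹ * g * x ∉ M := by
  classical
  have : Fintype G := Fintype.ofFinite G
  have : Fintype (G ⧸ M) := Fintype.ofFinite _
  have : Fintype (orbitRel.Quotient G (G ⧸ M)) := Fintype.ofFinite _
  by_contra hcon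
  push Not at hcon
  have hB := MulAction.sum_card_fixedBy_eq_card_orbits_mul_card_group G (G ⧸ M)
  have horb : Fintype.card (orbitRel.Quotient G (G ⧸ M)) = 1 := by
    rw [Fintype.card_eq_one_iff]
    refine ⟨Quotient.mk'' (QuotientGroup.mk 1), ?_⟩
    intro q
    induction q using Quotient.inductionOn' with
    | h a =>
      apply Quotient.sound'
      exact MulAction.exists_smul_eq G _ _
  rw [horb, one_mul] at hB
  have hge : ∀ g : G, 1 ≤ Fintype.card (fixedBy (G ⧸ M) g) := by
    intro g
    obtain ⟨x, hx⟩ := hcon g
    apply Fintype.card_pos_iff.mpr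
    refine ⟨⟨QuotientGroup.mk x, ?_⟩⟩
    rw [mem_fixedBy, MulAction.Quotient.smul_mk, QuotientGroup.eq]
    have : (g • x)⁻¹ * x = (x⁻¹ * g⁻¹ * x) := by simp [mul_assoc]
    rw [this]
    have h2 := M.inv_mem hx
    simpa [mul_assoc] using h2
  have hone : 2 ≤ Fintype.card (fixedBy (G ⧸ M) (1 : G)) := by
    have hidx : 2 ≤ M.index := by
      have h0 : M.index ≠ 0 := Subgroup.index_ne_zero_of_finite
      have h1 : M.index ≠ 1 := fun h => hM (Subgroup.index_eq_one.mp h)
      omega
    have : Fintype.card (fixedBy (G ⧸ M) (1 : G)) = M.index := by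
      rw [Subgroup.index, Nat.card_eq_fintype_card]
      apply Fintype.card_congr
      exact ⟨fun a => a.1, fun a => ⟨a, by simp⟩, fun a => rfl, fun a => rfl⟩
    omega
  have hsum : Fintype.card G + 1 ≤ ∑ g : G, Fintype.card (fixedBy (G ⧸ M) g) := by
    calc Fintype.card G + 1 = ∑ g : G, (if g = 1 then 2 else 1) := by
          rw [Finset.sum_ite, Finset.sum_const, Finset.sum_const]
          simp only [smul_eq_mul, mul_one]
          have h1 : (Finset.univ.filter (fun g : G => g = 1)).card = 1 := by
            rw [Finset.card_eq_one]; exact ⟨1, by ext; simp⟩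
          have h2 := Finset.card_filter_add_card_filter_not (s := (Finset.univ : Finset G))
            (fun g : G => g = 1)
          rw [h1, Finset.card_univ] at h2
          rw [h1]
          omega
      _ ≤ _ := by
          apply Finset.sum_le_sum
          intro g _
          split_ifs with h
          · rw [h]; exact hone
          · exact hge g
  omega

end Cfsg.Agent.Lib.Lead
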