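import Mathlib

set_option autoImplicit false

namespace Cfsg.Agent.Lib.Lead

open QuaternionGroup DihedralGroup
open scoped commutatorElement

/-- The underlying function of the covering map from the dicyclic group to the dihedral group. -/
def dicToDihFun (n : ℕ) : QuaternionGroup n → DihedralGroup n
  | QuaternionGroup.a i => DihedralGroup.r (ZMod.castHom (Dvd.intro_left 2 rfl : n ∣ 2 * n) (ZMod n) i)
  | QuaternionGroup.xa i => DihedralGroup.sr (ZMod.castHom (Dvd.intro_left 2 rfl : n ∣ 2 * n) (ZMod n) i)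

/-- The covering map from the dicyclic group of order `4n` to the dihedral group of order `2n`. -/
def dicToDih (n : ℕ) : QuaternionGroup n →* DihedralGroup n :=
  MonoidHom.mk' (dicToDihFun n) (by
    rintro (i | i) (j | j)
    · simp [dicToDihFun]
    · simp [dicToDihFun]
    · simp [dicToDihFun]
    · simp [dicToDihFun])

theorem dicToDih_a (n : ℕ) (i : ZMod (2 * n)) :
    dicToDih n (QuaternionGroup.a i) =
      DihedralGroup.r (ZMod.castHom (Dvd.intro_left 2 rfl : n ∣ 2 * n) (ZMod n) i) := rfl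

theorem dicToDih_xa (n : ℕ) (i : ZMod (2 * n)) :
    dicToDih n (QuaternionGroup.xa i) =
      DihedralGroup.sr (ZMod.castHom (Dvd.intro_left 2 rfl : n ∣ 2 * n) (ZMod n) i) := rfl

theorem dicToDih_surjective (n : ℕ) : Function.Surjective (dicToDih n) := by
  rintro (i | i)
  · obtain ⟨j, hj⟩ := ZMod.ringHom_surjective
      (ZMod.castHom (Dvd.intro_left 2 rfl : n ∣ 2 * n) (ZMod n)) i
    exact ⟨QuaternionGroup.a j, by rw [dicToDih_a, hj]⟩
  · obtain ⟨j, hj⟩ := ZMod.ringHom_surjective
      (ZMod.castHom (Dvd.intro_left 2 rfl : n ∣ 2 * n) (ZMod n)) i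
    exact ⟨QuaternionGroup.xa j, by rw [dicToDih_xa, hj]⟩

theorem mem_ker_dicToDih {n : ℕ} {x : QuaternionGroup n} (hx : x ∈ (dicToDih n).ker) :
    ∃ i : ZMod (2 * n), x = QuaternionGroup.a i ∧
      ZMod.castHom (Dvd.intro_left 2 rfl : n ∣ 2 * n) (ZMod n) i = 0 := by
  rw [MonoidHom.mem_ker] at hx
  rcases x with i | i
  · rw [dicToDih_a, DihedralGroup.one_def] at hx
    exact ⟨i, rfl, DihedralGroup.r.inj hx⟩
  · rw [dicToDih_xa, DihedralGroup.one_def] at hx
    cases hx

theorem exists_nat_of_cast_eq_zero {n : ℕ} [NeZero n] {i : ZMod (2 * n)}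
    (hi : ZMod.castHom (Dvd.intro_left 2 rfl : n ∣ 2 * n) (ZMod n) i = 0) :
    ∃ k : ℕ, i = ((n * k : ℕ) : ZMod (2 * n)) := by
  have : NeZero (2 * n) := ⟨by have := NeZero.ne n; omega⟩
  have h1 : ((i.val : ℕ) : ZMod n) = 0 := by
    have : ZMod.castHom (Dvd.intro_left 2 rfl : n ∣ 2 * n) (ZMod n) ((i.val : ℕ) : ZMod (2 * n)) = 0 := by
      rw [ZMod.natCast_zmod_val]; exact hi
    simpa using this
  obtain ⟨k, hk⟩ := (ZMod.natCast_eq_zero_iff _ _).1 h1
  exact ⟨k, by rw [← hk, ZMod.natCast_zmod_val]⟩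

theorem a_two_pow (n : ℕ) (k : ℕ) :
    (QuaternionGroup.a 2 : QuaternionGroup n) ^ k = QuaternionGroup.a ((2 * k : ℕ) : ZMod (2 * n)) := by
  induction k with
  | zero => rw [pow_zero, Nat.mul_zero, Nat.cast_zero, QuaternionGroup.a_zero]
  | succ k ih =>
    rw [pow_succ, ih, QuaternionGroup.a_mul_a]
    congr 1
    push_cast
    ring

theorem a_two_mem_commutator (n : ℕ) :
    (QuaternionGroup.a 2 : QuaternionGroup n) ∈ commutator (QuaternionGroup n) := by
  have h : ⁅(QuaternionGroup.a 1 : QuaternionGroup n), (QuaternionGroup.xa 0 : QuaternionGroup n)⁆ = QuaternionGroup.a 2 := by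
    have hinv1 : (QuaternionGroup.a 1 : QuaternionGroup n)⁻¹ = QuaternionGroup.a (-1) := by
      rw [inv_eq_iff_mul_eq_one, QuaternionGroup.a_mul_a, add_neg_cancel, QuaternionGroup.a_zero]
    have hinv2 : (QuaternionGroup.xa 0 : QuaternionGroup n)⁻¹ = QuaternionGroup.xa (n : ZMod (2 * n)) := by
      rw [inv_eq_iff_mul_eq_one, QuaternionGroup.xa_mul_xa]
      rw [QuaternionGroup.one_def]
      congr 1
      have : ((2 * n : ℕ) : ZMod (2 * n)) = 0 := ZMod.natCast_self _
      push_cast at this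
      linear_combination this
    rw [commutatorElement_def, hinv1, hinv2, QuaternionGroup.a_mul_xa, QuaternionGroup.xa_mul_a,
      QuaternionGroup.xa_mul_xa]
    congr 1
    have : ((2 * n : ℕ) : ZMod (2 * n)) = 0 := ZMod.natCast_self _
    push_cast at this
    linear_combination this
  rw [← h, commutator_def]
  exact Subgroup.commutator_mem_commutator (Subgroup.mem_top _) (Subgroup.mem_top _)

theorem isStemExtension_dicToDih_aux (n : ℕ) [NeZero n] (hn : Even n) :
    (dicToDih n).ker ≤ Subgroup.center (QuaternionGroup n) ∧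
      (dicToDih n).ker ≤ commutator (QuaternionGroup n) := by
  have h2n : ((2 * n : ℕ) : ZMod (2 * n)) = 0 := ZMod.natCast_self _
  constructor
  · intro x hx
    obtain ⟨i, rfl, hi⟩ := mem_ker_dicToDih hx
    obtain ⟨k, rfl⟩ := exists_nat_of_cast_eq_zero hi
    have h2 : (2 : ZMod (2 * n)) * ((n * k : ℕ) : ZMod (2 * n)) = 0 := by
      have : ((2 * n * k : ℕ) : ZMod (2 * n)) = 0 := by
        rw [Nat.cast_mul, h2n, zero_mul]
      rw [← this]; push_cast; ring
    rw [Subgroup.mem_center_iff]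
    rintro (j | j)
    · rw [QuaternionGroup.a_mul_a, QuaternionGroup.a_mul_a, add_comm]
    · rw [QuaternionGroup.xa_mul_a, QuaternionGroup.a_mul_xa]
      congr 1
      linear_combination h2
  · intro x hx
    obtain ⟨i, rfl, hi⟩ := mem_ker_dicToDih hx
    obtain ⟨k, rfl⟩ := exists_nat_of_cast_eq_zero hi
    obtain ⟨m, hm⟩ := hn
    have : (QuaternionGroup.a ((n * k : ℕ) : ZMod (2 * n)) : QuaternionGroup n) =
        (QuaternionGroup.a 2) ^ (m * k) := by
      rw [a_two_pow]
      congr 2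
      rw [hm]; ring
    rw [this]
    exact Subgroup.pow_mem _ (a_two_mem_commutator n) _

theorem card_ker_dicToDih (n : ℕ) [NeZero n] : Nat.card (dicToDih n).ker = 2 := by
  have h1 : Nat.card (dicToDih n).ker * (dicToDih n).ker.index = Nat.card (QuaternionGroup n) :=
    Subgroup.card_mul_index _
  rw [Subgroup.index_ker, MonoidHom.range_eq_top.2 (dicToDih_surjective n), Subgroup.card_top,
    DihedralGroup.nat_card, Nat.card_eq_fintype_card (α := QuaternionGroup n), QuaternionGroup.card] at h1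
  have hn : 0 < n := Nat.pos_of_ne_zero (NeZero.ne n)
  nlinarith

end Cfsg.Agent.Lib.Lead
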