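import Mathlib

set_option autoImplicit false
set_option linter.style.haveILetI false
set_option linter.unusedVariables false
set_option linter.unusedSectionVars false

namespace Cfsg.Agent.Lib.Lead.KleinDih

theorem mem_of_pow_mem_coprime {X : Type*} [Group X] (H : Subgroup X) (g : X) (a b : ℕ)
    (hab : Nat.Coprime a b) (ha : g ^ a ∈ H) (hb : g ^ b ∈ H) : g ∈ H := by
  obtain ⟨u, v, huv⟩ := Nat.isCoprime_iff_coprime.mpr hab
  have h1 : g = (g ^ a) ^ u * (g ^ b) ^ v := by
    rw [← zpow_natCast g a, ← zpow_natCast g b, ← zpow_mul, ← zpow_mul, ← zpow_add]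
    have h2 : (a : ℤ) * u + (b : ℤ) * v = 1 := by
      rw [mul_comm (a : ℤ) u, mul_comm (b : ℤ) v]; exact huv
    rw [h2, zpow_one]
  rw [h1]
  exact H.mul_mem (H.zpow_mem ha u) (H.zpow_mem hb v)

theorem exists_two_pow_odd {X : Type*} [Group X] [Finite X] (g : X) :
    ∃ e q : ℕ, Odd q ∧ orderOf g = 2 ^ e * q ∧ orderOf (g ^ 2 ^ e) = q := by
  have h0 : orderOf g ≠ 0 := (orderOf_pos g).ne'
  obtain ⟨e, q, hq, hn⟩ := Nat.exists_eq_pow_mul_and_not_dvd h0 2 (by norm_num)
  refine ⟨e, q, Nat.odd_iff.mpr (by omega), hn, ?_⟩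
  rw [orderOf_pow, hn]
  have hpe : 0 < 2 ^ e := pow_pos (by norm_num) e
  have hgcd : (2 ^ e * q).gcd (2 ^ e) = 2 ^ e := Nat.gcd_eq_right (Dvd.intro _ rfl)
  rw [hgcd, Nat.mul_div_cancel_left _ hpe]

theorem cyc_centralize {X : Type*} [Group X] [Finite X] (Q : Subgroup X) (hc : IsCyclic ↥Q)
    (h2 : IsPGroup 2 ↥Q) (g : X) (hg : g ∈ Subgroup.normalizer (Q : Set X))
    (hodd : Odd (orderOf g)) : g ∈ Subgroup.centralizer (Q : Set X) := by
  have h1 : orderOf (Q.normalizerMonoidHom ⟨g, hg⟩) ∣ orderOf g := by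
    have h := orderOf_map_dvd Q.normalizerMonoidHom (⟨g, hg⟩ : Subgroup.normalizer (Q : Set X))
    rwa [Subgroup.orderOf_mk] at h
  have h2' : orderOf (Q.normalizerMonoidHom ⟨g, hg⟩) ∣ Nat.card (MulAut ↥Q) := orderOf_dvd_natCard _
  obtain ⟨s, hs⟩ := (IsPGroup.iff_card).mp h2
  have h3 : ∃ j, Nat.card (MulAut ↥Q) = 2 ^ j := by
    rw [IsCyclic.card_mulAut ↥Q, hs]
    rcases Nat.eq_zero_or_pos s with h0 | h0
    · refine ⟨0, ?_⟩; rw [h0]; simp
    · refine ⟨s - 1, ?_⟩; rw [Nat.totient_prime_pow Nat.prime_two h0]; simp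
  obtain ⟨j, hj⟩ := h3
  rw [hj] at h2'
  have hcop : Nat.Coprime (orderOf g) (2 ^ j) := Nat.Coprime.pow_right j hodd.coprime_two_right
  have h4 : orderOf (Q.normalizerMonoidHom ⟨g, hg⟩) = 1 := Nat.eq_one_of_dvd_coprimes hcop h1 h2'
  have h5 : Q.normalizerMonoidHom ⟨g, hg⟩ = 1 := orderOf_eq_one_iff.mp h4
  have h6 : (⟨g, hg⟩ : Subgroup.normalizer (Q : Set X)) ∈ Q.normalizerMonoidHom.ker := h5
  rw [Subgroup.normalizerMonoidHom_ker] at h6
  exact h6

section klein
variable {X : Type*} [Group X] (U : Subgroup X) [IsKleinFour ↥U]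

theorem klein_sq (u : X) (hu : u ∈ U) : u * u = 1 := by
  have h := IsKleinFour.mul_self (⟨u, hu⟩ : ↥U)
  exact congrArg Subtype.val h

theorem klein_comm (u v : X) (hu : u ∈ U) (hv : v ∈ U) : u * v = v * u := by
  have h := (IsKleinFour.isMulCommutative (G := ↥U)).is_comm.comm ⟨u, hu⟩ ⟨v, hv⟩
  exact congrArg Subtype.val h

theorem klein_third {x y z : X} (hx : x ∈ U) (hy : y ∈ U) (hz : z ∈ U) (hx1 : x ≠ 1) (hy1 : y ≠ 1)
    (hxy : x ≠ y) (hz1 : z ≠ 1) (hzx : z ≠ x) (hzy : z ≠ y) : z = x * y := by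
  have h := IsKleinFour.eq_mul_of_ne_all (x := (⟨x, hx⟩ : ↥U)) (y := ⟨y, hy⟩) (z := ⟨z, hz⟩)
    (fun h => hx1 (congrArg Subtype.val h)) (fun h => hy1 (congrArg Subtype.val h))
    (fun h => hxy (congrArg Subtype.val h)) (fun h => hz1 (congrArg Subtype.val h))
    (fun h => hzx (congrArg Subtype.val h)) (fun h => hzy (congrArg Subtype.val h))
  exact congrArg Subtype.val h

theorem klein_two : ∃ a ∈ U, ∃ b ∈ U, a ≠ 1 ∧ b ≠ 1 ∧ a ≠ b := by
  classical
  haveI : Finite ↥U := IsKleinFour.instFinite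
  letI := Fintype.ofFinite ↥U
  have h4 : Fintype.card ↥U = 4 := IsKleinFour.card_four'
  obtain ⟨x, y, z, hxy, hxz, hyz⟩ := Fintype.two_lt_card_iff.mp (by omega : 2 < Fintype.card ↥U)
  by_cases hx : x = 1
  · refine ⟨y, y.2, z, z.2, ?_, ?_, ?_⟩
    · intro h; apply hxy; rw [hx]; exact (Subtype.ext h).symm
    · intro h; apply hxz; rw [hx]; exact (Subtype.ext h).symm
    · intro h; exact hyz (Subtype.ext h)
  · by_cases hy : y = 1
    · refine ⟨x, x.2, z, z.2, ?_, ?_, ?_⟩
      · intro h; exact hx (Subtype.ext h)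
      · intro h; apply hyz; rw [hy]; exact (Subtype.ext h).symm
      · intro h; exact hxz (Subtype.ext h)
    · refine ⟨x, x.2, y, y.2, ?_, ?_, ?_⟩
      · intro h; exact hx (Subtype.ext h)
      · intro h; exact hy (Subtype.ext h)
      · intro h; exact hxy (Subtype.ext h)

/-- every element is one of 1, a, b, a*b -/
theorem klein_cases {a b : X} (ha : a ∈ U) (hb : b ∈ U) (ha1 : a ≠ 1) (hb1 : b ≠ 1) (hab : a ≠ b)
    (u : X) (hu : u ∈ U) : u = 1 ∨ u = a ∨ u = b ∨ u = a * b := by
  by_cases h1 : u = 1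
  · exact Or.inl h1
  by_cases h2 : u = a
  · exact Or.inr (Or.inl h2)
  by_cases h3 : u = b
  · exact Or.inr (Or.inr (Or.inl h3))
  exact Or.inr (Or.inr (Or.inr (klein_third U ha hb hu ha1 hb1 hab h1 h2 h3)))

theorem klein_mul_ne_one {a b : X} (ha : a ∈ U) (hb : b ∈ U) (hab : a ≠ b) : a * b ≠ 1 := by
  intro h
  apply hab
  have h1 := klein_sq U b hb
  calc a = a * (b * b) := by rw [h1, mul_one]
    _ = (a * b) * b := by group
    _ = b := by rw [h, one_mul]

/-- an element fixing two distinct nonidentity elements centralizes -/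
theorem cent_of_two {a b : X} (ha : a ∈ U) (hb : b ∈ U) (ha1 : a ≠ 1) (hb1 : b ≠ 1) (hab : a ≠ b)
    (x : X) (hxa : x * a * x⁻¹ = a) (hxb : x * b * x⁻¹ = b) :
    x ∈ Subgroup.centralizer (U : Set X) := by
  rw [Subgroup.mem_centralizer_iff]
  intro u hu
  have key : x * u * x⁻¹ = u := by
    rcases klein_cases U ha hb ha1 hb1 hab u hu with h | h | h | h
    · rw [h]; group
    · rw [h]; exact hxa
    · rw [h]; exact hxb
    · rw [h]
      calc x * (a * b) * x⁻¹ = (x * a * x⁻¹) * (x * b * x⁻¹) := by group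
        _ = a * b := by rw [hxa, hxb]
  calc u * x = (x * u * x⁻¹) * x := by rw [key]
    _ = x * u := by group

end klein

section fp
variable {X : Type*} [Group X] [Finite X] (U : Subgroup X) [IsKleinFour ↥U]

theorem conj_mem_of_normalizer {g u : X} (hg : g ∈ Subgroup.normalizer (U : Set X)) (hu : u ∈ U) :
    g * u * g⁻¹ ∈ U := (Subgroup.mem_normalizer_iff.mp hg u).mp hu

theorem conj_ne_one {g u : X} (hu : u ≠ 1) : g * u * g⁻¹ ≠ 1 := by
  intro h
  exact hu (conj_eq_one_iff.mp h)

theorem conj_inj {g u v : X} (h : g * u * g⁻¹ = g * v * g⁻¹) : u = v := by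
  have h1 : g⁻¹ * (g * u * g⁻¹) * g = g⁻¹ * (g * v * g⁻¹) * g := by rw [h]
  have e1 : g⁻¹ * (g * u * g⁻¹) * g = u := by group
  have e2 : g⁻¹ * (g * v * g⁻¹) * g = v := by group
  rw [e1, e2] at h1
  exact h1

theorem conj_mul_eq (g u v : X) : g * (u * v) * g⁻¹ = (g * u * g⁻¹) * (g * v * g⁻¹) := by group

theorem fixed_point
    (hodd : ∀ g ∈ Subgroup.normalizer (U : Set X), Odd (orderOf g) →
      g ∈ Subgroup.centralizer (U : Set X))
    (g : X) (hg : g ∈ Subgroup.normalizer (U : Set X)) : ∃ a ∈ U, a ≠ 1 ∧ g * a * g⁻¹ = a := by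
  by_contra hno
  push Not at hno
  obtain ⟨a, ha, b0, hb0, ha1, -, -⟩ := klein_two U
  have hb : g * a * g⁻¹ ∈ U := conj_mem_of_normalizer U hg ha
  have hb1 : g * a * g⁻¹ ≠ 1 := conj_ne_one ha1
  have hba : g * a * g⁻¹ ≠ a := hno a ha ha1
  obtain ⟨b, hbdef⟩ : ∃ b, b = g * a * g⁻¹ := ⟨_, rfl⟩
  rw [← hbdef] at hb hb1 hba
  have hc : g * b * g⁻¹ ∈ U := conj_mem_of_normalizer U hg hb
  have hc1 : g * b * g⁻¹ ≠ 1 := conj_ne_one hb1
  have hcb : g * b * g⁻¹ ≠ b := hno b hb hb1
  obtain ⟨c, hcdef⟩ : ∃ c, c = g * b * g⁻¹ := ⟨_, rfl⟩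
  rw [← hcdef] at hc hc1 hcb
  have hab : a ≠ b := fun h => hba h.symm
  have hca : c ≠ a := by
    intro h
    have h1 : g * (a * b) * g⁻¹ = a * b := by
      rw [conj_mul_eq, ← hbdef, ← hcdef, h]
      exact klein_comm U b a hb ha
    exact hno (a * b) (U.mul_mem ha hb) (klein_mul_ne_one U ha hb hab) h1
  have hcab : c = a * b := klein_third U ha hb hc ha1 hb1 hab hc1 hca hcb
  have hgc : g * c * g⁻¹ = a := by
    rw [hcab, conj_mul_eq, ← hbdef, ← hcdef, hcab]
    calc b * (a * b) = (b * a) * b := by group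
      _ = (a * b) * b := by rw [klein_comm U b a hb ha]
      _ = a * (b * b) := by group
      _ = a := by rw [klein_sq U b hb, mul_one]
  -- g^3 centralizes U
  have h3 : g ^ 3 ∈ Subgroup.centralizer (U : Set X) := by
    have e3 : ∀ u : X, g ^ 3 * u * (g ^ 3)⁻¹ = g * (g * (g * u * g⁻¹) * g⁻¹) * g⁻¹ := by
      intro u
      have hg3 : g ^ 3 = g * g * g := by simp [pow_succ]
      rw [hg3]; group
    apply cent_of_two U ha hb ha1 hb1 hab
    · rw [e3, ← hbdef, ← hcdef, hgc]
    · rw [e3, ← hcdef, hgc, ← hbdef]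
  obtain ⟨e, q, hq, hn, hoq⟩ := exists_two_pow_odd g
  have h2e : g ^ 2 ^ e ∈ Subgroup.centralizer (U : Set X) := by
    apply hodd _ (Subgroup.pow_mem _ hg _)
    rw [hoq]; exact hq
  have hcop : Nat.Coprime 3 (2 ^ e) := Nat.Coprime.pow_right e (by norm_num)
  have hgC : g ∈ Subgroup.centralizer (U : Set X) := mem_of_pow_mem_coprime _ g 3 (2 ^ e) hcop h3 h2e
  apply hba
  have h5 := (Subgroup.mem_centralizer_iff.mp hgC) a ha
  rw [hbdef]
  calc g * a * g⁻¹ = (a * g) * g⁻¹ := by rw [h5]
    _ = a := by group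

theorem forward_core
    (hFP : ∀ g ∈ Subgroup.normalizer (U : Set X), ∃ a ∈ U, a ≠ 1 ∧ g * a * g⁻¹ = a)
    (t : X) (htN : t ∈ Subgroup.normalizer (U : Set X))
    (htC : t ∉ Subgroup.centralizer (U : Set X))
    (g : X) (hg : g ∈ Subgroup.normalizer (U : Set X)) :
    g ∈ Subgroup.centralizer (U : Set X) ∨ g * t⁻¹ ∈ Subgroup.centralizer (U : Set X) := by
  obtain ⟨z, hzU, hz1, htz⟩ := hFP t htN
  have hexb : ∃ b ∈ U, t * b * t⁻¹ ≠ b := by
    by_contra hcon
    push Not at hcon
    apply htC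
    rw [Subgroup.mem_centralizer_iff]
    intro u hu
    have h1 := hcon u hu
    calc u * t = (t * u * t⁻¹) * t := by rw [h1]
      _ = t * u := by group
  obtain ⟨b, hbU, htb⟩ := hexb
  have hb1 : b ≠ 1 := by
    intro h; apply htb; rw [h]; group
  have hbz : b ≠ z := by
    intro h; apply htb; rw [h]; exact htz
  have hzb : z ≠ b := fun h => hbz h.symm
  have htbU : t * b * t⁻¹ ∈ U := conj_mem_of_normalizer U htN hbU
  have htbz : t * b * t⁻¹ ≠ z := by
    intro h
    rw [← htz] at h
    exact hbz (conj_inj h)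
  have htb_eq : t * b * t⁻¹ = z * b :=
    klein_third U hzU hbU htbU hz1 hb1 hzb (conj_ne_one hb1) htbz htb
  have hswap : ∀ a ∈ U, a ≠ 1 → a ≠ z → t * a * t⁻¹ = z * a := by
    intro a haU ha1 haz
    by_cases hab : a = b
    · rw [hab]; exact htb_eq
    · have h1 : a = z * b := klein_third U hzU hbU haU hz1 hb1 hzb ha1 haz hab
      rw [h1, conj_mul_eq, htz, htb_eq]
  obtain ⟨a, haU, ha1, hga⟩ := hFP g hg
  by_cases hgC : g ∈ Subgroup.centralizer (U : Set X)
  · exact Or.inl hgC
  right
  by_cases haz : a = z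
  · rw [haz] at hga
    have hgbU : g * b * g⁻¹ ∈ U := conj_mem_of_normalizer U hg hbU
    have hgbz : g * b * g⁻¹ ≠ z := by
      intro h
      rw [← hga] at h
      exact hbz (conj_inj h)
    have hgbb : g * b * g⁻¹ ≠ b := by
      intro h
      exact hgC (cent_of_two U hzU hbU hz1 hb1 hzb g hga h)
    have hgb_eq : g * b * g⁻¹ = z * b :=
      klein_third U hzU hbU hgbU hz1 hb1 hzb (conj_ne_one hb1) hgbz hgbb
    have htinvz : t⁻¹ * z * t = z := by
      calc t⁻¹ * z * t = t⁻¹ * (t * z * t⁻¹) * t := by rw [htz]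
        _ = z := by group
    have htinvzb : t⁻¹ * (z * b) * t = b := by
      calc t⁻¹ * (z * b) * t = t⁻¹ * (t * b * t⁻¹) * t := by rw [htb_eq]
        _ = b := by group
    have hzbU : z * b ∈ U := U.mul_mem hzU hbU
    have hzb1 : z * b ≠ 1 := klein_mul_ne_one U hzU hbU hzb
    have hzzb : z ≠ z * b := by
      intro h
      apply hb1
      have : z * 1 = z * b := by rw [mul_one]; exact h
      exact (mul_left_cancel this).symm
    apply cent_of_two U hzU hzbU hz1 hzb1 hzzb
    · calc g * t⁻¹ * z * (g * t⁻¹)⁻¹ = g * (t⁻¹ * z * t) * g⁻¹ := by group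
        _ = z := by rw [htinvz, hga]
    · calc g * t⁻¹ * (z * b) * (g * t⁻¹)⁻¹ = g * (t⁻¹ * (z * b) * t) * g⁻¹ := by group
        _ = z * b := by rw [htinvzb, hgb_eq]
  · exfalso
    have hza : z ≠ a := fun h => haz h.symm
    have hgzU : g * z * g⁻¹ ∈ U := conj_mem_of_normalizer U hg hzU
    have hgza : g * z * g⁻¹ ≠ a := by
      intro h
      rw [← hga] at h
      exact hza (conj_inj h)
    have hgzz : g * z * g⁻¹ ≠ z := by
      intro h
      exact hgC (cent_of_two U hzU haU hz1 ha1 hza g h hga)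
    have hgz_eq : g * z * g⁻¹ = z * a :=
      klein_third U hzU haU hgzU hz1 ha1 hza (conj_ne_one hz1) hgzz hgza
    have hta : t * a * t⁻¹ = z * a := hswap a haU ha1 haz
    have hgtN : g * t ∈ Subgroup.normalizer (U : Set X) := Subgroup.mul_mem _ hg htN
    obtain ⟨e, heU, he1, hge⟩ := hFP (g * t) hgtN
    have hconj : ∀ u : X, g * t * u * (g * t)⁻¹ = g * (t * u * t⁻¹) * g⁻¹ := by
      intro u; group
    rw [hconj] at hge
    have hzz : z * z = 1 := klein_sq U z hzU
    have haa : a * a = 1 := klein_sq U a haU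
    rcases klein_cases U hzU haU hz1 ha1 hza e heU with h | h | h | h
    · exact he1 h
    · -- e = z
      rw [h, htz, hgz_eq] at hge
      apply ha1
      have : z * a = z * 1 := by rw [mul_one]; exact hge
      exact mul_left_cancel this
    · -- e = a
      rw [h, hta, conj_mul_eq, hgz_eq, hga] at hge
      -- z * a * a = a
      have h2 : z * a * a = z := by rw [mul_assoc, haa, mul_one]
      rw [h2] at hge
      exact hza hge
    · -- e = z * a
      rw [h, conj_mul_eq t, htz, hta] at hge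
      have h2 : z * (z * a) = a := by rw [← mul_assoc, hzz, one_mul]
      rw [h2, hga] at hge
      apply hz1
      have : 1 * a = z * a := by rw [one_mul]; exact hge
      exact (mul_right_cancel this).symm

end fp

theorem kleinFour_of_equiv {A B : Type*} [Group A] [Group B] (e : A ≃* B) [IsKleinFour B] :
    IsKleinFour A where
  card_four := by rw [Nat.card_congr e.toEquiv]; exact IsKleinFour.card_four
  exponent_two := by rw [Monoid.exponent_eq_of_mulEquiv e]; exact IsKleinFour.exponent_two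

section dih
open DihedralGroup

theorem zmod_two_torsion (m' : ℕ) (hm' : 1 ≤ m') (k : ZMod (4 * m')) (hk : k + k = 0) :
    k = 0 ∨ k = ((2 * m' : ℕ) : ZMod (4 * m')) := by
  haveI : NeZero (4 * m') := ⟨by omega⟩
  have h1 : ((k.val + k.val : ℕ) : ZMod (4 * m')) = 0 := by
    rw [Nat.cast_add, ZMod.natCast_zmod_val]; exact hk
  rw [ZMod.natCast_eq_zero_iff] at h1
  have h2 : k.val < 4 * m' := ZMod.val_lt k
  obtain ⟨c, hc⟩ := h1
  have h3 : c = 0 ∨ c = 1 := by
    rcases Nat.lt_or_ge c 2 with h | h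
    · omega
    · exfalso
      have : 4 * m' * 2 ≤ 4 * m' * c := Nat.mul_le_mul_left _ h
      omega
  rcases h3 with h | h
  · left
    have h4 : k.val = 0 := by rw [h] at hc; omega
    exact (ZMod.val_eq_zero k).mp h4
  · right
    have h4 : k.val = 2 * m' := by rw [h] at hc; omega
    rw [← h4, ZMod.natCast_zmod_val]

theorem dih_core (m' : ℕ) (hm' : 1 ≤ m') (V : Subgroup (DihedralGroup (4 * m'))) [IsKleinFour ↥V] :
    ∃ t : DihedralGroup (4 * m'), (∀ v ∈ V, t * v * t⁻¹ ∈ V) ∧ (∀ v ∈ V, t⁻¹ * v * t ∈ V) ∧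
      ∃ v ∈ V, t * v * t⁻¹ ≠ v := by
  haveI : NeZero (4 * m') := ⟨by omega⟩
  obtain ⟨c, hcdef⟩ : ∃ c : ZMod (4 * m'), c = ((m' : ℕ) : ZMod (4 * m')) := ⟨_, rfl⟩
  have hc4 : c + c + c + c = 0 := by
    have h1 : ((4 * m' : ℕ) : ZMod (4 * m')) = 0 := ZMod.natCast_self _
    rw [hcdef]
    have h2 : ((4 * m' : ℕ) : ZMod (4 * m')) = (m' : ZMod (4 * m')) + m' + m' + m' := by
      push_cast; ring
    rw [← h2]; exact h1
  have hc2 : c + c ≠ 0 := by
    intro h
    have h1 : ((2 * m' : ℕ) : ZMod (4 * m')) = 0 := by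
      have h2 : ((2 * m' : ℕ) : ZMod (4 * m')) = c + c := by rw [hcdef]; push_cast; ring
      rw [h2]; exact h
    rw [ZMod.natCast_eq_zero_iff] at h1
    have := Nat.le_of_dvd (by omega) h1
    omega
  have h2c : ((2 * m' : ℕ) : ZMod (4 * m')) = c + c := by rw [hcdef]; push_cast; ring
  -- rotations in V
  have hrot : ∀ k : ZMod (4 * m'), r k ∈ V → k = 0 ∨ k = c + c := by
    intro k hk
    have h1 := klein_sq V (r k) hk
    rw [r_mul_r, one_def] at h1
    have h2 : k + k = 0 := by injection h1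
    rcases zmod_two_torsion m' hm' k h2 with h | h
    · exact Or.inl h
    · right; rw [h, h2c]
  obtain ⟨a, haV, b, hbV, ha1, hb1, hab⟩ := klein_two V
  -- a reflection in V
  have hrefl : ∃ i, sr i ∈ V := by
    cases a with
    | sr i => exact ⟨i, haV⟩
    | r k =>
      cases b with
      | sr j => exact ⟨j, hbV⟩
      | r l =>
        exfalso
        have hk : k = c + c := by
          rcases hrot k haV with h | h
          · exfalso; apply ha1; rw [h, one_def]
          · exact h
        have hl : l = c + c := by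
          rcases hrot l hbV with h | h
          · exfalso; apply hb1; rw [h, one_def]
          · exact h
        apply hab; rw [hk, hl]
  obtain ⟨i, hiV⟩ := hrefl
  have hsr1 : (sr i : DihedralGroup (4 * m')) ≠ 1 := by
    rw [one_def]; intro h; injection h
  -- another nonidentity element different from sr i
  have hw : ∃ w ∈ V, w ≠ 1 ∧ w ≠ sr i := by
    by_cases h : a = sr i
    · exact ⟨b, hbV, hb1, fun hb => hab (h.trans hb.symm)⟩
    · exact ⟨a, haV, ha1, h⟩
  obtain ⟨w, hwV, hw1, hwi⟩ := hw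
  have hzV : r (c + c) ∈ V := by
    cases w with
    | r k =>
      rcases hrot k hwV with h | h
      · exfalso; apply hw1; rw [h, one_def]
      · rw [← h]; exact hwV
    | sr j =>
      have h1 : sr i * sr j ∈ V := V.mul_mem hiV hwV
      rw [sr_mul_sr] at h1
      rcases hrot (j - i) h1 with h | h
      · exfalso; apply hwi
        have : j = i := sub_eq_zero.mp h
        rw [this]
      · rw [← h]; exact h1
  have hz1 : (r (c + c) : DihedralGroup (4 * m')) ≠ 1 := by
    rw [one_def]; intro h; injection h with h'; exact hc2 h'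
  have hzsr : (r (c + c) : DihedralGroup (4 * m')) ≠ sr i := by
    intro h; injection h
  have hmem : ∀ v ∈ V, v = 1 ∨ v = r (c + c) ∨ v = sr i ∨ v = sr (i - (c + c)) := by
    intro v hv
    rcases klein_cases V hzV hiV hz1 hsr1 hzsr v hv with h | h | h | h
    · exact Or.inl h
    · exact Or.inr (Or.inl h)
    · exact Or.inr (Or.inr (Or.inl h))
    · right; right; right; rw [h, r_mul_sr]
  have hsr2V : sr (i - (c + c)) ∈ V := by
    have h1 : r (c + c) * sr i ∈ V := V.mul_mem hzV hiV
    rwa [r_mul_sr] at h1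
  have hinv : (r c : DihedralGroup (4 * m'))⁻¹ = r (-c) := inv_r c
  refine ⟨r c, ?_, ?_, ⟨sr i, hiV, ?_⟩⟩
  · intro v hv
    rcases hmem v hv with h | h | h | h
    · rw [h]; simp
    · rw [h, hinv, r_mul_r, r_mul_r]
      have : c + (c + c) + -c = c + c := by ring
      rw [this]; exact hzV
    · rw [h, hinv, r_mul_sr, sr_mul_r]
      have : i - c + -c = i - (c + c) := by ring
      rw [this]; exact hsr2V
    · rw [h, hinv, r_mul_sr, sr_mul_r]
      have : i - (c + c) - c + -c = i := by linear_combination (-1 : ZMod (4 * m')) * hc4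
      rw [this]; exact hiV
  · intro v hv
    rw [hinv]
    rcases hmem v hv with h | h | h | h
    · rw [h]; simp
    · rw [h, r_mul_r, r_mul_r]
      have : -c + (c + c) + c = c + c := by ring
      rw [this]; exact hzV
    · rw [h, r_mul_sr, sr_mul_r]
      have : i - -c + c = i - (c + c) := by linear_combination hc4
      rw [this]; exact hsr2V
    · rw [h, r_mul_sr, sr_mul_r]
      have : i - (c + c) - -c + c = i := by ring
      rw [this]; exact hiV
  · rw [hinv, r_mul_sr, sr_mul_r]
    intro h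
    injection h with h'
    apply hc2
    have : i - c + -c = i - (c + c) := by ring
    rw [this] at h'
    have h3 : c + c = i - (i - (c + c)) := by ring
    rw [h3, h', sub_self]

end dih

section back
variable {X : Type*} [Group X] [Finite X]

theorem isCyclic_of_le_zpowers (Q : Subgroup X) (ρ : X) (h : Q ≤ Subgroup.zpowers ρ) :
    IsCyclic ↥Q := by
  haveI : IsCyclic ↥(Q.subgroupOf (Subgroup.zpowers ρ)) := inferInstance
  exact isCyclic_of_surjective (Subgroup.subgroupOfEquivOfLe h)
    (Subgroup.subgroupOfEquivOfLe h).surjective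

theorem conj_closure_mem (E : Set X) (x : X) (hE : ∀ q ∈ E, x * q * x⁻¹ ∈ E) :
    ∀ y ∈ Subgroup.closure E, x * y * x⁻¹ ∈ Subgroup.closure E := by
  intro y hy
  induction hy using Subgroup.closure_induction with
  | mem q hq => exact Subgroup.subset_closure (hE q hq)
  | one =>
    have : x * 1 * x⁻¹ = 1 := by group
    rw [this]; exact Subgroup.one_mem _
  | mul a b _ _ iha ihb =>
    rw [conj_mul_eq]; exact Subgroup.mul_mem _ iha ihb
  | inv a _ iha =>
    have : x * a⁻¹ * x⁻¹ = (x * a * x⁻¹)⁻¹ := by group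
    rw [this]; exact Subgroup.inv_mem _ iha

theorem fix_of_pow_fix (g q : X) (k : ℕ) (hodd : Odd (orderOf g))
    (h : g ^ 2 ^ k * q * (g ^ 2 ^ k)⁻¹ = q) : g * q * g⁻¹ = q := by
  have h1 : g ^ 2 ^ k ∈ Subgroup.centralizer ({q} : Set X) := by
    rw [Subgroup.mem_centralizer_iff]
    intro y hy
    rw [Set.mem_singleton_iff] at hy
    subst hy
    calc y * g ^ 2 ^ k = (g ^ 2 ^ k * y * (g ^ 2 ^ k)⁻¹) * g ^ 2 ^ k := by rw [h]
      _ = g ^ 2 ^ k * y := by group
  have h2 : g ^ orderOf g ∈ Subgroup.centralizer ({q} : Set X) := by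
    rw [pow_orderOf_eq_one]; exact Subgroup.one_mem _
  have hcop : Nat.Coprime (2 ^ k) (orderOf g) :=
    (Nat.Coprime.pow_right k hodd.coprime_two_right).symm
  have h3 := mem_of_pow_mem_coprime _ g _ _ hcop h1 h2
  have h4 := (Subgroup.mem_centralizer_iff.mp h3) q (Set.mem_singleton q)
  calc g * q * g⁻¹ = (q * g) * g⁻¹ := by rw [h4]
    _ = q := by group

/-- elements of `Q` of order greater than two -/
def nonInv (Q : Subgroup X) : Set X := {q | q ∈ Q ∧ q * q ≠ 1}

theorem back_core (S : Subgroup X) (hS2 : IsPGroup 2 ↥S) (ρ : X)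
    (F1 : ∀ x ∈ S, x ∈ Subgroup.zpowers ρ ∨ x * x = 1)
    (F2 : ∀ x ∈ S, ∀ y ∈ S, x ∉ Subgroup.zpowers ρ → y ∉ Subgroup.zpowers ρ →
      x⁻¹ * y ∈ Subgroup.zpowers ρ)
    (F3 : ∀ x ∈ Subgroup.zpowers ρ, ∀ y ∈ Subgroup.zpowers ρ, x * x = 1 → y * y = 1 →
      x ≠ 1 → y ≠ 1 → x = y)
    (HK : ∀ U : Subgroup X, U ≤ S → IsKleinFour ↥U → Subgroup.normalizer (U : Set X) =
      Subgroup.centralizer (U : Set X) ⊔ (S ⊓ Subgroup.normalizer (U : Set X)))
    (Q : Subgroup X) (hQS : Q ≤ S) (g : X) (hg : g ∈ Subgroup.normalizer (Q : Set X))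
    (hodd : Odd (orderOf g)) : g ∈ Subgroup.centralizer (Q : Set X) := by
  classical
  have hQ2 : IsPGroup 2 ↥Q := hS2.to_le hQS
  have hgQ : ∀ q ∈ Q, g * q * g⁻¹ ∈ Q := fun q hq => (Subgroup.mem_normalizer_iff.mp hg q).mp hq
  have hgQ' : ∀ q ∈ Q, g⁻¹ * q * g ∈ Q := fun q hq =>
    (Subgroup.mem_normalizer_iff''.mp hg q).mp hq
  suffices hfix : ∀ q ∈ Q, g * q * g⁻¹ = q by
    rw [Subgroup.mem_centralizer_iff]
    intro q hq
    calc q * g = (g * q * g⁻¹) * g := by rw [hfix q hq]
      _ = g * q := by group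
  by_cases hcase1 : Q ≤ Subgroup.zpowers ρ
  · have hc := cyc_centralize Q (isCyclic_of_le_zpowers Q ρ hcase1) hQ2 g hg hodd
    intro q hq
    have h1 := (Subgroup.mem_centralizer_iff.mp hc) q hq
    calc g * q * g⁻¹ = (q * g) * g⁻¹ := by rw [h1]
      _ = q := by group
  · obtain ⟨s, hsQ, hsR⟩ := SetLike.not_le_iff_exists.mp hcase1
    have hs1 : s ≠ 1 := by
      intro h; apply hsR; rw [h]; exact Subgroup.one_mem _
    by_cases hcase2 : ∃ x ∈ Q, x * x ≠ 1
    · obtain ⟨x, hxQ, hx2⟩ := hcase2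
      have hxR : x ∈ Subgroup.zpowers ρ := by
        rcases F1 x (hQS hxQ) with h | h
        · exact h
        · exact absurd h hx2
      have hEQ : nonInv Q ⊆ (Q : Set X) := fun q hq => hq.1
      have hER : nonInv Q ⊆ (Subgroup.zpowers ρ : Set X) := by
        intro q hq
        rcases F1 q (hQS hq.1) with h | h
        · exact h
        · exact absurd h hq.2
      have hQ1Q : Subgroup.closure (nonInv Q) ≤ Q := (Subgroup.closure_le Q).mpr hEQ
      have hQ1R : Subgroup.closure (nonInv Q) ≤ Subgroup.zpowers ρ :=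
        (Subgroup.closure_le _).mpr hER
      have hRcomm : ∀ u ∈ Subgroup.zpowers ρ, ∀ v ∈ Subgroup.zpowers ρ, u * v = v * u := by
        intro u hu v hv
        obtain ⟨i, rfl⟩ := Subgroup.mem_zpowers_iff.mp hu
        obtain ⟨j, rfl⟩ := Subgroup.mem_zpowers_iff.mp hv
        rw [← zpow_add, ← zpow_add, add_comm]
      have hQ01 : ∀ y ∈ Q, y ∈ Subgroup.zpowers ρ → y ∈ Subgroup.closure (nonInv Q) := by
        intro y hyQ hyR
        by_cases hy2 : y * y = 1
        · have hxy : x * y ∈ nonInv Q := by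
            refine ⟨Q.mul_mem hxQ hyQ, ?_⟩
            have h1 : x * y * (x * y) = (x * x) * (y * y) := by
              calc x * y * (x * y) = x * (y * x) * y := by group
                _ = x * (x * y) * y := by rw [hRcomm y hyR x hxR]
                _ = (x * x) * (y * y) := by group
            rw [h1, hy2, mul_one]; exact hx2
          have hxE : x ∈ nonInv Q := ⟨hxQ, hx2⟩
          have h2 : y = x⁻¹ * (x * y) := by group
          rw [h2]
          exact Subgroup.mul_mem _ (Subgroup.inv_mem _ (Subgroup.subset_closure hxE))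
            (Subgroup.subset_closure hxy)
        · exact Subgroup.subset_closure ⟨hyQ, hy2⟩
      have hEg : ∀ q ∈ nonInv Q, g * q * g⁻¹ ∈ nonInv Q := by
        intro q hq
        refine ⟨hgQ q hq.1, ?_⟩
        intro h
        apply hq.2
        have h1 : g * q * g⁻¹ * (g * q * g⁻¹) = g * (q * q) * g⁻¹ := by group
        rw [h1] at h
        exact conj_eq_one_iff.mp h
      have hEg' : ∀ q ∈ nonInv Q, g⁻¹ * q * g⁻¹⁻¹ ∈ nonInv Q := by
        intro q hq
        rw [inv_inv]
        refine ⟨hgQ' q hq.1, ?_⟩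
        intro h
        apply hq.2
        have h1 : g⁻¹ * q * g * (g⁻¹ * q * g) = g⁻¹ * (q * q) * g⁻¹⁻¹ := by group
        rw [h1] at h
        exact conj_eq_one_iff.mp h
      have hQ1g := conj_closure_mem (nonInv Q) g hEg
      have hQ1g' : ∀ y ∈ Subgroup.closure (nonInv Q), g⁻¹ * y * g ∈ Subgroup.closure (nonInv Q) := by
        intro y hy
        have h1 := conj_closure_mem (nonInv Q) g⁻¹ hEg' y hy
        rwa [inv_inv] at h1
      have hgN1 : g ∈ Subgroup.normalizer ((Subgroup.closure (nonInv Q) : Subgroup X) : Set X) := by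
        rw [Subgroup.mem_normalizer_iff]
        intro y
        constructor
        · exact hQ1g y
        · intro h
          have h1 := hQ1g' _ h
          have e : g⁻¹ * (g * y * g⁻¹) * g = y := by group
          rwa [e] at h1
      have hgC1 := cyc_centralize _ (isCyclic_of_le_zpowers _ ρ hQ1R) (hQ2.to_le hQ1Q) g hgN1 hodd
      have hfix1 : ∀ y ∈ Subgroup.closure (nonInv Q), g * y * g⁻¹ = y := by
        intro y hy
        have h1 := (Subgroup.mem_centralizer_iff.mp hgC1) y hy
        calc g * y * g⁻¹ = (y * g) * g⁻¹ := by rw [h1]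
          _ = y := by group
      intro q hq
      obtain ⟨c, hcdef⟩ : ∃ c, c = q⁻¹ * (g * q * g⁻¹) := ⟨_, rfl⟩
      have hc1 : c ∈ Subgroup.closure (nonInv Q) := by
        by_cases hqR : q ∈ Subgroup.zpowers ρ
        · have h1 := hfix1 q (hQ01 q hq hqR)
          rw [hcdef, h1, inv_mul_cancel]; exact Subgroup.one_mem _
        · have hgqR : g * q * g⁻¹ ∉ Subgroup.zpowers ρ := by
            intro h
            have h1 : g * q * g⁻¹ ∈ Subgroup.closure (nonInv Q) := hQ01 _ (hgQ q hq) h
            have h2 := hQ1g' _ h1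
            have e : g⁻¹ * (g * q * g⁻¹) * g = q := by group
            rw [e] at h2
            exact hqR (hQ1R h2)
          have h3 := F2 q (hQS hq) _ (hQS (hgQ q hq)) hqR hgqR
          rw [hcdef]
          exact hQ01 _ (Q.mul_mem (Q.inv_mem hq) (hgQ q hq)) h3
      have hgq : g * q * g⁻¹ = q * c := by rw [hcdef]; group
      have hgc : g * c * g⁻¹ = c := hfix1 c hc1
      have hpow : ∀ j : ℕ, g ^ j * q * (g ^ j)⁻¹ = q * c ^ j := by
        intro j
        induction j with
        | zero => simp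
        | succ j ih =>
          have e : g ^ (j + 1) * q * (g ^ (j + 1))⁻¹ = g * (g ^ j * q * (g ^ j)⁻¹) * g⁻¹ := by
            rw [pow_succ']; group
          have e2 : g * c ^ j * g⁻¹ = c ^ j := by
            rw [← conj_pow, hgc]
          rw [e, ih, conj_mul_eq, hgq, e2, pow_succ', mul_assoc]
      obtain ⟨k, hk⟩ := (IsPGroup.iff_card).mp (hQ2.to_le hQ1Q)
      have hck : c ^ 2 ^ k = 1 := by
        have h1 := pow_card_eq_one' (G := ↥(Subgroup.closure (nonInv Q))) (x := ⟨c, hc1⟩)
        rw [hk] at h1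
        exact congrArg Subtype.val h1
      apply fix_of_pow_fix g q k hodd
      rw [hpow, hck, mul_one]
    · push Not at hcase2
      by_cases hcase3 : ∃ z ∈ Q, z ∈ Subgroup.zpowers ρ ∧ z ≠ 1
      · obtain ⟨z, hzQ, hzR, hz1⟩ := hcase3
        have hmem : ∀ q ∈ Q, q = 1 ∨ q = z ∨ q = s ∨ q = s * z := by
          intro q hq
          by_cases hqR : q ∈ Subgroup.zpowers ρ
          · by_cases hq1 : q = 1
            · exact Or.inl hq1
            · right; left
              exact F3 q hqR z hzR (hcase2 q hq) (hcase2 z hzQ) hq1 hz1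
          · have h1 := F2 s (hQS hsQ) q (hQS hq) hsR hqR
            have h2 : s⁻¹ * q ∈ Q := Q.mul_mem (Q.inv_mem hsQ) hq
            have h5 : q = s * (s⁻¹ * q) := by group
            by_cases h3 : s⁻¹ * q = 1
            · right; right; left
              rw [h5, h3, mul_one]
            · right; right; right
              have h4 := F3 _ h1 z hzR (hcase2 _ h2) (hcase2 z hzQ) h3 hz1
              rw [h5, h4]
        have hsz : s ≠ z := fun h => hsR (h ▸ hzR)
        have hszz : s * z ≠ 1 := by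
          intro h
          apply hsR
          have h1 : s = z⁻¹ := eq_inv_of_mul_eq_one_left h
          rw [h1]; exact Subgroup.inv_mem _ hzR
        have hQset : (Q : Set X) = {1, z, s, s * z} := by
          ext q
          constructor
          · intro hq
            rcases hmem q hq with h | h | h | h <;> simp [h]
          · intro hq
            simp only [Set.mem_insert_iff, Set.mem_singleton_iff] at hq
            rcases hq with h | h | h | h
            · rw [h]; exact Q.one_mem
            · rw [h]; exact hzQ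
            · rw [h]; exact hsQ
            · rw [h]; exact Q.mul_mem hsQ hzQ
        have hcard : Nat.card ↥Q = 4 := by
          have h1 : Nat.card ↥Q = (Q : Set X).ncard := Nat.card_coe_set_eq (Q : Set X)
          rw [h1, hQset]
          rw [Set.ncard_insert_of_notMem, Set.ncard_insert_of_notMem, Set.ncard_pair]
          · intro h; apply hz1
            have h2 : s * 1 = s * z := by rw [mul_one]; exact h
            exact (mul_left_cancel h2).symm
          · simp only [Set.mem_insert_iff, Set.mem_singleton_iff, not_or]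
            refine ⟨fun h => hsz h.symm, ?_⟩
            intro h; apply hs1
            have h2 : 1 * z = s * z := by rw [one_mul]; exact h
            exact (mul_right_cancel h2).symm
          · simp only [Set.mem_insert_iff, Set.mem_singleton_iff, not_or]
            exact ⟨fun h => hz1 h.symm, fun h => hs1 h.symm, fun h => hszz h.symm⟩
        haveI : Nontrivial ↥Q := ⟨⟨⟨s, hsQ⟩, 1, fun h => hs1 (congrArg Subtype.val h)⟩⟩
        have hexp : Monoid.exponent ↥Q = 2 := by
          rw [Monoid.exponent_eq_prime_iff Nat.prime_two]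
          intro q hq1
          apply orderOf_eq_prime
          · apply Subtype.ext
            have h1 := hcase2 q.1 q.2
            rw [pow_two]; exact h1
          · exact hq1
        have hKQ : IsKleinFour ↥Q := ⟨hcard, hexp⟩
        have hN := HK Q hQS hKQ
        have hg' : g ∈ Subgroup.centralizer (Q : Set X) ⊔ (S ⊓ Subgroup.normalizer (Q : Set X)) := by
          rw [← hN]; exact hg
        have hact : ∀ y ∈ Subgroup.centralizer (Q : Set X) ⊔ (S ⊓ Subgroup.normalizer (Q : Set X)),
            ∃ t ∈ S ⊓ Subgroup.normalizer (Q : Set X), ∀ q ∈ Q, y * q * y⁻¹ = t * q * t⁻¹ := by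
          intro y hy
          rw [Subgroup.sup_eq_closure] at hy
          induction hy using Subgroup.closure_induction with
          | mem y hy =>
            rcases hy with h | h
            · refine ⟨1, Subgroup.one_mem _, fun q hq => ?_⟩
              have h1 := (Subgroup.mem_centralizer_iff.mp h) q hq
              calc y * q * y⁻¹ = (q * y) * y⁻¹ := by rw [h1]
                _ = 1 * q * 1⁻¹ := by group
            · exact ⟨y, h, fun q hq => rfl⟩
          | one => exact ⟨1, Subgroup.one_mem _, fun q hq => rfl⟩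
          | mul a b _ _ iha ihb =>
            obtain ⟨t1, ht1, h1⟩ := iha
            obtain ⟨t2, ht2, h2⟩ := ihb
            refine ⟨t1 * t2, Subgroup.mul_mem _ ht1 ht2, fun q hq => ?_⟩
            have hq2 : t2 * q * t2⁻¹ ∈ Q := (Subgroup.mem_normalizer_iff.mp ht2.2 q).mp hq
            calc a * b * q * (a * b)⁻¹ = a * (b * q * b⁻¹) * a⁻¹ := by group
              _ = a * (t2 * q * t2⁻¹) * a⁻¹ := by rw [h2 q hq]
              _ = t1 * (t2 * q * t2⁻¹) * t1⁻¹ := h1 _ hq2
              _ = t1 * t2 * q * (t1 * t2)⁻¹ := by group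
          | inv a _ iha =>
            obtain ⟨t1, ht1, h1⟩ := iha
            refine ⟨t1⁻¹, Subgroup.inv_mem _ ht1, fun q hq => ?_⟩
            have hq2 : t1⁻¹ * q * t1 ∈ Q := (Subgroup.mem_normalizer_iff''.mp ht1.2 q).mp hq
            have h3 := h1 _ hq2
            have e1 : t1 * (t1⁻¹ * q * t1) * t1⁻¹ = q := by group
            rw [e1] at h3
            calc a⁻¹ * q * a⁻¹⁻¹ = a⁻¹ * (a * (t1⁻¹ * q * t1) * a⁻¹) * a := by rw [h3]; group
              _ = t1⁻¹ * q * t1⁻¹⁻¹ := by group
        obtain ⟨t, ht, hgt⟩ := hact g hg'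
        obtain ⟨k, hk⟩ := hS2 ⟨t, ht.1⟩
        have htk : t ^ 2 ^ k = 1 := congrArg Subtype.val hk
        have hpow : ∀ j : ℕ, ∀ q ∈ Q, g ^ j * q * (g ^ j)⁻¹ = t ^ j * q * (t ^ j)⁻¹ := by
          intro j
          induction j with
          | zero => intro q hq; simp
          | succ j ih =>
            intro q hq
            have hq2 : t ^ j * q * (t ^ j)⁻¹ ∈ Q :=
              (Subgroup.mem_normalizer_iff.mp (Subgroup.pow_mem _ ht.2 j) q).mp hq
            calc g ^ (j + 1) * q * (g ^ (j + 1))⁻¹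
                = g * (g ^ j * q * (g ^ j)⁻¹) * g⁻¹ := by rw [pow_succ']; group
              _ = g * (t ^ j * q * (t ^ j)⁻¹) * g⁻¹ := by rw [ih q hq]
              _ = t * (t ^ j * q * (t ^ j)⁻¹) * t⁻¹ := hgt _ hq2
              _ = t ^ (j + 1) * q * (t ^ (j + 1))⁻¹ := by rw [pow_succ']; group
        intro q hq
        apply fix_of_pow_fix g q k hodd
        rw [hpow (2 ^ k) q hq, htk]
        group
      · push Not at hcase3
        have hmem : ∀ q ∈ Q, q = 1 ∨ q = s := by
          intro q hq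
          by_cases hqR : q ∈ Subgroup.zpowers ρ
          · exact Or.inl (hcase3 q hq hqR)
          · right
            have h1 := F2 s (hQS hsQ) q (hQS hq) hsR hqR
            have h2 := hcase3 _ (Q.mul_mem (Q.inv_mem hsQ) hq) h1
            have h3 : q = s * (s⁻¹ * q) := by group
            rw [h3, h2, mul_one]
        intro q hq
        rcases hmem q hq with h | h
        · rw [h]; group
        · rw [h]
          rcases hmem _ (hgQ s hsQ) with h2 | h2
          · exact absurd h2 (conj_ne_one hs1)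
          · exact h2

end back

end Cfsg.Agent.Lib.Lead.KleinDih
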