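import Cfsg.Agent.Lib.Lead.KleinDih3
import Cfsg.Agent.Lib.Helper4.Frobenius3
import Cfsg.Agent.Lib.Helper4.SZ
import Cfsg.Agent.Lib.Helper1.Frob
import Cfsg.Agent.S0111
import Cfsg.Agent.S1254
import Cfsg.Agent.S1255

set_option autoImplicit false
set_option linter.style.haveILetI false
set_option linter.unusedVariables false
set_option linter.unusedSectionVars false

namespace Cfsg.Agent.Lib.Lead.DihTri

open Cfsg Cfsg.Agent.Lib.Lead.KleinDih Cfsg.Agent.Lib.Helper4

/-- parametrization of a dihedral subgroup by rotations `R k` and reflections `F k` -/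
structure DihParam {X : Type*} [Group X] (S : Subgroup X) (m : ℕ) where
  R : ZMod m → X
  F : ZMod m → X
  R_mem : ∀ k, R k ∈ S
  F_mem : ∀ k, F k ∈ S
  mem_cases : ∀ x ∈ S, (∃ k, x = R k) ∨ (∃ k, x = F k)
  RR : ∀ i j, R i * R j = R (i + j)
  RF : ∀ i j, R i * F j = F (j - i)
  FR : ∀ i j, F i * R j = F (i + j)
  FF : ∀ i j, F i * F j = R (j - i)
  R0 : R 0 = 1
  R_inj : ∀ i j, R i = R j → i = j
  R_ne_F : ∀ i j, R i ≠ F j

theorem dihParam_nonempty {X : Type*} [Group X] (S : Subgroup X) (m : ℕ)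
    (e : ↥S ≃* DihedralGroup m) : Nonempty (DihParam S m) := by
  refine ⟨{ R := fun k => ((e.symm (DihedralGroup.r k) : ↥S) : X)
            F := fun k => ((e.symm (DihedralGroup.sr k) : ↥S) : X)
            R_mem := fun k => (e.symm _).2
            F_mem := fun k => (e.symm _).2
            mem_cases := ?_
            RR := ?_
            RF := ?_
            FR := ?_
            FF := ?_
            R0 := ?_
            R_inj := ?_
            R_ne_F := ?_ }⟩
  · intro x hx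
    cases h : e ⟨x, hx⟩ with
    | r k =>
      left
      refine ⟨k, ?_⟩
      have h1 : (⟨x, hx⟩ : ↥S) = e.symm (DihedralGroup.r k) := by
        rw [← h, MulEquiv.symm_apply_apply]
      exact congrArg Subtype.val h1
    | sr k =>
      right
      refine ⟨k, ?_⟩
      have h1 : (⟨x, hx⟩ : ↥S) = e.symm (DihedralGroup.sr k) := by
        rw [← h, MulEquiv.symm_apply_apply]
      exact congrArg Subtype.val h1
  · intro i j
    show ((e.symm (DihedralGroup.r i) : ↥S) : X) * ((e.symm (DihedralGroup.r j) : ↥S) : X) =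
      ((e.symm (DihedralGroup.r (i + j)) : ↥S) : X)
    rw [← Subgroup.coe_mul, ← map_mul, DihedralGroup.r_mul_r]
  · intro i j
    show ((e.symm (DihedralGroup.r i) : ↥S) : X) * ((e.symm (DihedralGroup.sr j) : ↥S) : X) =
      ((e.symm (DihedralGroup.sr (j - i)) : ↥S) : X)
    rw [← Subgroup.coe_mul, ← map_mul, DihedralGroup.r_mul_sr]
  · intro i j
    show ((e.symm (DihedralGroup.sr i) : ↥S) : X) * ((e.symm (DihedralGroup.r j) : ↥S) : X) =
      ((e.symm (DihedralGroup.sr (i + j)) : ↥S) : X)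
    rw [← Subgroup.coe_mul, ← map_mul, DihedralGroup.sr_mul_r]
  · intro i j
    show ((e.symm (DihedralGroup.sr i) : ↥S) : X) * ((e.symm (DihedralGroup.sr j) : ↥S) : X) =
      ((e.symm (DihedralGroup.r (j - i)) : ↥S) : X)
    rw [← Subgroup.coe_mul, ← map_mul, DihedralGroup.sr_mul_sr]
  · show ((e.symm (DihedralGroup.r 0) : ↥S) : X) = 1
    rw [← DihedralGroup.one_def, map_one]
    rfl
  · intro i j h
    have h1 : e.symm (DihedralGroup.r i) = e.symm (DihedralGroup.r j) := Subtype.ext h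
    have h2 := e.symm.injective h1
    injection h2
  · intro i j h
    have h1 : e.symm (DihedralGroup.r i) = e.symm (DihedralGroup.sr j) := Subtype.ext h
    have h2 := e.symm.injective h1
    cases h2

theorem two_mul_ne_one' (m : ℕ) (hm : 2 ∣ m) (j : ZMod m) : (2 : ZMod m) * j ≠ 1 := by
  intro h
  have h1 := congrArg (ZMod.castHom hm (ZMod 2)) h
  rw [map_mul, map_one] at h1
  have e2 : (2 : ZMod m) = 1 + 1 := one_add_one_eq_two.symm
  have h2 : (ZMod.castHom hm (ZMod 2)) (2 : ZMod m) = 0 := by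
    rw [e2, map_add, map_one]
    decide
  rw [h2, zero_mul] at h1
  exact absurd h1 (by decide)

theorem zmod_even_or_odd (m : ℕ) [NeZero m] (k : ZMod m) :
    ∃ j : ZMod m, k = 2 * j ∨ k = 2 * j + 1 := by
  refine ⟨((k.val / 2 : ℕ) : ZMod m), ?_⟩
  rcases Nat.mod_two_eq_zero_or_one k.val with h | h
  · left
    have h1 : k.val = 2 * (k.val / 2) := by omega
    calc k = ((k.val : ℕ) : ZMod m) := (ZMod.natCast_zmod_val k).symm
      _ = ((2 * (k.val / 2) : ℕ) : ZMod m) := congrArg (fun n : ℕ => (n : ZMod m)) h1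
      _ = 2 * ((k.val / 2 : ℕ) : ZMod m) := by rw [Nat.cast_mul, Nat.cast_ofNat]
  · right
    have h1 : k.val = 2 * (k.val / 2) + 1 := by omega
    calc k = ((k.val : ℕ) : ZMod m) := (ZMod.natCast_zmod_val k).symm
      _ = ((2 * (k.val / 2) + 1 : ℕ) : ZMod m) := congrArg (fun n : ℕ => (n : ZMod m)) h1
      _ = 2 * ((k.val / 2 : ℕ) : ZMod m) + 1 := by
        rw [Nat.cast_add, Nat.cast_mul, Nat.cast_ofNat, Nat.cast_one]

theorem center_param (m' : ℕ) (hm' : 1 ≤ m') :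
    ∃ c : ZMod (4 * m'), c + c = 0 ∧ c ≠ 0 ∧ ∃ j : ZMod (4 * m'), c = 2 * j := by
  refine ⟨((2 * m' : ℕ) : ZMod (4 * m')), ?_, ?_, ((m' : ℕ) : ZMod (4 * m')), ?_⟩
  · rw [← Nat.cast_add, ZMod.natCast_eq_zero_iff]
    exact ⟨1, by ring⟩
  · intro h
    rw [ZMod.natCast_eq_zero_iff] at h
    have := Nat.le_of_dvd (by omega) h
    omega
  · rw [Nat.cast_mul, Nat.cast_ofNat]

namespace DihParam

variable {X : Type*} [Group X] {S : Subgroup X} {m : ℕ} (D : DihParam S m)

theorem R_inv (i : ZMod m) : (D.R i)⁻¹ = D.R (-i) := by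
  apply inv_eq_of_mul_eq_one_right
  rw [D.RR, add_neg_cancel, D.R0]

theorem F_sq (i : ZMod m) : D.F i * D.F i = 1 := by
  rw [D.FF, sub_self, D.R0]

theorem F_inv (i : ZMod m) : (D.F i)⁻¹ = D.F i := inv_eq_of_mul_eq_one_right (D.F_sq i)

theorem F_ne_one (i : ZMod m) : D.F i ≠ 1 := by
  intro h
  rw [← D.R0] at h
  exact D.R_ne_F 0 i h.symm

theorem F_inj (i j : ZMod m) (h : D.F i = D.F j) : i = j := by
  have h1 : D.F i * D.F j = 1 := by rw [← h]; exact D.F_sq i
  rw [D.FF, ← D.R0] at h1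
  have h2 := D.R_inj _ _ h1
  exact (sub_eq_zero.mp h2).symm

theorem conj_F (t j : ZMod m) : D.R (-j) * D.F t * (D.R (-j))⁻¹ = D.F (t + 2 * j) := by
  rw [D.R_inv, D.RF, D.FR]
  congr 1
  ring

theorem R_invol [NeZero m] (c : ZMod m) (hcc : c + c = 0) (hc0 : c ≠ 0) (k : ZMod m)
    (h2 : D.R k * D.R k = 1) (h1 : D.R k ≠ 1) : k = c := by
  rw [D.RR, ← D.R0] at h2
  have h3 := D.R_inj _ _ h2
  have h4 : k ≠ 0 := by
    intro h; apply h1; rw [h, D.R0]
  exact zmod_invol_unique m k c h3 hcc h4 hc0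

/-- the index two subgroup of rotations `R (2j)` and reflections `F (t + 2j)` -/
def evenSub (t : ZMod m) : Subgroup X where
  carrier := {x | (∃ j, x = D.R (2 * j)) ∨ (∃ j, x = D.F (t + 2 * j))}
  mul_mem' := by
    rintro a b (⟨i, rfl⟩ | ⟨i, rfl⟩) (⟨j, rfl⟩ | ⟨j, rfl⟩)
    · refine Or.inl ⟨i + j, ?_⟩
      rw [D.RR]; congr 1; ring
    · refine Or.inr ⟨j - i, ?_⟩
      rw [D.RF]; congr 1; ring
    · refine Or.inr ⟨i + j, ?_⟩
      rw [D.FR]; congr 1; ring
    · refine Or.inl ⟨j - i, ?_⟩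
      rw [D.FF]; congr 1; ring
  one_mem' := Or.inl ⟨0, by rw [mul_zero, D.R0]⟩
  inv_mem' := by
    rintro a (⟨i, rfl⟩ | ⟨i, rfl⟩)
    · refine Or.inl ⟨-i, ?_⟩
      rw [D.R_inv]; congr 1; ring
    · exact Or.inr ⟨i, D.F_inv _⟩

theorem evenSub_le (t : ZMod m) : D.evenSub t ≤ S := by
  rintro x (⟨j, rfl⟩ | ⟨j, rfl⟩)
  · exact D.R_mem _
  · exact D.F_mem _

theorem evenSub_relIndex [NeZero m] (hm : 2 ∣ m) (t : ZMod m) :
    (D.evenSub t).relIndex S = 2 := by
  rw [Subgroup.relIndex_eq_two_iff_exists_notMem_and']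
  refine ⟨D.F (t + 1), D.F_mem _, ?_, ?_⟩
  · rintro (⟨j, hj⟩ | ⟨j, hj⟩)
    · exact D.R_ne_F _ _ hj.symm
    · have h1 := D.F_inj _ _ hj
      apply two_mul_ne_one' m hm j
      exact (add_left_cancel h1).symm
  · intro b hb
    rcases D.mem_cases b hb with ⟨k, rfl⟩ | ⟨k, rfl⟩
    · obtain ⟨j, hj | hj⟩ := zmod_even_or_odd m k
      · right
        exact Or.inl ⟨j, by rw [hj]⟩
      · left
        refine Or.inr ⟨j + 1, ?_⟩
        rw [D.FR, hj]; congr 1; ring
    · obtain ⟨j, hj | hj⟩ := zmod_even_or_odd m (k - t)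
      · right
        refine Or.inr ⟨j, ?_⟩
        congr 1
        linear_combination hj
      · left
        refine Or.inl ⟨j, ?_⟩
        rw [D.FF]; congr 1
        linear_combination hj

theorem invol_P [NeZero m] (c : ZMod m) (hcc : c + c = 0) (hc0 : c ≠ 0)
    (t t' j₀ : ZMod m) (ht' : t' = t + 2 * j₀ + 1)
    (u : X) (hu : u ∈ S) (hu2 : u * u = 1) (hu1 : u ≠ 1) :
    u = D.R c ∨ (∃ y ∈ S, y * D.F t * y⁻¹ = u) ∨ (∃ y ∈ S, y * D.F t' * y⁻¹ = u) := by
  rcases D.mem_cases u hu with ⟨k, rfl⟩ | ⟨k, rfl⟩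
  · left
    rw [D.R_invol c hcc hc0 k hu2 hu1]
  · right
    obtain ⟨j, hj | hj⟩ := zmod_even_or_odd m (k - t)
    · left
      refine ⟨D.R (-j), D.R_mem _, ?_⟩
      rw [D.conj_F]; congr 1
      linear_combination -hj
    · right
      refine ⟨D.R (-(j - j₀)), D.R_mem _, ?_⟩
      rw [D.conj_F]; congr 1
      linear_combination ht' - hj

end DihParam

section main
variable {G : Type*} [Group G] [Finite G]

theorem invol_G (P : Sylow 2 G) {m : ℕ} [NeZero m] (D : DihParam (P : Subgroup G) m)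
    (c : ZMod m) (hcc : c + c = 0) (hc0 : c ≠ 0)
    (t t' j₀ : ZMod m) (ht' : t' = t + 2 * j₀ + 1) (g : G) (hg : orderOf g = 2) :
    IsConj (D.R c) g ∨ IsConj (D.F t) g ∨ IsConj (D.F t') g := by
  obtain ⟨x, hx⟩ := invol_conj_into_sylow P g hg
  have hg2 : g * g = 1 := by rw [← pow_two, ← hg, pow_orderOf_eq_one]
  have hg1 : g ≠ 1 := by
    intro h; rw [h, orderOf_one] at hg; omega
  have h2 : (x * g * x⁻¹) * (x * g * x⁻¹) = 1 := by
    have : (x * g * x⁻¹) * (x * g * x⁻¹) = x * (g * g) * x⁻¹ := by group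
    rw [this, hg2]; group
  rcases D.invol_P c hcc hc0 t t' j₀ ht' _ hx h2 (conj_ne_one hg1) with
    h | ⟨y, -, hy⟩ | ⟨y, -, hy⟩
  · left
    rw [isConj_iff]
    refine ⟨x⁻¹, ?_⟩
    rw [← h]; group
  · right; left
    rw [isConj_iff]
    refine ⟨x⁻¹ * y, ?_⟩
    calc x⁻¹ * y * D.F t * (x⁻¹ * y)⁻¹ = x⁻¹ * (y * D.F t * y⁻¹) * x := by group
      _ = g := by rw [hy]; group
  · right; right
    rw [isConj_iff]
    refine ⟨x⁻¹ * y, ?_⟩
    calc x⁻¹ * y * D.F t' * (x⁻¹ * y)⁻¹ = x⁻¹ * (y * D.F t' * y⁻¹) * x := by group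
      _ = g := by rw [hy]; group

theorem case_two (P : Sylow 2 G) {m : ℕ} [NeZero m] (hm : 2 ∣ m)
    (D : DihParam (P : Subgroup G) m) (c : ZMod m) (hcc : c + c = 0) (hc0 : c ≠ 0)
    (jc : ZMod m) (hjc : c = 2 * jc)
    (t t' j₀ : ZMod m) (ht' : t' = t + 2 * j₀ + 1)
    (hzt : IsConj (D.R c) (D.F t)) (hzt' : ¬ IsConj (D.R c) (D.F t')) :
    (∃ N : Subgroup G, N.Normal ∧ N.index = 2) ∧
      (∀ N : Subgroup G, N.Normal → N.index ≠ 4) := by
  classical
  haveI : Fact (Nat.Prime 2) := ⟨Nat.prime_two⟩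
  have hrel := D.evenSub_relIndex hm t
  have hle := D.evenSub_le t
  constructor
  · have hoF : orderOf (D.F t') = 2 :=
      orderOf_eq_prime (by rw [pow_two]; exact D.F_sq t') (D.F_ne_one t')
    have hnot : D.F t' ∉ D.evenSub t := by
      rintro (⟨j, hj⟩ | ⟨j, hj⟩)
      · exact D.R_ne_F _ _ hj.symm
      · have h1 := D.F_inj _ _ hj
        apply two_mul_ne_one' m hm (j - j₀)
        linear_combination ht' - h1
    rcases Cfsg.Agent.S0111.result P (D.evenSub t) hle hrel (D.F t') hoF (D.F_mem _) hnot with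
      ⟨M, hMn, hMi, -⟩ | ⟨g, hg⟩
    · exact ⟨M, hMn, hMi⟩
    · exfalso
      apply hzt'
      have hg2 : (g * D.F t' * g⁻¹) * (g * D.F t' * g⁻¹) = 1 := by
        have : (g * D.F t' * g⁻¹) * (g * D.F t' * g⁻¹) = g * (D.F t' * D.F t') * g⁻¹ := by group
        rw [this, D.F_sq]; group
      have hg1 : g * D.F t' * g⁻¹ ≠ 1 := conj_ne_one (D.F_ne_one t')
      rcases hg with ⟨j, hj⟩ | ⟨j, hj⟩
      · rw [hj] at hg2 hg1
        have h3 := D.R_invol c hcc hc0 _ hg2 hg1
        rw [isConj_iff]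
        refine ⟨g⁻¹, ?_⟩
        rw [← h3, ← hj]; group
      · obtain ⟨w, hw⟩ := isConj_iff.mp hzt
        rw [isConj_iff]
        refine ⟨g⁻¹ * D.R (-j) * w, ?_⟩
        have h4 : D.R (-j) * D.F t * (D.R (-j))⁻¹ = g * D.F t' * g⁻¹ := by rw [D.conj_F, hj]
        calc g⁻¹ * D.R (-j) * w * D.R c * (g⁻¹ * D.R (-j) * w)⁻¹
            = g⁻¹ * (D.R (-j) * (w * D.R c * w⁻¹) * (D.R (-j))⁻¹) * g := by group
          _ = g⁻¹ * (g * D.F t' * g⁻¹) * g := by rw [hw, h4]
          _ = D.F t' := by group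
  · intro N hN hN4
    haveI := hN
    have hcomm : ∀ a b : G ⧸ N, a * b = b * a := by
      have hc4 : Nat.card (G ⧸ N) = 2 ^ 2 := by
        rw [← Subgroup.index_eq_card, hN4]; norm_num
      exact (IsPGroup.isMulCommutative_of_card_eq_prime_sq (p := 2) hc4).is_comm.comm
    have hcommN : ∀ x y : G, x * y * x⁻¹ * y⁻¹ ∈ N := by
      intro x y
      rw [← QuotientGroup.eq_one_iff]
      have h := hcomm (QuotientGroup.mk x) (QuotientGroup.mk y)
      have e : (QuotientGroup.mk (x * y * x⁻¹ * y⁻¹) : G ⧸ N) =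
          QuotientGroup.mk x * QuotientGroup.mk y * (QuotientGroup.mk x)⁻¹ *
            (QuotientGroup.mk y)⁻¹ := rfl
      rw [e, h]; group
    have hR2 : ∀ j : ZMod m, D.R (2 * j) ∈ N := by
      intro j
      have h := hcommN (D.R j) (D.F 0)
      have e : D.R j * D.F 0 * (D.R j)⁻¹ * (D.F 0)⁻¹ = D.R (2 * j) := by
        rw [D.R_inv, D.F_inv, D.RF, D.FR, D.FF]; congr 1; ring
      rwa [e] at h
    have hzN : D.R c ∈ N := by rw [hjc]; exact hR2 jc
    have hFt : D.F t ∈ N := by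
      obtain ⟨w, hw⟩ := isConj_iff.mp hzt
      rw [← hw]
      exact hN.conj_mem _ hzN w
    have hQN : D.evenSub t ≤ N := by
      rintro x (⟨j, rfl⟩ | ⟨j, rfl⟩)
      · exact hR2 j
      · have e : D.F (t + 2 * j) = D.F t * D.R (2 * j) := by rw [D.FR]
        rw [e]; exact N.mul_mem hFt (hR2 j)
    have hQPN : D.evenSub t ≤ (P : Subgroup G) ⊓ N := le_inf hle hQN
    have h1 : ((P : Subgroup G) ⊓ N).relIndex (P : Subgroup G) ∣ 2 := by
      have h := Subgroup.relIndex_dvd_of_le_left (P : Subgroup G) hQPN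
      rwa [hrel] at h
    have h2 : ((P : Subgroup G) ⊓ N).relIndex (P : Subgroup G) * (P : Subgroup G).index =
        ((P : Subgroup G) ⊓ N).index := Subgroup.relIndex_mul_index inf_le_left
    have h3 : ((P : Subgroup G) ⊓ N).relIndex N * N.index =
        ((P : Subgroup G) ⊓ N).index := Subgroup.relIndex_mul_index inf_le_right
    have h4 : ¬ 2 ∣ (P : Subgroup G).index := P.not_dvd_index
    rw [hN4] at h3
    rcases (Nat.dvd_prime Nat.prime_two).mp h1 with hd | hd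
    · rw [hd] at h2; omega
    · rw [hd] at h2; omega

theorem dih_klein_t {X : Type*} [Group X] (S : Subgroup X) (m' : ℕ) (hm' : 1 ≤ m')
    (eS : ↥S ≃* DihedralGroup (4 * m')) (U : Subgroup X) (hUS : U ≤ S) [IsKleinFour ↥U] :
    ∃ t ∈ S, t ∈ Subgroup.normalizer (U : Set X) ∧ t ∉ Subgroup.centralizer (U : Set X) := by
  haveI : IsKleinFour ↥((U.subgroupOf S).map eS.toMonoidHom) :=
    kleinFour_of_equiv
      (((U.subgroupOf S).equivMapOfInjective eS.toMonoidHom eS.injective).symm.trans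
        (Subgroup.subgroupOfEquivOfLe hUS))
  obtain ⟨t', ht1, ht2, v', hv'V, hv'⟩ :=
    dih_core m' hm' ((U.subgroupOf S).map eS.toMonoidHom)
  have hmemV : ∀ u (hu : u ∈ U), eS ⟨u, hUS hu⟩ ∈
      (U.subgroupOf S).map eS.toMonoidHom := by
    intro u hu
    exact ⟨⟨u, hUS hu⟩, Subgroup.mem_subgroupOf.mpr hu, rfl⟩
  have htS : ((eS.symm t' : ↥S) : X) ∈ S := (eS.symm t').2
  have htU : ∀ u ∈ U, ((eS.symm t' : ↥S) : X) * u *
      ((eS.symm t' : ↥S) : X)⁻¹ ∈ U := by
    intro u hu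
    obtain ⟨w, hwU, hw⟩ := ht1 _ (hmemV u hu)
    have h1 : w = eS.symm t' * ⟨u, hUS hu⟩ * (eS.symm t')⁻¹ := by
      apply eS.injective
      rw [map_mul, map_mul, map_inv, MulEquiv.apply_symm_apply]
      exact hw
    have h2 : (w : X) ∈ U := Subgroup.mem_subgroupOf.mp hwU
    rw [h1] at h2
    exact h2
  have htU' : ∀ u ∈ U, ((eS.symm t' : ↥S) : X)⁻¹ * u *
      ((eS.symm t' : ↥S) : X) ∈ U := by
    intro u hu
    obtain ⟨w, hwU, hw⟩ := ht2 _ (hmemV u hu)
    have h1 : w = (eS.symm t')⁻¹ * ⟨u, hUS hu⟩ * eS.symm t' := by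
      apply eS.injective
      rw [map_mul, map_mul, map_inv, MulEquiv.apply_symm_apply]
      exact hw
    have h2 : (w : X) ∈ U := Subgroup.mem_subgroupOf.mp hwU
    rw [h1] at h2
    exact h2
  have htN : ((eS.symm t' : ↥S) : X) ∈ Subgroup.normalizer (U : Set X) := by
    rw [Subgroup.mem_normalizer_iff]
    intro u
    constructor
    · exact htU u
    · intro h
      have h1 := htU' _ h
      have e : ((eS.symm t' : ↥S) : X)⁻¹ *
          (((eS.symm t' : ↥S) : X) * u *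
            ((eS.symm t' : ↥S) : X)⁻¹) *
          ((eS.symm t' : ↥S) : X) = u := by group
      rwa [e] at h1
  have htC : ((eS.symm t' : ↥S) : X) ∉ Subgroup.centralizer (U : Set X) := by
    intro hC
    obtain ⟨w, hwU, hw⟩ := hv'V
    have hwU' : (w : X) ∈ U := Subgroup.mem_subgroupOf.mp hwU
    have h1 := (Subgroup.mem_centralizer_iff.mp hC) (w : X) hwU'
    have h2 : w * eS.symm t' = eS.symm t' * w := Subtype.ext h1
    apply hv'
    have h3 := congrArg eS h2
    rw [map_mul, map_mul, MulEquiv.apply_symm_apply] at h3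
    have h4 : eS w = v' := hw
    rw [h4] at h3
    calc t' * v' * t'⁻¹ = (v' * t') * t'⁻¹ := by rw [h3]
      _ = v' := by group
  exact ⟨_, htS, htN, htC⟩

theorem case_three_npc (P : Sylow 2 G) (m' : ℕ) (hm' : 1 ≤ m')
    (e : ↥(P : Subgroup G) ≃* DihedralGroup (4 * m')) (D : DihParam (P : Subgroup G) (4 * m'))
    (c : ZMod (4 * m')) (hcc : c + c = 0) (hc0 : c ≠ 0)
    (hzF : ∀ k, ¬ IsConj (D.R c) (D.F k)) : HasNormalPComplement 2 G := by
  classical
  haveI : Fact (Nat.Prime 2) := ⟨Nat.prime_two⟩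
  haveI : NeZero (4 * m') := ⟨by omega⟩
  rw [Cfsg.Agent.S1254.result P (4 * m') (by omega) e]
  intro U hUS hUK
  haveI := hUK
  have hz1 : D.R c ≠ 1 := by
    intro h; rw [← D.R0] at h; exact hc0 (D.R_inj _ _ h)
  have hinvU : ∀ u ∈ U, u ≠ 1 → u = D.R c ∨ ∃ k, u = D.F k := by
    intro u hu hu1
    rcases D.mem_cases u (hUS hu) with ⟨k, rfl⟩ | ⟨k, rfl⟩
    · left; rw [D.R_invol c hcc hc0 k (klein_sq U _ hu) hu1]
    · right; exact ⟨k, rfl⟩
  have hzU : D.R c ∈ U := by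
    obtain ⟨a, ha, b, hb, ha1, hb1, hab⟩ := klein_two U
    rcases hinvU a ha ha1 with h | ⟨i, hi⟩
    · rw [← h]; exact ha
    rcases hinvU b hb hb1 with h | ⟨j, hj⟩
    · rw [← h]; exact hb
    have habU : a * b ∈ U := U.mul_mem ha hb
    have hab1 : a * b ≠ 1 := klein_mul_ne_one U ha hb hab
    rcases hinvU (a * b) habU hab1 with h | ⟨k, hk⟩
    · rw [← h]; exact habU
    · exfalso
      rw [hi, hj, D.FF] at hk
      exact D.R_ne_F _ _ hk
  obtain ⟨b, hbU, hb1, hbz⟩ : ∃ b ∈ U, b ≠ 1 ∧ b ≠ D.R c := by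
    obtain ⟨a, ha, b, hb, ha1, hb1, hab⟩ := klein_two U
    by_cases h : a = D.R c
    · exact ⟨b, hb, hb1, fun hbz => hab (h.trans hbz.symm)⟩
    · exact ⟨a, ha, ha1, h⟩
  obtain ⟨kb, hkb⟩ : ∃ k, b = D.F k := by
    rcases hinvU b hbU hb1 with h | h
    · exact absurd h hbz
    · exact h
  have hFP : ∀ g ∈ Subgroup.normalizer (U : Set G), ∃ a ∈ U, a ≠ 1 ∧ g * a * g⁻¹ = a := by
    intro g hg
    by_contra hno
    push Not at hno
    obtain ⟨h, hh⟩ := klein_trans U g hg hno (D.R c) b hzU hbU hz1 hb1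
    apply hzF kb
    rw [isConj_iff]
    exact ⟨h, by rw [hh, hkb]⟩
  obtain ⟨t, htS, htN, htC⟩ := dih_klein_t (P : Subgroup G) m' hm' e U hUS
  apply le_antisymm
  · intro g hg
    rcases forward_core U hFP t htN htC g hg with h | h
    · exact Subgroup.mem_sup_left h
    · have e' : g = (g * t⁻¹) * t := by group
      rw [e']
      exact Subgroup.mul_mem _ (Subgroup.mem_sup_left h) (Subgroup.mem_sup_right ⟨htS, htN⟩)
  · exact sup_le (Subgroup.centralizer_le_normalizer _) inf_le_right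

theorem not_conj_F (P : Sylow 2 G) {m : ℕ} (hm : 2 ∣ m)
    (D : DihParam (P : Subgroup G) m) (hnpc : HasNormalPComplement 2 G) :
    ¬ IsConj (D.F 0) (D.F 1) := by
  haveI : Fact (Nat.Prime 2) := ⟨Nat.prime_two⟩
  intro hconj
  obtain ⟨g, hg⟩ := isConj_iff.mp hconj
  obtain ⟨P', N, hN, hc⟩ := hnpc
  haveI := hN
  obtain ⟨x, hx⟩ := MulAction.exists_smul_eq G P' P
  have hPS : cj x (P' : Subgroup G) = (P : Subgroup G) := by rw [← sylow_smul_eq_cj, hx]
  have hc' : Subgroup.IsComplement' N (P : Subgroup G) := by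
    rw [← hPS]; exact isComplement'_cj N _ hc x
  obtain ⟨k, hk, h, hh, hgkh⟩ := Cfsg.Agent.Lib.Helper1.exists_mul_of_isComplement' hc' g
  obtain ⟨w, hw⟩ : ∃ w, w = h * D.F 0 * h⁻¹ := ⟨_, rfl⟩
  have hwP : w ∈ (P : Subgroup G) := by
    rw [hw]
    exact Subgroup.mul_mem _ (Subgroup.mul_mem _ hh (D.F_mem 0)) (Subgroup.inv_mem _ hh)
  have hF1 : D.F 1 = k * w * k⁻¹ := by
    rw [← hg, hgkh, hw]; group
  have h1N : D.F 1 * w⁻¹ ∈ N := by
    have e1 : D.F 1 * w⁻¹ = k * (w * k⁻¹ * w⁻¹) := by rw [hF1]; group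
    rw [e1]
    exact N.mul_mem hk (hN.conj_mem _ (N.inv_mem hk) w)
  have h1P : D.F 1 * w⁻¹ ∈ (P : Subgroup G) :=
    Subgroup.mul_mem _ (D.F_mem 1) (Subgroup.inv_mem _ hwP)
  have h1 : D.F 1 * w⁻¹ = 1 := Cfsg.Agent.Lib.Helper1.inf_eq_bot_of_isComplement' hc' h1N h1P
  have h2 : D.F 1 = w := mul_inv_eq_one.mp h1
  rw [hw] at h2
  rcases D.mem_cases h hh with ⟨i, rfl⟩ | ⟨i, rfl⟩
  · rw [D.R_inv, D.RF, D.FR] at h2
    have h3 := D.F_inj _ _ h2
    apply two_mul_ne_one' m hm (-i)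
    linear_combination -h3
  · rw [D.F_inv, D.FF, D.RF] at h2
    have h3 := D.F_inj _ _ h2
    apply two_mul_ne_one' m hm i
    linear_combination -h3

theorem ncard_classes_one (a : G) (ha : orderOf a = 2)
    (hcls : ∀ g : G, orderOf g = 2 → IsConj a g) :
    Set.ncard {C : ConjClasses G | ∃ g : G, ConjClasses.mk g = C ∧ orderOf g = 2} = 1 := by
  have : {C : ConjClasses G | ∃ g : G, ConjClasses.mk g = C ∧ orderOf g = 2} =
      {ConjClasses.mk a} := by
    ext C
    simp only [Set.mem_ofPred_eq, Set.mem_singleton_iff]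
    constructor
    · rintro ⟨g, rfl, hg⟩
      exact (ConjClasses.mk_eq_mk_iff_isConj.mpr (hcls g hg)).symm
    · rintro rfl
      exact ⟨a, rfl, ha⟩
  rw [this, Set.ncard_singleton]

theorem ncard_classes_two (a b : G) (ha : orderOf a = 2) (hb : orderOf b = 2)
    (hcls : ∀ g : G, orderOf g = 2 → IsConj a g ∨ IsConj b g) (hab : ¬ IsConj a b) :
    Set.ncard {C : ConjClasses G | ∃ g : G, ConjClasses.mk g = C ∧ orderOf g = 2} = 2 := by
  have : {C : ConjClasses G | ∃ g : G, ConjClasses.mk g = C ∧ orderOf g = 2} =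
      {ConjClasses.mk a, ConjClasses.mk b} := by
    ext C
    simp only [Set.mem_ofPred_eq, Set.mem_insert_iff, Set.mem_singleton_iff]
    constructor
    · rintro ⟨g, rfl, hg⟩
      rcases hcls g hg with h | h
      · left; exact (ConjClasses.mk_eq_mk_iff_isConj.mpr h).symm
      · right; exact (ConjClasses.mk_eq_mk_iff_isConj.mpr h).symm
    · rintro (rfl | rfl)
      · exact ⟨a, rfl, ha⟩
      · exact ⟨b, rfl, hb⟩
  rw [this]
  apply Set.ncard_pair
  intro h
  exact hab (ConjClasses.mk_eq_mk_iff_isConj.mp h)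

theorem ncard_classes_three (a b c : G) (ha : orderOf a = 2) (hb : orderOf b = 2)
    (hc : orderOf c = 2)
    (hcls : ∀ g : G, orderOf g = 2 → IsConj a g ∨ IsConj b g ∨ IsConj c g)
    (hab : ¬ IsConj a b) (hac : ¬ IsConj a c) (hbc : ¬ IsConj b c) :
    Set.ncard {C : ConjClasses G | ∃ g : G, ConjClasses.mk g = C ∧ orderOf g = 2} = 3 := by
  have : {C : ConjClasses G | ∃ g : G, ConjClasses.mk g = C ∧ orderOf g = 2} =
      {ConjClasses.mk a, ConjClasses.mk b, ConjClasses.mk c} := by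
    ext C
    simp only [Set.mem_ofPred_eq, Set.mem_insert_iff, Set.mem_singleton_iff]
    constructor
    · rintro ⟨g, rfl, hg⟩
      rcases hcls g hg with h | h | h
      · left; exact (ConjClasses.mk_eq_mk_iff_isConj.mpr h).symm
      · right; left; exact (ConjClasses.mk_eq_mk_iff_isConj.mpr h).symm
      · right; right; exact (ConjClasses.mk_eq_mk_iff_isConj.mpr h).symm
    · rintro (rfl | rfl | rfl)
      · exact ⟨a, rfl, ha⟩
      · exact ⟨b, rfl, hb⟩
      · exact ⟨c, rfl, hc⟩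
  rw [this]
  have hab' : (ConjClasses.mk a : ConjClasses G) ≠ ConjClasses.mk b :=
    fun h => hab (ConjClasses.mk_eq_mk_iff_isConj.mp h)
  have hac' : (ConjClasses.mk a : ConjClasses G) ≠ ConjClasses.mk c :=
    fun h => hac (ConjClasses.mk_eq_mk_iff_isConj.mp h)
  have hbc' : (ConjClasses.mk b : ConjClasses G) ≠ ConjClasses.mk c :=
    fun h => hbc (ConjClasses.mk_eq_mk_iff_isConj.mp h)
  have e1 : ({ConjClasses.mk b, ConjClasses.mk c} : Set (ConjClasses G)).ncard = 2 :=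
    Set.ncard_pair hbc'
  rw [Set.ncard_insert_of_notMem, e1]
  simp only [Set.mem_insert_iff, Set.mem_singleton_iff, not_or]
  exact ⟨hab', hac'⟩

theorem main (P : Sylow 2 G) (m' : ℕ) (hm' : 1 ≤ m')
    (e : ↥(P : Subgroup G) ≃* DihedralGroup (4 * m')) :
    (Nat.card {C : ConjClasses G // ∃ g : G, ConjClasses.mk g = C ∧ orderOf g = 2} = 1 ∧
      ∀ N : Subgroup G, N.Normal → N.index ≠ 2) ∨
    (Nat.card {C : ConjClasses G // ∃ g : G, ConjClasses.mk g = C ∧ orderOf g = 2} = 2 ∧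
      (∃ N : Subgroup G, N.Normal ∧ N.index = 2) ∧
      ∀ N : Subgroup G, N.Normal → N.index ≠ 4) ∨
    (Nat.card {C : ConjClasses G // ∃ g : G, ConjClasses.mk g = C ∧ orderOf g = 2} = 3 ∧
      Cfsg.HasNormalPComplement 2 G) := by
  classical
  haveI : Fact (Nat.Prime 2) := ⟨Nat.prime_two⟩
  haveI : NeZero (4 * m') := ⟨by omega⟩
  have hm2 : 2 ∣ 4 * m' := ⟨2 * m', by ring⟩
  obtain ⟨D⟩ := dihParam_nonempty (P : Subgroup G) (4 * m') e
  obtain ⟨c, hcc, hc0, jc, hjc⟩ := center_param m' hm'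
  have hT : Nat.card {C : ConjClasses G // ∃ g : G, ConjClasses.mk g = C ∧ orderOf g = 2} =
      Set.ncard {C : ConjClasses G | ∃ g : G, ConjClasses.mk g = C ∧ orderOf g = 2} :=
    Nat.card_coe_set_eq _
  rw [hT]
  have hz2 : D.R c * D.R c = 1 := by rw [D.RR, hcc, D.R0]
  have hz1 : D.R c ≠ 1 := by
    intro h; rw [← D.R0] at h; exact hc0 (D.R_inj _ _ h)
  have hoz : orderOf (D.R c) = 2 := orderOf_eq_prime (by rw [pow_two]; exact hz2) hz1
  have hoF : ∀ k, orderOf (D.F k) = 2 := fun k =>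
    orderOf_eq_prime (by rw [pow_two]; exact D.F_sq k) (D.F_ne_one k)
  have hcls : ∀ g : G, orderOf g = 2 →
      IsConj (D.R c) g ∨ IsConj (D.F 0) g ∨ IsConj (D.F 1) g :=
    fun g hg => invol_G P D c hcc hc0 0 1 0 (by ring) g hg
  by_cases h0 : IsConj (D.R c) (D.F 0)
  · by_cases h1 : IsConj (D.R c) (D.F 1)
    · have hall : ∀ g : G, orderOf g = 2 → IsConj (D.R c) g := by
        intro g hg
        rcases hcls g hg with h | h | h
        · exact h
        · exact h0.trans h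
        · exact h1.trans h
      refine Or.inl ⟨ncard_classes_one (D.R c) hoz hall, ?_⟩
      intro N _
      exact ((Cfsg.Agent.S1255.result P (4 * m') (by omega) e).mpr
        (Or.inl (fun a b ha hb => (hall a ha).symm.trans (hall b hb)))).1 N
    · obtain ⟨hex, hno4⟩ := case_two P hm2 D c hcc hc0 jc hjc 0 1 0 (by ring) h0 h1
      refine Or.inr (Or.inl ⟨?_, hex, hno4⟩)
      apply ncard_classes_two (D.R c) (D.F 1) hoz (hoF 1) _ h1
      intro g hg
      rcases hcls g hg with h | h | h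
      · exact Or.inl h
      · exact Or.inl (h0.trans h)
      · exact Or.inr h
  · by_cases h1 : IsConj (D.R c) (D.F 1)
    · obtain ⟨hex, hno4⟩ := case_two P hm2 D c hcc hc0 jc hjc 1 0 (-1) (by ring) h1 h0
      refine Or.inr (Or.inl ⟨?_, hex, hno4⟩)
      apply ncard_classes_two (D.R c) (D.F 0) hoz (hoF 0) _ h0
      intro g hg
      rcases hcls g hg with h | h | h
      · exact Or.inl h
      · exact Or.inr h
      · exact Or.inl (h1.trans h)
    · have hzF : ∀ k, ¬ IsConj (D.R c) (D.F k) := by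
        intro k hk
        obtain ⟨j, hj | hj⟩ := zmod_even_or_odd (4 * m') k
        · apply h0
          refine hk.trans (IsConj.symm ?_)
          rw [isConj_iff]
          refine ⟨D.R (-j), ?_⟩
          rw [D.conj_F, hj, zero_add]
        · apply h1
          refine hk.trans (IsConj.symm ?_)
          rw [isConj_iff]
          refine ⟨D.R (-j), ?_⟩
          rw [D.conj_F, hj, add_comm]
      have hnpc := case_three_npc P m' hm' e D c hcc hc0 hzF
      refine Or.inr (Or.inr ⟨?_, hnpc⟩)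
      exact ncard_classes_three (D.R c) (D.F 0) (D.F 1) hoz (hoF 0) (hoF 1) hcls h0 h1
        (not_conj_F P hm2 D hnpc)

end main

end Cfsg.Agent.Lib.Lead.DihTri
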