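import Mathlib

set_option autoImplicit false

namespace Cfsg.Agent.Lib.Lead

open scoped commutatorElement

section lemmaB

variable {Γ : Type*} [Group Γ]

/-- The map `x ↦ x s x⁻¹ s⁻¹` on an abelian normal subgroup `A`, as a homomorphism. -/
def commHom (A : Subgroup Γ) [A.Normal] (hab : ∀ x ∈ A, ∀ y ∈ A, x * y = y * x) (s : Γ) : ↥A →* Γ :=
  MonoidHom.mk' (fun x => (x : Γ) * s * (x : Γ)⁻¹ * s⁻¹) (by
    intro x y
    have hx : (x : Γ) ∈ A := x.2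
    have hy : (y : Γ) ∈ A := y.2
    have hw : s * (x : Γ)⁻¹ * s⁻¹ ∈ A := Subgroup.Normal.conj_mem inferInstance _ (A.inv_mem hx) s
    have h1 : (y : Γ) * (s * (x : Γ)⁻¹ * s⁻¹) = (s * (x : Γ)⁻¹ * s⁻¹) * (y : Γ) := hab _ hy _ hw
    have h2 : (x : Γ) * (y : Γ) = (y : Γ) * (x : Γ) := hab _ hx _ hy
    show ((x * y : A) : Γ) * s * ((x * y : A) : Γ)⁻¹ * s⁻¹ =
      ((x : Γ) * s * (x : Γ)⁻¹ * s⁻¹) * ((y : Γ) * s * (y : Γ)⁻¹ * s⁻¹)
    rw [Subgroup.coe_mul]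
    calc (x : Γ) * y * s * ((x : Γ) * y)⁻¹ * s⁻¹
        = (x : Γ) * y * s * ((y : Γ) * x)⁻¹ * s⁻¹ := by rw [h2]
      _ = (x : Γ) * ((y : Γ) * (s * (x : Γ)⁻¹ * s⁻¹)) * (s * (y : Γ)⁻¹ * s⁻¹) := by group
      _ = (x : Γ) * ((s * (x : Γ)⁻¹ * s⁻¹) * (y : Γ)) * (s * (y : Γ)⁻¹ * s⁻¹) := by rw [h1]
      _ = _ := by group)

theorem commHom_apply (A : Subgroup Γ) [A.Normal] (hab : ∀ x ∈ A, ∀ y ∈ A, x * y = y * x) (s : Γ)
    (x : A) : commHom A hab s x = (x : Γ) * s * (x : Γ)⁻¹ * s⁻¹ := rfl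

/-- If `Γ = A ∪ A s` with `A` abelian and normal then every element of the commutator subgroup has the form
`x s x⁻¹ s⁻¹` with `x ∈ A`. -/
theorem commutator_le_range_commHom (A : Subgroup Γ) [A.Normal]
    (hab : ∀ x ∈ A, ∀ y ∈ A, x * y = y * x) (s : Γ)
    (hcov : ∀ g : Γ, g ∈ A ∨ g * s⁻¹ ∈ A) :
    commutator Γ ≤ (commHom A hab s).range := by
  -- the two basic commutator computations
  have key1 : ∀ x ∈ A, ∀ y ∈ A, ⁅x, y * s⁆ = x * s * x⁻¹ * s⁻¹ := by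
    intro x hx y hy
    have hw : s * x⁻¹ * s⁻¹ ∈ A := Subgroup.Normal.conj_mem inferInstance _ (A.inv_mem hx) s
    have h1 : y * (s * x⁻¹ * s⁻¹) = (s * x⁻¹ * s⁻¹) * y := hab _ hy _ hw
    rw [commutatorElement_def]
    calc x * (y * s) * x⁻¹ * (y * s)⁻¹ = x * (y * (s * x⁻¹ * s⁻¹)) * y⁻¹ := by group
      _ = x * ((s * x⁻¹ * s⁻¹) * y) * y⁻¹ := by rw [h1]
      _ = _ := by group
  have key2 : ∀ x ∈ A, ∀ y ∈ A, ⁅x * s, y * s⁆ = (x * y⁻¹) * s * (x * y⁻¹)⁻¹ * s⁻¹ := by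
    intro x hx y hy
    have hw : s * (y * x⁻¹) * s⁻¹ ∈ A :=
      Subgroup.Normal.conj_mem inferInstance _ (A.mul_mem hy (A.inv_mem hx)) s
    have h1 : (s * (y * x⁻¹) * s⁻¹) * y⁻¹ = y⁻¹ * (s * (y * x⁻¹) * s⁻¹) :=
      hab _ hw _ (A.inv_mem hy)
    rw [commutatorElement_def]
    calc x * s * (y * s) * (x * s)⁻¹ * (y * s)⁻¹ = x * ((s * (y * x⁻¹) * s⁻¹) * y⁻¹) := by group
      _ = x * (y⁻¹ * (s * (y * x⁻¹) * s⁻¹)) := by rw [h1]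
      _ = _ := by group
  rw [commutator_def, Subgroup.commutator_le]
  intro g₁ _ g₂ _
  rcases hcov g₁ with h1 | h1 <;> rcases hcov g₂ with h2 | h2
  · have : ⁅g₁, g₂⁆ = 1 := by
      rw [commutatorElement_def, hab g₁ h1 g₂ h2]; group
    rw [this]; exact Subgroup.one_mem _
  · have e : g₂ = (g₂ * s⁻¹) * s := by group
    rw [e, key1 g₁ h1 _ h2]
    exact ⟨⟨g₁, h1⟩, rfl⟩
  · have e : g₁ = (g₁ * s⁻¹) * s := by group
    have : ⁅g₁, g₂⁆ = (⁅g₂, (g₁ * s⁻¹) * s⁆)⁻¹ := by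
      rw [commutatorElement_inv, ← e]
    rw [this, key1 g₂ h2 _ h1]
    exact Subgroup.inv_mem _ ⟨⟨g₂, h2⟩, rfl⟩
  · have e1 : g₁ = (g₁ * s⁻¹) * s := by group
    have e2 : g₂ = (g₂ * s⁻¹) * s := by group
    rw [e1, e2, key2 _ h1 _ h2]
    exact ⟨⟨(g₁ * s⁻¹) * (g₂ * s⁻¹)⁻¹, A.mul_mem h1 (A.inv_mem h2)⟩, rfl⟩

end lemmaB

section lemmaC

variable {Γ Q : Type*} [Group Γ] [Group Q]

/-- Stem extensions of a group with a cyclic normal subgroup `⟨σ r⟩` of "index two" (covered by `⟨σ r⟩` and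
`⟨σ r⟩ σ s`): every element of the kernel is a power of the commutator `⁅r, s⁆`, and powers of that commutator
are the commutators `⁅r ^ m, s⁆`. -/
theorem ker_le_zpowers_commutator (σ : Γ →* Q) (hcen : σ.ker ≤ Subgroup.center Γ)
    (hcomm : σ.ker ≤ commutator Γ) (r s : Γ) [hN : (Subgroup.zpowers (σ r)).Normal]
    (hcov : ∀ q : Q, q ∈ Subgroup.zpowers (σ r) ∨ q * (σ s)⁻¹ ∈ Subgroup.zpowers (σ r)) :
    (∀ m : ℤ, ⁅r, s⁆ ^ m = r ^ m * s * (r ^ m)⁻¹ * s⁻¹) ∧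
      ∀ z ∈ σ.ker, ∃ k : ℤ, z = ⁅r, s⁆ ^ k := by
  set A : Subgroup Γ := (Subgroup.zpowers (σ r)).comap σ with hA
  have hAn : A.Normal := Subgroup.Normal.comap hN σ
  have hdecomp : ∀ x ∈ A, ∃ k : ℤ, ∃ z ∈ σ.ker, x = r ^ k * z := by
    intro x hx
    obtain ⟨k, hk⟩ := Subgroup.mem_zpowers_iff.1 (Subgroup.mem_comap.1 hx)
    refine ⟨k, (r ^ k)⁻¹ * x, ?_, by group⟩
    rw [MonoidHom.mem_ker, map_mul, map_inv, map_zpow, hk, inv_mul_cancel]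
  have hab : ∀ x ∈ A, ∀ y ∈ A, x * y = y * x := by
    intro x hx y hy
    obtain ⟨k, z, hz, rfl⟩ := hdecomp x hx
    obtain ⟨l, w, hw, rfl⟩ := hdecomp y hy
    have hz' := Subgroup.mem_center_iff.1 (hcen hz)
    have hw' := Subgroup.mem_center_iff.1 (hcen hw)
    have hkl : r ^ k * r ^ l = r ^ l * r ^ k := by rw [← zpow_add, ← zpow_add, add_comm]
    calc r ^ k * z * (r ^ l * w) = r ^ k * (z * r ^ l) * w := by group
      _ = r ^ k * (r ^ l * z) * w := by rw [hz' (r ^ l)]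
      _ = (r ^ k * r ^ l) * (z * w) := by group
      _ = (r ^ l * r ^ k) * (w * z) := by rw [hkl, hw' z]
      _ = r ^ l * (r ^ k * w) * z := by group
      _ = r ^ l * (w * r ^ k) * z := by rw [hw' (r ^ k)]
      _ = _ := by group
  have hcov' : ∀ g : Γ, g ∈ A ∨ g * s⁻¹ ∈ A := by
    intro g
    rcases hcov (σ g) with h | h
    · exact Or.inl (Subgroup.mem_comap.2 h)
    · refine Or.inr (Subgroup.mem_comap.2 ?_)
      rwa [map_mul, map_inv]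
  have hrA : ∀ m : ℤ, r ^ m ∈ A := by
    intro m
    rw [hA, Subgroup.mem_comap, map_zpow]
    exact Subgroup.zpow_mem_zpowers _ _
  have hpow : ∀ m : ℤ, ⁅r, s⁆ ^ m = r ^ m * s * (r ^ m)⁻¹ * s⁻¹ := by
    intro m
    have h1 : commHom A hab s ⟨r, by simpa using hrA 1⟩ = ⁅r, s⁆ := by
      rw [commHom_apply, commutatorElement_def]
    have h2 : commHom A hab s (⟨r, by simpa using hrA 1⟩ ^ m) = r ^ m * s * (r ^ m)⁻¹ * s⁻¹ := by
      rw [commHom_apply]; simp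
    rw [← h1, ← map_zpow, h2]
  refine ⟨hpow, ?_⟩
  intro z hz
  obtain ⟨x, hx⟩ := commutator_le_range_commHom A hab s hcov' (hcomm hz)
  obtain ⟨k, w, hw, hxw⟩ := hdecomp x x.2
  refine ⟨k, ?_⟩
  have hw' := Subgroup.mem_center_iff.1 (hcen hw)
  rw [hpow k, ← hx, commHom_apply, hxw]
  calc r ^ k * w * s * (r ^ k * w)⁻¹ * s⁻¹ = r ^ k * (w * s) * w⁻¹ * (r ^ k)⁻¹ * s⁻¹ := by group
    _ = r ^ k * (s * w) * w⁻¹ * (r ^ k)⁻¹ * s⁻¹ := by rw [hw' s]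
    _ = _ := by group

end lemmaC

end Cfsg.Agent.Lib.Lead
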