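import Mathlib
import Cfsg.Agent.Lib.Lead.IndexTwoAbelian

set_option autoImplicit false

namespace Cfsg.Agent.Lib.Lead

open scoped commutatorElement
open DihedralGroup

theorem dih_r_mem_zpowers {n : ℕ} (i : ZMod n) :
    (DihedralGroup.r i : DihedralGroup n) ∈ Subgroup.zpowers (DihedralGroup.r 1 : DihedralGroup n) := by
  rw [Subgroup.mem_zpowers_iff]
  exact ⟨(i.cast : ℤ), by rw [DihedralGroup.r_one_zpow, ZMod.intCast_zmod_cast]⟩

theorem dih_mem_zpowers_iff {n : ℕ} (x : DihedralGroup n) :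
    x ∈ Subgroup.zpowers (DihedralGroup.r 1 : DihedralGroup n) ↔ ∃ i, x = DihedralGroup.r i := by
  constructor
  · intro hx
    obtain ⟨k, rfl⟩ := Subgroup.mem_zpowers_iff.1 hx
    exact ⟨_, DihedralGroup.r_one_zpow k⟩
  · rintro ⟨i, rfl⟩; exact dih_r_mem_zpowers i

theorem dih_zpowers_normal (n : ℕ) :
    (Subgroup.zpowers (DihedralGroup.r 1 : DihedralGroup n)).Normal := by
  refine ⟨fun x hx g => ?_⟩
  obtain ⟨i, rfl⟩ := (dih_mem_zpowers_iff x).1 hx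
  rw [dih_mem_zpowers_iff]
  rcases g with j | j
  · exact ⟨i, by simp⟩
  · exact ⟨-i, by simp⟩

/-- Structure of the kernel of a stem extension of a dihedral group. -/
theorem dihedral_stem_ker {n : ℕ} {Γ : Type*} [Group Γ] (σ : Γ →* DihedralGroup n)
    (hsurj : Function.Surjective σ) (hcen : σ.ker ≤ Subgroup.center Γ)
    (hcomm : σ.ker ≤ commutator Γ) :
    ∃ c : Γ, c ^ (n : ℤ) = 1 ∧ ∀ z ∈ σ.ker, ∃ k : ℤ, z = c ^ k ∧ (n : ℤ) ∣ 2 * k := by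
  obtain ⟨r₀, hr₀⟩ := hsurj (DihedralGroup.r 1)
  obtain ⟨s₀, hs₀⟩ := hsurj (DihedralGroup.sr 0)
  have hN : (Subgroup.zpowers (σ r₀)).Normal := by rw [hr₀]; exact dih_zpowers_normal n
  have hcov : ∀ q : DihedralGroup n, q ∈ Subgroup.zpowers (σ r₀) ∨
      q * (σ s₀)⁻¹ ∈ Subgroup.zpowers (σ r₀) := by
    intro q
    rw [hr₀, hs₀]
    rcases q with i | i
    · exact Or.inl (dih_r_mem_zpowers i)
    · refine Or.inr ?_
      rw [dih_mem_zpowers_iff]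
      exact ⟨-i, by simp⟩
  obtain ⟨hpow, hker⟩ := ker_le_zpowers_commutator σ hcen hcomm r₀ s₀ hcov
  have hσc : σ ⁅r₀, s₀⁆ = DihedralGroup.r 2 := by
    rw [map_commutatorElement, hr₀, hs₀, commutatorElement_def]
    simp only [DihedralGroup.inv_r, DihedralGroup.inv_sr, DihedralGroup.r_mul_sr,
      DihedralGroup.sr_mul_r, DihedralGroup.sr_mul_sr]
    congr 1
    ring
  refine ⟨⁅r₀, s₀⁆, ?_, ?_⟩
  · rw [hpow]
    have hmem : r₀ ^ (n : ℤ) ∈ σ.ker := by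
      rw [MonoidHom.mem_ker, map_zpow, hr₀, DihedralGroup.r_one_zpow]
      rw [Int.cast_natCast, ZMod.natCast_self, DihedralGroup.r_zero]
    have hc := Subgroup.mem_center_iff.1 (hcen hmem) s₀
    calc r₀ ^ (n : ℤ) * s₀ * (r₀ ^ (n : ℤ))⁻¹ * s₀⁻¹
        = (r₀ ^ (n : ℤ) * s₀) * (r₀ ^ (n : ℤ))⁻¹ * s₀⁻¹ := by group
      _ = (s₀ * r₀ ^ (n : ℤ)) * (r₀ ^ (n : ℤ))⁻¹ * s₀⁻¹ := by rw [hc]
      _ = 1 := by group
  · intro z hz
    obtain ⟨k, hk⟩ := hker z hz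
    refine ⟨k, hk, ?_⟩
    have h1 : σ z = 1 := hz
    rw [hk, map_zpow, hσc, DihedralGroup.r_zpow, DihedralGroup.one_def] at h1
    have h2 : (2 : ZMod n) * (k : ZMod n) = 0 := DihedralGroup.r.inj h1
    have h3 : ((2 * k : ℤ) : ZMod n) = 0 := by push_cast; exact h2
    exact (ZMod.intCast_zmod_eq_zero_iff_dvd _ _).1 h3

end Cfsg.Agent.Lib.Lead
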