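import Mathlib
import Cfsg.Prelude.Def_Solvable
import Cfsg.Agent.Lib.Helper1.Fitting2
import Cfsg.Agent.Lib.Helper3.Subn
import Cfsg.Agent.Lib.Helper4.Cores
import Cfsg.Agent.Lib.Helper4.ConjSub
import Cfsg.Agent.S0540

set_option autoImplicit false

universe u

namespace Cfsg.Agent.Lib.Lead.Engel

open Cfsg Cfsg.Agent.Lib.Helper4
open scoped Pointwise

section basic
variable {G : Type*} [Group G]

/-- the commutator map `a ↦ [a, g]` -/
def ec (g a : G) : G := a * g * a⁻¹ * g⁻¹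

/-- left Engel elements -/
def IsLE (g : G) : Prop := ∀ x : G, ∃ k : ℕ, (ec g)^[k] x = 1

theorem foldl_eq_iterate (g x : G) (n : ℕ) :
    (List.replicate n g).foldl (fun a b => a * b * a⁻¹ * b⁻¹) x = (ec g)^[n] x := by
  induction n generalizing x with
  | zero => rfl
  | succ n ih =>
    simp only [List.replicate_succ, List.foldl_cons, ih, Function.iterate_succ_apply, ec]

theorem ec_conj (t g x : G) : ec (t * g * t⁻¹) (t * x * t⁻¹) = t * ec g x * t⁻¹ := by
  unfold ec; group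

theorem iterate_ec_conj (t g : G) (k : ℕ) (x : G) :
    (ec (t * g * t⁻¹))^[k] (t * x * t⁻¹) = t * (ec g)^[k] x * t⁻¹ := by
  induction k generalizing x with
  | zero => rfl
  | succ k ih => rw [Function.iterate_succ_apply, Function.iterate_succ_apply, ec_conj, ih]

theorem IsLE.conj {g : G} (h : IsLE g) (t : G) : IsLE (t * g * t⁻¹) := by
  intro x
  obtain ⟨k, hk⟩ := h (t⁻¹ * x * t)
  refine ⟨k, ?_⟩
  have h1 := iterate_ec_conj t g k (t⁻¹ * x * t)
  have e : t * (t⁻¹ * x * t) * t⁻¹ = x := by group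
  rw [e, hk] at h1
  rw [h1]; group

theorem coe_iterate_ec (V : Subgroup G) (y x : V) (k : ℕ) :
    (((ec y)^[k] x : V) : G) = (ec (y : G))^[k] (x : G) := by
  induction k generalizing x with
  | zero => rfl
  | succ k ih =>
    rw [Function.iterate_succ_apply, Function.iterate_succ_apply, ih]
    rfl

theorem IsLE.sub {g : G} (h : IsLE g) (V : Subgroup G) (hg : g ∈ V) : IsLE (⟨g, hg⟩ : V) := by
  intro x
  obtain ⟨k, hk⟩ := h x
  exact ⟨k, Subtype.ext (by rw [coe_iterate_ec]; exact hk)⟩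

theorem zpowers_subgroupOf (V : Subgroup G) (g : G) (hg : g ∈ V) :
    (Subgroup.zpowers g).subgroupOf V = Subgroup.zpowers (⟨g, hg⟩ : V) := by
  have h1 : (Subgroup.zpowers (⟨g, hg⟩ : V)).map V.subtype = Subgroup.zpowers g := by
    rw [MonoidHom.map_zpowers]; rfl
  rw [← h1, Subgroup.subgroupOf,
    Subgroup.comap_map_eq_self_of_injective (Subgroup.subtype_injective V)]

theorem conj_smul_zpowers (t g : G) :
    MulAut.conj t • Subgroup.zpowers g = Subgroup.zpowers (t * g * t⁻¹) := by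
  have h : MulAut.conj t • Subgroup.zpowers g =
      (Subgroup.zpowers g).map (MulAut.conj t).toMonoidHom := rfl
  rw [h, MonoidHom.map_zpowers]
  rfl

theorem subnormal_subgroupOf_of_le {A T V : Subgroup G} (hTV : T ≤ V)
    (h : (A.subgroupOf V).IsSubnormal) : (A.subgroupOf T).IsSubnormal := by
  have h1 := h.comap (Subgroup.inclusion hTV)
  have e : (A.subgroupOf V).comap (Subgroup.inclusion hTV) = A.subgroupOf T := by
    ext x
    simp [Subgroup.mem_subgroupOf]
  rwa [e] at h1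

theorem zpowers_isNilpotent (g : G) : Group.IsNilpotent ↥(Subgroup.zpowers g) := by
  refine (Subgroup.isNilpotent_iff_lowerCentralSeries _).2 ⟨1, ?_⟩
  rw [Subgroup.lowerCentralSeries_succ, Subgroup.lowerCentralSeries_zero,
    Subgroup.commutator_eq_bot_iff_le_centralizer]
  intro a ha
  rw [Subgroup.mem_centralizer_iff]
  intro b hb
  obtain ⟨i, rfl⟩ := Subgroup.mem_zpowers_iff.1 ha
  obtain ⟨j, rfl⟩ := Subgroup.mem_zpowers_iff.1 hb
  exact ((Commute.refl g).zpow_zpow j i).eq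

end basic

theorem isSubnormal_zpowers_of_isLE_aux : ∀ (n : ℕ) (G : Type u) [Group G] [Finite G],
    Nat.card G = n → ∀ g : G, IsLE g → (Subgroup.zpowers g).IsSubnormal := by
  intro n
  induction n using Nat.strong_induction_on with
  | _ n ih =>
  intro G _ _ hcard g hg
  classical
  by_contra hns
  obtain ⟨A, hA⟩ : ∃ A, A = Subgroup.zpowers g := ⟨_, rfl⟩
  rw [← hA] at hns
  have hAtop : A ≠ ⊤ := fun h => hns (h ▸ Subgroup.IsSubnormal.top)
  have hgA : g ∈ A := by rw [hA]; exact Subgroup.mem_zpowers g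
  -- IH for proper subgroups
  have hIH : ∀ V : Subgroup G, V ≠ ⊤ → ∀ y : G, IsLE y → y ∈ V →
      ((Subgroup.zpowers y).subgroupOf V).IsSubnormal := by
    intro V hV y hy hyV
    rw [zpowers_subgroupOf V y hyV]
    have hlt : Nat.card V < n := by
      rw [← hcard]
      refine lt_of_le_of_ne (Subgroup.card_le_card_group V) ?_
      intro h
      exact hV ((Subgroup.card_eq_iff_eq_top V).1 h)
    exact ih _ hlt ↥V rfl _ (hy.sub V hyV)
  obtain ⟨U, hU⟩ : ∃ U : Set (Subgroup G), U = {V | A ≤ V ∧ V ≠ ⊤} := ⟨_, rfl⟩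
  obtain ⟨S, hS⟩ : ∃ S : Subgroup G → Set (Subgroup G), S = fun V =>
      {B | (∃ t : G, B = MulAut.conj t • A) ∧ B ≤ V ∧ (B.subgroupOf V).IsSubnormal} := ⟨_, rfl⟩
  have hSmem : ∀ V B : Subgroup G, B ∈ S V ↔
      (∃ t : G, B = MulAut.conj t • A) ∧ B ≤ V ∧ (B.subgroupOf V).IsSubnormal := by
    intro V B; rw [hS]; exact Iff.rfl
  have hUmem : ∀ V : Subgroup G, V ∈ U ↔ A ≤ V ∧ V ≠ ⊤ := by
    intro V; rw [hU]; exact Iff.rfl
  have h1 : ∀ V ∈ U, A ∈ S V := by
    intro V hV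
    obtain ⟨hAV, hVtop⟩ := (hUmem V).1 hV
    refine (hSmem V A).2 ⟨⟨1, by rw [map_one, one_smul]⟩, hAV, ?_⟩
    rw [hA]
    exact hIH V hVtop g hg (hAV hgA)
  have h2 : ∀ V ∈ U, ∀ W ∈ U, ∀ B ∈ S W, B ≤ V → B ∈ S V := by
    intro V hV W _ B hB hBV
    obtain ⟨hAV, hVtop⟩ := (hUmem V).1 hV
    obtain ⟨⟨t, ht⟩, -, -⟩ := (hSmem W B).1 hB
    refine (hSmem V B).2 ⟨⟨t, ht⟩, hBV, ?_⟩
    rw [ht, hA, conj_smul_zpowers] at hBV ⊢
    exact hIH V hVtop _ (hg.conj t) (hBV (Subgroup.mem_zpowers _))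
  have h3 : ∀ V ∈ U, ∀ W ∈ U, ∃ X ∈ U,
      Subgroup.normalizer ((sSup (S V ∩ S W) : Subgroup G) : Set G) ≤ X := by
    intro V hV W hW
    obtain ⟨hAV, hVtop⟩ := (hUmem V).1 hV
    have hAT : A ≤ sSup (S V ∩ S W) := le_sSup ⟨h1 V hV, h1 W hW⟩
    have hTV : sSup (S V ∩ S W) ≤ V := sSup_le (fun B hB => ((hSmem V B).1 hB.1).2.1)
    refine ⟨Subgroup.normalizer ((sSup (S V ∩ S W) : Subgroup G) : Set G),
      (hUmem _).2 ⟨le_trans hAT Subgroup.le_normalizer, ?_⟩, le_refl _⟩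
    intro h
    have hTn : (sSup (S V ∩ S W) : Subgroup G).Normal := Subgroup.normalizer_eq_top_iff.1 h
    apply hns
    have h5 : (A.subgroupOf V).IsSubnormal := by
      rw [hA]; exact hIH V hVtop g hg (hAV hgA)
    exact Subgroup.IsSubnormal.trans hAT (subnormal_subgroupOf_of_le hTV h5) hTn.isSubnormal
  obtain ⟨M, hMU, hMmax⟩ := Cfsg.Agent.S0540.result A U ⟨A, (hUmem A).2 ⟨le_refl A, hAtop⟩⟩ S
    hSmem h1 h2 h3
  obtain ⟨hAM, hMtop⟩ := (hUmem M).1 hMU
  obtain ⟨x, hxM⟩ : ∃ x, x ∉ M := by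
    by_contra h
    push Not at h
    exact hMtop (eq_top_iff.2 (fun x _ => h x))
  have hgM : g ∈ M := hAM hgA
  obtain ⟨k0, hk0⟩ := hg x
  have hex : ∃ k, (ec g)^[k] x ∈ M := ⟨k0, by rw [hk0]; exact M.one_mem⟩
  have hk := Nat.find_spec hex
  have hkpos : Nat.find hex ≠ 0 := by
    intro h0
    rw [h0] at hk
    exact hxM hk
  obtain ⟨j, hj⟩ := Nat.exists_eq_succ_of_ne_zero hkpos
  have hyM : (ec g)^[j] x ∉ M := Nat.find_min hex (by omega)
  obtain ⟨y, hy⟩ : ∃ y, y = (ec g)^[j] x := ⟨_, rfl⟩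
  rw [← hy] at hyM
  have hcy : ec g y ∈ M := by
    have h5 := hk
    rw [hj, Function.iterate_succ_apply', ← hy] at h5
    exact h5
  have hygy : y * g * y⁻¹ ∈ M := by
    have e : y * g * y⁻¹ = ec g y * g := by unfold ec; group
    rw [e]; exact M.mul_mem hcy hgM
  have hgM'' : g ∈ cj y⁻¹ M := by rw [mem_cj_iff, inv_inv]; exact hygy
  have hcard'' : Nat.card (cj y⁻¹ M) = Nat.card M :=
    Subgroup.card_map_of_injective (conj_injective _)
  have hM''top : cj y⁻¹ M ≠ ⊤ := by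
    intro h
    apply hMtop
    apply (Subgroup.card_eq_iff_eq_top M).1
    rw [← hcard'', h, Subgroup.card_top]
  have hle : cj y⁻¹ M ≤ M :=
    hMmax _ ((hUmem _).2 ⟨by rw [hA, Subgroup.zpowers_le]; exact hgM'', hM''top⟩)
  have heq : cj y⁻¹ M = M := Subgroup.eq_of_le_of_card_ge hle (by rw [hcard''])
  have hyN : y⁻¹ ∈ Subgroup.normalizer (M : Set G) :=
    Subgroup.mem_normalizer_iff_map_conj_eq.2 heq
  have hyN' : y ∈ Subgroup.normalizer (M : Set G) := by
    have := Subgroup.inv_mem _ hyN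
    rwa [inv_inv] at this
  have hNtop : Subgroup.normalizer (M : Set G) = ⊤ := by
    by_contra h
    have h5 := hMmax _ ((hUmem _).2 ⟨le_trans hAM Subgroup.le_normalizer, h⟩)
    exact hyM (h5 hyN')
  have hMn : M.Normal := Subgroup.normalizer_eq_top_iff.1 hNtop
  have h6 : (A.subgroupOf M).IsSubnormal := by
    rw [hA]; exact hIH M hMtop g hg hgM
  exact hns (Subgroup.IsSubnormal.trans hAM h6 hMn.isSubnormal)

theorem isSubnormal_zpowers_of_isLE {G : Type u} [Group G] [Finite G] {g : G} (hg : IsLE g) :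
    (Subgroup.zpowers g).IsSubnormal :=
  isSubnormal_zpowers_of_isLE_aux _ G rfl g hg

theorem isLE_of_mem_fitting {G : Type u} [Group G] [Finite G] {g : G}
    (hg : g ∈ fittingSubgroup G) : IsLE g := by
  have hFn : (fittingSubgroup G).Normal := fittingSubgroup_normal
  have hnil : Group.IsNilpotent ↥(fittingSubgroup G) := by
    rw [Cfsg.Agent.Lib.Helper1.fitting_eq_pCoreSup]
    exact Cfsg.Agent.Lib.Helper1.pCoreSup_isNilpotent
  obtain ⟨n, hn⟩ := (Subgroup.isNilpotent_iff_lowerCentralSeries _).1 hnil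
  have key : ∀ k : ℕ, ∀ x : G,
      (ec g)^[k + 1] x ∈ (fittingSubgroup G).lowerCentralSeries k := by
    intro k
    induction k with
    | zero =>
      intro x
      rw [Subgroup.lowerCentralSeries_zero]
      show ec g x ∈ fittingSubgroup G
      unfold ec
      exact Subgroup.mul_mem _ (hFn.conj_mem g hg x) (Subgroup.inv_mem _ hg)
    | succ k ih =>
      intro x
      rw [Function.iterate_succ_apply', Subgroup.lowerCentralSeries_succ]
      have h1 := Subgroup.commutator_mem_commutator (ih x) hg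
      rw [commutatorElement_def] at h1
      exact h1
  intro x
  refine ⟨n + 1, ?_⟩
  have h1 := key n x
  rw [hn, Subgroup.mem_bot] at h1
  exact h1

theorem mem_fitting_iff_isLE {G : Type u} [Group G] [Finite G] (g : G) :
    g ∈ fittingSubgroup G ↔ IsLE g := by
  constructor
  · exact isLE_of_mem_fitting
  · intro h
    exact Cfsg.Agent.Lib.Helper3.subnormal_nilpotent_le_fitting (isSubnormal_zpowers_of_isLE h)
      (zpowers_isNilpotent g) (Subgroup.mem_zpowers g)

end Cfsg.Agent.Lib.Lead.Engel
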