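import Mathlib
import Cfsg.Prelude.Def_Transfer
import Cfsg.Agent.Lib.Helper9.ExtraSub

set_option autoImplicit false

namespace Cfsg.Agent.Lib.Lead.Extra2

open scoped commutatorElement

section
variable {E : Type*} [Group E]

theorem half_count {B : Type*} [Group B] [Fintype B] [DecidableEq E] (c : B → E) (z : E)
    (hz : z * z = 1) (hval : ∀ b, c b = 1 ∨ c b = z) (hmul : ∀ a b, c (a * b) = c a * c b)
    (b₀ : B) (hb₀ : c b₀ ≠ 1) :
    2 * (Finset.univ.filter (fun b => c b = 1)).card = Fintype.card B ∧
    2 * (Finset.univ.filter (fun b => ¬ c b = 1)).card = Fintype.card B := by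
  have hb₀z : c b₀ = z := (hval b₀).resolve_left hb₀
  have h1 : (Finset.univ.filter (fun b => c b = 1)).card =
      (Finset.univ.filter (fun b => ¬ c b = 1)).card := by
    apply Finset.card_equiv (Equiv.mulRight b₀)
    intro b
    simp only [Finset.mem_filter, Finset.mem_univ, true_and, Equiv.coe_mulRight]
    rw [hmul, hb₀z]
    constructor
    · intro h
      rw [h, one_mul, ← hb₀z]
      exact hb₀
    · intro h
      rcases hval b with h1 | h1
      · exact h1
      · exfalso
        apply h
        rw [h1, hz]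
  have h2 := Finset.card_filter_add_card_filter_not (s := (Finset.univ : Finset B))
    (fun b => c b = 1)
  rw [Finset.card_univ] at h2
  constructor <;> omega

theorem card_filter_mem' [Fintype E] [DecidableEq E] (H : Subgroup E) [DecidablePred (· ∈ H)] :
    (Finset.univ.filter (· ∈ H)).card = Nat.card H := by
  rw [Nat.card_eq_fintype_card, Fintype.card_subtype]

/-- The data of an extraspecial 2-group that we use: the central involution `z`. -/
structure Data (E : Type*) [Group E] (z : E) : Prop where
  zc : z ∈ Subgroup.center E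
  z1 : z ≠ 1
  zz : z * z = 1
  cval : ∀ w ∈ Subgroup.center E, w = 1 ∨ w = z
  sq : ∀ x : E, x * x ∈ Subgroup.center E
  comm : ∀ x y : E, x * y * x⁻¹ * y⁻¹ ∈ Subgroup.center E

theorem exists_data [Finite E] (hE : Cfsg.IsExtraspecial 2 E) : ∃ z : E, Data E z := by
  obtain ⟨⟨hP, hΦ, hcomm⟩, hZ2⟩ := hE
  haveI : Fact (Nat.Prime 2) := ⟨Nat.prime_two⟩
  obtain ⟨zz, hzz1, hzzu⟩ := (Nat.card_eq_two_iff' (1 : Subgroup.center E)).1 hZ2
  have hzZ : (zz : E) ∈ Subgroup.center E := zz.2
  have hz1 : (zz : E) ≠ 1 := fun h => hzz1 (Subtype.ext h)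
  have hZval : ∀ w ∈ Subgroup.center E, w = 1 ∨ w = (zz : E) := by
    intro w hw
    by_cases h : w = 1
    · left; exact h
    · right
      have h2 := hzzu ⟨w, hw⟩ (fun h' => h (congrArg Subtype.val h'))
      exact congrArg Subtype.val h2
  have hzsq : (zz : E) * (zz : E) = 1 := by
    rcases hZval ((zz : E) * (zz : E)) ((Subgroup.center E).mul_mem hzZ hzZ) with h | h
    · exact h
    · exfalso
      apply hz1
      have h3 : (zz : E) * (zz : E) = (zz : E) * 1 := by rw [h, mul_one]
      exact mul_left_cancel h3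
  refine ⟨(zz : E), hzZ, hz1, hzsq, hZval, ?_, ?_⟩
  · intro x
    have h := Cfsg.Agent.Lib.Helper9.pow_mem_frattini_of_isPGroup 2 hP x
    rw [hΦ, pow_two] at h
    exact h
  · intro x y
    have h1 : ⁅x, y⁆ ∈ commutator E :=
      Subgroup.commutator_mem_commutator (Subgroup.mem_top x) (Subgroup.mem_top y)
    rw [hcomm, commutatorElement_def] at h1
    exact h1

theorem Data.cen {z : E} (hD : Data E z) : ∀ w ∈ Subgroup.center E, ∀ g : E, g * w = w * g :=
  fun _ hw g => (Subgroup.mem_center_iff.1 hw g)

theorem Data.cm_r {z : E} (hD : Data E z) (x a b : E) : x * (a * b) * x⁻¹ * (a * b)⁻¹ =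
    (x * a * x⁻¹ * a⁻¹) * (x * b * x⁻¹ * b⁻¹) := by
  calc x * (a * b) * x⁻¹ * (a * b)⁻¹
      = x * a * x⁻¹ * ((x * b * x⁻¹ * b⁻¹) * a⁻¹) := by group
    _ = x * a * x⁻¹ * (a⁻¹ * (x * b * x⁻¹ * b⁻¹)) := by
        rw [← hD.cen _ (hD.comm x b) a⁻¹]
    _ = (x * a * x⁻¹ * a⁻¹) * (x * b * x⁻¹ * b⁻¹) := by group

theorem Data.cm_l {z : E} (hD : Data E z) (x y a : E) : (x * y) * a * (x * y)⁻¹ * a⁻¹ =
    (x * a * x⁻¹ * a⁻¹) * (y * a * y⁻¹ * a⁻¹) := by
  calc (x * y) * a * (x * y)⁻¹ * a⁻¹
      = x * (y * a * y⁻¹ * a⁻¹) * (a * x⁻¹ * a⁻¹) := by group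
    _ = (y * a * y⁻¹ * a⁻¹) * x * (a * x⁻¹ * a⁻¹) := by
        rw [hD.cen _ (hD.comm y a) x]
    _ = (y * a * y⁻¹ * a⁻¹) * (x * a * x⁻¹ * a⁻¹) := by group
    _ = (x * a * x⁻¹ * a⁻¹) * (y * a * y⁻¹ * a⁻¹) := (hD.cen _ (hD.comm y a) _).symm

theorem cm_one (x a : E) : x * a * x⁻¹ * a⁻¹ = 1 ↔ x * a = a * x := by
  constructor
  · intro h
    calc x * a = (x * a * x⁻¹ * a⁻¹) * (a * x) := by group
      _ = a * x := by rw [h, one_mul]
  · intro h
    calc x * a * x⁻¹ * a⁻¹ = (a * x) * x⁻¹ * a⁻¹ := by rw [h]
      _ = 1 := by group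

/-- `|C_E(A)| · |A| = |E| · |Z(E) ∩ A|` in an extraspecial 2-group. -/
theorem card_centralizer_mul [Finite E] {z : E} (hD : Data E z) (A : Subgroup E) :
    Nat.card (Subgroup.centralizer (A : Set E)) * Nat.card A =
      Nat.card E * Nat.card (Subgroup.center E ⊓ A : Subgroup E) := by
  classical
  haveI : Fintype E := Fintype.ofFinite E
  have hZval := hD.cval
  have hcommZ := hD.comm
  have hzsq := hD.zz
  have hcen := hD.cen
  have hhalfA : ∀ x : E, x ∉ Subgroup.centralizer (A : Set E) →
      2 * (Finset.univ.filter (fun a : A => x * (a : E) * x⁻¹ * (a : E)⁻¹ = 1)).card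
        = Fintype.card A := by
    intro x hx
    rw [Subgroup.mem_centralizer_iff] at hx
    push Not at hx
    obtain ⟨a₀, ha₀, hne⟩ := hx
    refine (half_count (B := A) (fun a : A => x * (a : E) * x⁻¹ * (a : E)⁻¹) z hzsq
      (fun a => hZval _ (hcommZ x a)) (fun a b => by simpa using hD.cm_r x a b) ⟨a₀, ha₀⟩ ?_).1
    intro h
    exact hne ((cm_one x a₀).1 h).symm
  have hcount1 := Finset.sum_card_bipartiteAbove_eq_sum_card_bipartiteBelow
    (s := (Finset.univ : Finset E)) (t := (Finset.univ : Finset A))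
    (fun (x : E) (a : A) => x * (a : E) = (a : E) * x)
  simp only [Finset.bipartiteAbove, Finset.bipartiteBelow] at hcount1
  have hL1 : ∀ x ∈ Finset.univ.filter (fun x : E => x ∈ Subgroup.centralizer (A : Set E)),
      (Finset.univ.filter (fun a : A => x * (a : E) = (a : E) * x)).card = Fintype.card A := by
    intro x hx
    rw [Finset.mem_filter] at hx
    rw [Finset.filter_true_of_mem, Finset.card_univ]
    intro a _
    exact ((Subgroup.mem_centralizer_iff.1 hx.2) a a.2).symm
  have hL2 : ∀ x ∈ Finset.univ.filter (fun x : E => ¬ x ∈ Subgroup.centralizer (A : Set E)),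
      2 * (Finset.univ.filter (fun a : A => x * (a : E) = (a : E) * x)).card = Fintype.card A := by
    intro x hx
    rw [Finset.mem_filter] at hx
    have h := hhalfA x hx.2
    have e : (Finset.univ.filter (fun a : A => x * (a : E) = (a : E) * x)) =
        (Finset.univ.filter (fun a : A => x * (a : E) * x⁻¹ * (a : E)⁻¹ = 1)) :=
      Finset.filter_congr (fun a _ => (cm_one x a).symm)
    rw [e]; exact h
  have hR1 : ∀ a ∈ Finset.univ.filter (fun a : A => (a : E) ∈ Subgroup.center E),
      (Finset.univ.filter (fun x : E => x * (a : E) = (a : E) * x)).card = Fintype.card E := by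
    intro a ha
    rw [Finset.mem_filter] at ha
    rw [Finset.filter_true_of_mem, Finset.card_univ]
    intro x _
    exact hcen _ ha.2 x
  have hR2 : ∀ a ∈ Finset.univ.filter (fun a : A => ¬ (a : E) ∈ Subgroup.center E),
      2 * (Finset.univ.filter (fun x : E => x * (a : E) = (a : E) * x)).card = Fintype.card E := by
    intro a ha
    rw [Finset.mem_filter] at ha
    have hx := ha.2
    rw [Subgroup.mem_center_iff] at hx
    push Not at hx
    obtain ⟨x₀, hx₀⟩ := hx
    have h := (half_count (B := E) (fun x : E => x * (a : E) * x⁻¹ * (a : E)⁻¹) z hzsq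
      (fun x => hZval _ (hcommZ x a)) (fun x y => hD.cm_l x y a) x₀
      (fun h => hx₀ ((cm_one x₀ a).1 h))).1
    have e : (Finset.univ.filter (fun x : E => x * (a : E) = (a : E) * x)) =
        (Finset.univ.filter (fun x : E => x * (a : E) * x⁻¹ * (a : E)⁻¹ = 1)) :=
      Finset.filter_congr (fun x _ => (cm_one x a).symm)
    rw [e]; exact h
  have hCcard : (Finset.univ.filter (fun x : E => x ∈ Subgroup.centralizer (A : Set E))).card =
      Nat.card (Subgroup.centralizer (A : Set E)) := card_filter_mem' _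
  have hZcard : (Finset.univ.filter (fun a : A => (a : E) ∈ Subgroup.center E)).card =
      Nat.card (Subgroup.center E ⊓ A : Subgroup E) := by
    have h1 : (Finset.univ.filter (fun a : A => a ∈ (Subgroup.center E).subgroupOf A)).card =
        Nat.card ((Subgroup.center E).subgroupOf A) := card_filter_mem' _
    have e : (Finset.univ.filter (fun a : A => (a : E) ∈ Subgroup.center E)) =
        (Finset.univ.filter (fun a : A => a ∈ (Subgroup.center E).subgroupOf A)) :=
      Finset.filter_congr (fun a _ => Subgroup.mem_subgroupOf.symm)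
    rw [e, h1, ← Subgroup.card_map_of_injective A.subtype_injective,
      Subgroup.subgroupOf_map_subtype]
  have hCsplit := Finset.card_filter_add_card_filter_not (s := (Finset.univ : Finset E))
    (fun x : E => x ∈ Subgroup.centralizer (A : Set E))
  have hZsplit := Finset.card_filter_add_card_filter_not (s := (Finset.univ : Finset A))
    (fun a : A => (a : E) ∈ Subgroup.center E)
  rw [Finset.card_univ] at hCsplit hZsplit
  have hLsum : 2 * ∑ x : E, (Finset.univ.filter (fun a : A => x * (a : E) = (a : E) * x)).card =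
      2 * ((Finset.univ.filter (fun x : E => x ∈ Subgroup.centralizer (A : Set E))).card
        * Fintype.card A) +
      (Finset.univ.filter (fun x : E => ¬ x ∈ Subgroup.centralizer (A : Set E))).card
        * Fintype.card A := by
    rw [← Finset.sum_filter_add_sum_filter_not Finset.univ
      (fun x : E => x ∈ Subgroup.centralizer (A : Set E)), mul_add, Finset.sum_const_nat hL1]
    congr 1
    rw [Finset.mul_sum, Finset.sum_const_nat hL2]
  have hRsum : 2 * ∑ a : A, (Finset.univ.filter (fun x : E => x * (a : E) = (a : E) * x)).card =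
      2 * ((Finset.univ.filter (fun a : A => (a : E) ∈ Subgroup.center E)).card
        * Fintype.card E) +
      (Finset.univ.filter (fun a : A => ¬ (a : E) ∈ Subgroup.center E)).card
        * Fintype.card E := by
    rw [← Finset.sum_filter_add_sum_filter_not Finset.univ
      (fun a : A => (a : E) ∈ Subgroup.center E), mul_add, Finset.sum_const_nat hR1]
    congr 1
    rw [Finset.mul_sum, Finset.sum_const_nat hR2]
  rw [hcount1] at hLsum
  rw [hLsum] at hRsum
  rw [← hCcard, ← hZcard, Nat.card_eq_fintype_card (α := E), Nat.card_eq_fintype_card (α := A)]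
  generalize (Finset.univ.filter (fun x : E => x ∈ Subgroup.centralizer (A : Set E))).card = nC
    at *
  generalize (Finset.univ.filter (fun x : E => ¬ x ∈ Subgroup.centralizer (A : Set E))).card
    = nC' at *
  generalize (Finset.univ.filter (fun a : A => (a : E) ∈ Subgroup.center E)).card = nZ at *
  generalize (Finset.univ.filter (fun a : A => ¬ (a : E) ∈ Subgroup.center E)).card = nZ' at *
  generalize Fintype.card E = nE at *
  generalize Fintype.card A = nA at *
  subst hCsplit
  subst hZsplit
  nlinarith [hRsum]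

end

end Cfsg.Agent.Lib.Lead.Extra2
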