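import Mathlib

set_option autoImplicit false

namespace Cfsg.Agent.Lib.Lead

/-- counting a relation whose nonempty fibres are cosets of a fixed subgroup -/
theorem card_fibered {A B : Type*} [Finite A] [Finite B] [Group B] (P : A → B → Prop)
    (S : Subgroup B) (hcoset : ∀ a b b', P a b → (P a b' ↔ b⁻¹ * b' ∈ S)) :
    Nat.card {ab : A × B // P ab.1 ab.2} = Nat.card {a : A // ∃ b, P a b} * Nat.card S := by
  classical
  rw [← Nat.card_prod]
  apply Nat.card_congr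
  refine ⟨fun ab => ⟨⟨ab.1.1, ab.1.2, ab.2⟩, ⟨(Classical.choose (⟨ab.1.2, ab.2⟩ : ∃ b, P ab.1.1 b))⁻¹ * ab.1.2, ?_⟩⟩,
    fun au => ⟨⟨au.1.1, Classical.choose au.1.2 * au.2.1⟩, ?_⟩, ?_, ?_⟩
  · have h0 := Classical.choose_spec (⟨ab.1.2, ab.2⟩ : ∃ b, P ab.1.1 b)
    exact (hcoset _ _ _ h0).mp ab.2
  · have h0 := Classical.choose_spec au.1.2
    apply (hcoset _ _ _ h0).mpr
    simp only [inv_mul_cancel_left]
    exact au.2.2
  · rintro ⟨⟨a, b⟩, hab⟩
    apply Subtype.ext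
    simp
  · rintro ⟨⟨a, ha⟩, ⟨u, hu⟩⟩
    apply Prod.ext
    · rfl
    · apply Subtype.ext
      simp

end Cfsg.Agent.Lib.Lead
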