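import Mathlib
import Cfsg.Agent.Lib.Lead.FrattiniGen

set_option autoImplicit false

namespace Cfsg.Agent.Lib.Lead.FrobSol

universe u

/-- A sum of an invariant function is divisible by `d` as soon as each orbit contributes a multiple of `d`. -/
theorem dvd_sum_of_orbit {H S : Type*} [Group H] [MulAction H S] [Fintype S] (f : S → ℕ)
    (hf : ∀ (h : H) (s : S), f (h • s) = f s) (d : ℕ)
    (hd : ∀ s : S, d ∣ Nat.card (MulAction.orbit H s) * f s) : d ∣ ∑ s, f s := by
  classical
  let _ : Fintype (MulAction.orbitRel.Quotient H S) := Fintype.ofFinite _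
  rw [← Fintype.sum_fiberwise (fun s : S => (Quotient.mk'' s : MulAction.orbitRel.Quotient H S)) f]
  apply Finset.dvd_sum
  intro ω _
  induction ω using Quotient.inductionOn' with
  | h s₀ =>
    have hmem : ∀ a : S, (Quotient.mk'' a : MulAction.orbitRel.Quotient H S) = Quotient.mk'' s₀ ↔
        a ∈ MulAction.orbit H s₀ := by
      intro a
      rw [Quotient.eq'']
      exact MulAction.orbitRel_apply
    have hconst : ∀ a : {a : S // (Quotient.mk'' a : MulAction.orbitRel.Quotient H S) =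
        Quotient.mk'' s₀}, f a = f s₀ := by
      rintro ⟨a, ha⟩
      obtain ⟨h, rfl⟩ := (hmem a).1 ha
      exact hf h s₀
    rw [Finset.sum_congr rfl (fun a _ => hconst a), Finset.sum_const, Finset.card_univ, smul_eq_mul]
    have hcard : Fintype.card {a : S // (Quotient.mk'' a : MulAction.orbitRel.Quotient H S) =
        Quotient.mk'' s₀} = Nat.card (MulAction.orbit H s₀) := by
      rw [← Nat.card_eq_fintype_card]
      apply Nat.card_congr
      exact Equiv.subtypeEquivRight hmem
    rw [hcard]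
    exact hd s₀

/-- Counting `t`-torsion in a quotient by a central subgroup of exponent dividing `q`, `q` coprime to `t`. -/
theorem card_torsion_quotient {C : Type*} [Group C] [Finite C] (Y : Subgroup C) [Y.Normal]
    (hY : Y ≤ Subgroup.center C) (q t : ℕ) (hqt : Nat.Coprime q t) (hYq : ∀ w ∈ Y, w ^ q = 1) :
    Nat.card {z : C // z ^ t = 1} = Nat.card {z : C ⧸ Y // z ^ t = 1} := by
  obtain ⟨α, β, hαβ⟩ : ∃ α β : ℤ, α * q + β * t = 1 := by
    have := Nat.Coprime.isCoprime hqt
    obtain ⟨a, b, hab⟩ := this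
    exact ⟨a, b, hab⟩
  have hcomm : ∀ w ∈ Y, ∀ x : C, w * x = x * w := fun w hw x =>
    ((Subgroup.mem_center_iff.1 (hY hw)) x).symm
  -- w ∈ Y with w ^ t = 1 is trivial
  have htriv : ∀ w ∈ Y, w ^ t = 1 → w = 1 := by
    intro w hw hwt
    have h1 : w ^ (1 : ℤ) = 1 := by
      rw [← hαβ, zpow_add, mul_comm α, mul_comm β, zpow_mul, zpow_mul, zpow_natCast, zpow_natCast,
        hYq w hw, hwt, one_zpow, one_zpow, one_mul]
    simpa using h1
  apply Nat.card_congr
  refine Equiv.ofBijective (fun z => ⟨QuotientGroup.mk' Y z.1, by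
    rw [← map_pow, z.2, map_one]⟩) ⟨?_, ?_⟩
  · rintro ⟨z₁, h₁⟩ ⟨z₂, h₂⟩ h
    have h' : (QuotientGroup.mk' Y z₁) = QuotientGroup.mk' Y z₂ := congrArg Subtype.val h
    have hw : z₁⁻¹ * z₂ ∈ Y := QuotientGroup.eq.1 h'
    have hz₂ : z₂ = z₁ * (z₁⁻¹ * z₂) := by group
    have hpow : (z₁⁻¹ * z₂) ^ t = 1 := by
      have hc : Commute z₁ (z₁⁻¹ * z₂) := (hcomm _ hw z₁).symm
      have := hc.mul_pow t
      rw [← hz₂, h₂, h₁, one_mul] at this
      exact this.symm
    have := htriv _ hw hpow
    apply Subtype.ext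
    show z₁ = z₂
    rw [hz₂, this, mul_one]
  · rintro ⟨zb, hzb⟩
    obtain ⟨x, rfl⟩ := QuotientGroup.mk'_surjective Y zb
    have hxt : x ^ t ∈ Y := by
      rw [← QuotientGroup.eq_one_iff, ← hzb]; rfl
    set w := x ^ t with hw
    have hwq : w ^ q = 1 := hYq w hxt
    have hwβ : (w ^ (-β)) ∈ Y := Subgroup.zpow_mem _ hxt _
    refine ⟨⟨x * w ^ (-β), ?_⟩, ?_⟩
    · have hc : Commute x (w ^ (-β)) := (hcomm _ hwβ x).symm
      rw [hc.mul_pow, ← hw]
      have h1 : (w ^ (-β)) ^ t = w⁻¹ := by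
        have h2 : w ^ (β * t) = w := by
          have : β * t = 1 - α * q := by linarith
          rw [this, zpow_sub, zpow_one, mul_comm α, zpow_mul, zpow_natCast, hwq, one_zpow, inv_one,
            mul_one]
        rw [← zpow_natCast, ← zpow_mul, neg_mul, zpow_neg, h2]
      rw [h1, mul_inv_cancel]
    · apply Subtype.ext
      show QuotientGroup.mk' Y (x * w ^ (-β)) = QuotientGroup.mk' Y x
      have h1 : QuotientGroup.mk' Y (w ^ (-β)) = 1 := (QuotientGroup.eq_one_iff _).2 hwβ
      rw [map_mul, h1, mul_one]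

end Cfsg.Agent.Lib.Lead.FrobSol
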