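import Mathlib
import Cfsg.Agent.Lib.Lead.FrobSolutions1

set_option autoImplicit false

namespace Cfsg.Agent.Lib.Lead.FrobSol

universe u

/-- commuting pairs `(y, z)` with `y` of order `q` and `z ^ t = 1` -/
abbrev PairSet (G : Type*) [Group G] (q t : ℕ) : Type _ :=
  {yz : G × G // orderOf yz.1 = q ∧ yz.2 ^ t = 1 ∧ yz.1 * yz.2 = yz.2 * yz.1}

section claim1

variable {G : Type*} [Group G] [Finite G]

/-- `φ(q)` divides the number of pairs: units of `ZMod q` act freely by powers on the first coordinate. -/
theorem totient_dvd_card_pairSet (q t : ℕ) (hq : 1 < q) :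
    Nat.totient q ∣ Nat.card (PairSet G q t) := by
  classical
  have : Fact (1 < q) := ⟨hq⟩
  have : NeZero q := ⟨by omega⟩
  let act : MulAction (ZMod q)ˣ (PairSet G q t) :=
    { smul := fun u b => ⟨(b.1.1 ^ (u : ZMod q).val, b.1.2), by
        obtain ⟨⟨y, z⟩, hy, hz, hc⟩ := b
        refine ⟨?_, hz, ?_⟩
        · show orderOf (y ^ (u : ZMod q).val) = q
          have hcop : (orderOf y).Coprime (u : ZMod q).val := by
            rw [hy]; exact (ZMod.val_coe_unit_coprime u).symm
          rw [hcop.orderOf_pow, hy]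
        · show y ^ (u : ZMod q).val * z = z * y ^ (u : ZMod q).val
          exact ((Commute.pow_left (show Commute y z from hc) _)).eq⟩
      one_smul := by
        rintro ⟨⟨y, z⟩, hy, hz, hc⟩
        apply Subtype.ext
        show (y ^ ((1 : (ZMod q)ˣ) : ZMod q).val, z) = (y, z)
        rw [Units.val_one, ZMod.val_one, pow_one]
      mul_smul := by
        rintro u v ⟨⟨y, z⟩, hy, hz, hc⟩
        apply Subtype.ext
        show (y ^ ((u * v : (ZMod q)ˣ) : ZMod q).val, z) = ((y ^ (v : ZMod q).val) ^ (u : ZMod q).val, z)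
        congr 1
        have hyq : orderOf y = q := hy
        have hmod : ∀ k : ℕ, y ^ (k % q) = y ^ k := fun k => by
          have := pow_mod_orderOf y k
          rwa [hyq] at this
        rw [Units.val_mul, ZMod.val_mul, ← pow_mul, hmod, mul_comm] }
  have hfree : ∀ (b : PairSet G q t) (u : (ZMod q)ˣ), u • b = b → u = 1 := by
    rintro ⟨⟨y, z⟩, hy, hz, hc⟩ u hu
    have h1 : y ^ (u : ZMod q).val = y := by
      have := congrArg (fun b : PairSet G q t => b.1.1) hu
      exact this
    have h2 : (u : ZMod q).val ≡ 1 [MOD q] := by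
      have hyq : orderOf y = q := hy
      have h3 := (pow_eq_pow_iff_modEq (x := y)).1 (h1.trans (pow_one y).symm)
      rwa [hyq] at h3
    apply Units.ext
    rw [Units.val_one, ← ZMod.natCast_zmod_val (u : ZMod q)]
    have := (ZMod.natCast_eq_natCast_iff _ _ _).2 h2
    rw [this, Nat.cast_one]
  have hdvd := Cfsg.Agent.Lib.Lead.card_dvd_card_of_free hfree
  rwa [Nat.card_eq_fintype_card, ZMod.card_units_eq_totient] at hdvd

end claim1

section claim2

variable {G : Type u} [Group G] [Finite G]

/-- Under the inductive hypothesis for groups smaller than `G`, `t` divides the number of pairs. -/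
theorem dvd_card_pairSet (q t : ℕ) (hq : 1 < q) (hqt : Nat.Coprime q t)
    (hdvd : q * t ∣ Nat.card G)
    (ih : ∀ (Q : Type u) [Group Q] [Finite Q], Nat.card Q < Nat.card G → ∀ m : ℕ,
      m ∣ Nat.card Q → m ∣ Nat.card {x : Q // x ^ m = 1}) :
    t ∣ Nat.card (PairSet G q t) := by
  classical
  let E := {y : G // orderOf y = q}
  let _ : Fintype E := Fintype.ofFinite E
  let K : E → ℕ := fun y => Nat.card {z : G // z ^ t = 1 ∧ y.1 * z = z * y.1}
  -- fibre the pair set over the first coordinate
  have hsigma : Nat.card (PairSet G q t) = ∑ y : E, K y := by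
    rw [← Nat.card_sigma]
    apply Nat.card_congr
    exact
      { toFun := fun b => ⟨⟨b.1.1, b.2.1⟩, ⟨b.1.2, b.2.2.1, b.2.2.2⟩⟩
        invFun := fun s => ⟨(s.1.1, s.2.1), s.1.2, s.2.2.1, s.2.2.2⟩
        left_inv := fun b => rfl
        right_inv := fun s => rfl }
  rw [hsigma]
  -- conjugation action on E
  let act : MulAction G E :=
    { smul := fun g y => ⟨g * y.1 * g⁻¹, by
        have := (MulAut.conj g).orderOf_eq y.1
        rw [MulAut.conj_apply] at this
        rw [this, y.2]⟩
      one_smul := fun y => by apply Subtype.ext; show 1 * y.1 * 1⁻¹ = y.1; group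
      mul_smul := fun g h y => by
        apply Subtype.ext
        show (g * h) * y.1 * (g * h)⁻¹ = g * (h * y.1 * h⁻¹) * g⁻¹
        group }
  have hsmul : ∀ (g : G) (y : E), (g • y).1 = g * y.1 * g⁻¹ := fun g y => rfl
  apply dvd_sum_of_orbit (H := G) K
  · -- invariance
    intro g y
    apply Nat.card_congr
    refine
      { toFun := fun z => ⟨g⁻¹ * z.1 * g, ?_, ?_⟩
        invFun := fun z => ⟨g * z.1 * g⁻¹, ?_, ?_⟩
        left_inv := fun z => by apply Subtype.ext; show g * (g⁻¹ * z.1 * g) * g⁻¹ = z.1; group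
        right_inv := fun z => by apply Subtype.ext; show g⁻¹ * (g * z.1 * g⁻¹) * g = z.1; group }
    · have h1 : (g⁻¹ * z.1 * g) ^ t = g⁻¹ * z.1 ^ t * g := by
        have := conj_pow (a := g⁻¹) (b := z.1) (i := t)
        simpa using this
      rw [h1, z.2.1]; group
    · have h2 : (g * y.1 * g⁻¹) * z.1 = z.1 * (g * y.1 * g⁻¹) := z.2.2
      calc y.1 * (g⁻¹ * z.1 * g) = g⁻¹ * ((g * y.1 * g⁻¹) * z.1) * g := by group
        _ = g⁻¹ * (z.1 * (g * y.1 * g⁻¹)) * g := by rw [h2]
        _ = _ := by group
    · have h1 : (g * z.1 * g⁻¹) ^ t = g * z.1 ^ t * g⁻¹ := conj_pow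
      rw [h1, z.2.1]; group
    · have h2 := z.2.2
      show g * y.1 * g⁻¹ * (g * z.1 * g⁻¹) = (g * z.1 * g⁻¹) * (g * y.1 * g⁻¹)
      calc g * y.1 * g⁻¹ * (g * z.1 * g⁻¹) = g * (y.1 * z.1) * g⁻¹ := by group
        _ = g * (z.1 * y.1) * g⁻¹ := by rw [h2]
        _ = _ := by group
  · -- each orbit
    intro y
    set C : Subgroup G := Subgroup.centralizer {y.1} with hC
    have hmemC : ∀ x : G, x ∈ C ↔ x * y.1 = y.1 * x := fun x =>
      Subgroup.mem_centralizer_singleton_iff
    have hstab : MulAction.stabilizer G y = C := by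
      ext g
      rw [MulAction.mem_stabilizer_iff, hmemC]
      constructor
      · intro h
        have h1 : g * y.1 * g⁻¹ = y.1 := congrArg Subtype.val h
        calc g * y.1 = (g * y.1 * g⁻¹) * g := by group
          _ = y.1 * g := by rw [h1]
      · intro h
        apply Subtype.ext
        show g * y.1 * g⁻¹ = y.1
        rw [h]; group
    have horb : Nat.card (MulAction.orbit G y) = C.index := by
      rw [← hstab, MulAction.index_stabilizer, Nat.card_coe_set_eq]
    rw [horb]
    -- K y as torsion count in C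
    have hyC : y.1 ∈ C := (hmemC _).2 rfl
    have hK1 : K y = Nat.card {z : C // z ^ t = 1} := by
      apply Nat.card_congr
      exact
        { toFun := fun z => ⟨⟨z.1, (hmemC _).2 z.2.2.symm⟩, by
            apply Subtype.ext; rw [Subgroup.coe_pow]; exact z.2.1⟩
          invFun := fun z => ⟨z.1.1, by
            have := congrArg Subtype.val z.2
            rw [Subgroup.coe_pow] at this
            exact this, ((hmemC _).1 z.1.2).symm⟩
          left_inv := fun z => rfl
          right_inv := fun z => rfl }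
    set y' : C := ⟨y.1, hyC⟩ with hy'
    have hy'ord : orderOf y' = q := by
      rw [← Subgroup.orderOf_coe]; exact y.2
    set Y : Subgroup C := Subgroup.zpowers y' with hY
    have hYcen : Y ≤ Subgroup.center C := by
      rw [hY, Subgroup.zpowers_le]
      rw [Subgroup.mem_center_iff]
      intro c
      apply Subtype.ext
      rw [Subgroup.coe_mul, Subgroup.coe_mul]
      exact (hmemC _).1 c.2
    have hYn : Y.Normal := by
      refine ⟨fun w hw c => ?_⟩
      have := (Subgroup.mem_center_iff.1 (hYcen hw)) c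
      have e : c * w * c⁻¹ = w := by rw [this]; group
      rw [e]; exact hw
    have hYq : ∀ w ∈ Y, w ^ q = 1 := by
      intro w hw
      obtain ⟨k, rfl⟩ := Subgroup.mem_zpowers_iff.1 hw
      rw [← zpow_natCast, ← zpow_mul, mul_comm, zpow_mul, zpow_natCast, ← hy'ord, pow_orderOf_eq_one,
        one_zpow]
    have hK2 : K y = Nat.card {z : C ⧸ Y // z ^ t = 1} := by
      rw [hK1]; exact card_torsion_quotient Y hYcen q t hqt hYq
    -- sizes
    set c := Nat.card (C ⧸ Y) with hc
    have hcardY : Nat.card Y = q := by rw [hY, Nat.card_zpowers, hy'ord]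
    have hcardC : Nat.card C = c * q := by
      rw [Subgroup.card_eq_card_quotient_mul_card_subgroup Y, hcardY]
    have hcpos : 0 < c := Nat.card_pos
    have hN : Nat.card G = C.index * (c * q) := by
      rw [← hcardC, mul_comm]; exact (Subgroup.card_mul_index C).symm
    have hclt : c < Nat.card G := by
      have hidx : 0 < C.index := Nat.pos_of_ne_zero (Subgroup.index_ne_zero_of_finite)
      calc c < c * q := by nlinarith
        _ ≤ C.index * (c * q) := Nat.le_mul_of_pos_left _ hidx
        _ = Nat.card G := hN.symm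
    -- apply the inductive hypothesis
    have hgcd : Nat.gcd t c ∣ Nat.card {z : C ⧸ Y // z ^ (Nat.gcd t c) = 1} :=
      ih (C ⧸ Y) hclt (Nat.gcd t c) (Nat.gcd_dvd_right t c)
    have hsame : Nat.card {z : C ⧸ Y // z ^ (Nat.gcd t c) = 1} = Nat.card {z : C ⧸ Y // z ^ t = 1} := by
      apply Nat.card_congr
      apply Equiv.subtypeEquivRight
      intro z
      rw [← orderOf_dvd_iff_pow_eq_one, ← orderOf_dvd_iff_pow_eq_one, Nat.dvd_gcd_iff]
      constructor
      · exact fun h => h.1
      · exact fun h => ⟨h, orderOf_dvd_natCard z⟩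
    rw [hsame, ← hK2] at hgcd
    -- arithmetic
    have h1 : t ∣ C.index * c := by
      have : q * t ∣ q * (C.index * c) := by
        rw [hN] at hdvd
        have e : C.index * (c * q) = q * (C.index * c) := by ring
        rwa [e] at hdvd
      exact (Nat.mul_dvd_mul_iff_left (by omega : 0 < q)).1 this
    have h2 : t ∣ C.index * t := Dvd.intro_left _ rfl
    have h3 : t ∣ C.index * Nat.gcd t c := by
      rw [← Nat.gcd_mul_left]
      exact Nat.dvd_gcd h2 h1
    exact h3.trans (Nat.mul_dvd_mul_left _ hgcd)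

end claim2

end Cfsg.Agent.Lib.Lead.FrobSol
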