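import Mathlib
import Cfsg.Agent.Lib.Lead.FrobSolutions2

set_option autoImplicit false

namespace Cfsg.Agent.Lib.Lead.FrobSol

universe u

section bij

variable {G : Type*} [Group G] [Finite G]

/-- The elements with `x^(qt) = 1` but `x^(p^e t) ≠ 1` correspond to commuting pairs `(y,z)`,
`y` of order `q = p^(e+1)`, `z^t = 1`. -/
theorem card_A_eq_card_pairSet (p e t : ℕ) (hp : p.Prime) (hpt : ¬ p ∣ t) :
    Nat.card {x : G // x ^ (p ^ (e + 1) * t) = 1 ∧ x ^ (p ^ e * t) ≠ 1} =
      Nat.card (PairSet G (p ^ (e + 1)) t) := by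
  set q := p ^ (e + 1) with hq
  have hqt : Nat.Coprime q t := Nat.Coprime.pow_left _ ((Nat.Prime.coprime_iff_not_dvd hp).2 hpt)
  obtain ⟨α, β, hαβ⟩ : ∃ α β : ℤ, α * q + β * t = 1 := by
    obtain ⟨a, b, hab⟩ := Nat.Coprime.isCoprime hqt
    exact ⟨a, b, hab⟩
  -- order p^(e+1) elements do not die under p^e t
  have hord : ∀ y : G, orderOf y = q → y ^ (p ^ e * t) ≠ 1 := by
    intro y hy h1
    have h2 : q ∣ p ^ e * t := by rw [← hy]; exact orderOf_dvd_of_pow_eq_one h1
    rw [hq, pow_succ] at h2
    have h3 : p ∣ t := (Nat.mul_dvd_mul_iff_left (pow_pos hp.pos e)).1 h2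
    exact hpt h3
  apply Nat.card_congr
  refine
    { toFun := fun x => ⟨(x.1 ^ (β * t), x.1 ^ (α * q)), ?_, ?_, ?_⟩
      invFun := fun b => ⟨b.1.1 * b.1.2, ?_, ?_⟩
      left_inv := ?_
      right_inv := ?_ }
  · -- order of y
    obtain ⟨x, hx1, hx2⟩ := x
    show orderOf (x ^ (β * t)) = q
    have hyq : (x ^ (β * t)) ^ q = 1 := by
      rw [← zpow_natCast, ← zpow_mul]
      have : β * t * q = (q * t : ℕ) * β := by push_cast; ring
      rw [this, zpow_mul, zpow_natCast, hx1, one_zpow]
    have hzt : (x ^ (α * q)) ^ t = 1 := by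
      rw [← zpow_natCast, ← zpow_mul]
      have : α * q * t = (q * t : ℕ) * α := by push_cast; ring
      rw [this, zpow_mul, zpow_natCast, hx1, one_zpow]
    have hdvd : orderOf (x ^ (β * t)) ∣ p ^ (e + 1) := orderOf_dvd_of_pow_eq_one hyq
    obtain ⟨j, hj, hoj⟩ := (Nat.dvd_prime_pow hp).1 hdvd
    rcases Nat.lt_or_ge j (e + 1) with hlt | hge
    · exfalso
      apply hx2
      have hy1 : (x ^ (β * t)) ^ (p ^ e) = 1 := by
        apply orderOf_dvd_iff_pow_eq_one.1
        rw [hoj]; exact pow_dvd_pow p (by omega)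
      have hx : x = x ^ (β * t) * x ^ (α * q) := by
        rw [← zpow_add, add_comm, hαβ, zpow_one]
      have hcomm : Commute (x ^ (β * t)) (x ^ (α * q)) := (Commute.refl x).zpow_zpow _ _
      have a1 : (x ^ (β * t)) ^ (p ^ e * t) = 1 := by rw [pow_mul, hy1, one_pow]
      have a2 : (x ^ (α * q)) ^ (p ^ e * t) = 1 := by rw [Nat.mul_comm, pow_mul, hzt, one_pow]
      rw [hx, hcomm.mul_pow, a1, a2, one_mul]
    · rw [hoj, hq]; congr 1; omega
  · -- z^t = 1
    obtain ⟨x, hx1, hx2⟩ := x
    show (x ^ (α * q)) ^ t = 1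
    rw [← zpow_natCast, ← zpow_mul]
    have : α * q * t = (q * t : ℕ) * α := by push_cast; ring
    rw [this, zpow_mul, zpow_natCast, hx1, one_zpow]
  · obtain ⟨x, hx1, hx2⟩ := x
    exact ((Commute.refl x).zpow_zpow _ _).eq
  · -- (yz)^(qt) = 1
    obtain ⟨⟨y, z⟩, hy, hz, hc⟩ := b
    show (y * z) ^ (q * t) = 1
    have hc' : Commute y z := hc
    have hyq : y ^ q = 1 := by rw [← hy]; exact pow_orderOf_eq_one y
    rw [hc'.mul_pow, pow_mul, hyq, one_pow, one_mul, mul_comm, pow_mul]
    show (z ^ t) ^ q = 1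
    have hz' : z ^ t = 1 := hz
    rw [hz', one_pow]
  · obtain ⟨⟨y, z⟩, hy, hz, hc⟩ := b
    show (y * z) ^ (p ^ e * t) ≠ 1
    have hc' : Commute y z := hc
    have hz' : z ^ t = 1 := hz
    rw [hc'.mul_pow]
    have : z ^ (p ^ e * t) = 1 := by rw [mul_comm, pow_mul, hz', one_pow]
    rw [this, mul_one]
    exact hord y hy
  · rintro ⟨x, hx1, hx2⟩
    apply Subtype.ext
    show x ^ (β * t) * x ^ (α * q) = x
    rw [← zpow_add, add_comm, hαβ, zpow_one]
  · rintro ⟨⟨y, z⟩, hy, hz, hc⟩
    apply Subtype.ext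
    have hc' : Commute y z := hc
    have hz' : z ^ t = 1 := hz
    have hyq : y ^ q = 1 := by
      have hy' : orderOf y = q := hy
      rw [← hy']; exact pow_orderOf_eq_one y
    show ((y * z) ^ (β * t), (y * z) ^ (α * q)) = (y, z)
    have e1 : (y * z) ^ (β * t) = y := by
      rw [hc'.mul_zpow]
      have h1 : z ^ (β * t) = 1 := by
        rw [mul_comm, zpow_mul, zpow_natCast, hz', one_zpow]
      have h2 : y ^ (β * t) = y := by
        have : β * t = 1 - α * q := by linarith
        rw [this, zpow_sub, zpow_one, mul_comm α, zpow_mul, zpow_natCast, hyq, one_zpow, inv_one,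
          mul_one]
      rw [h1, h2, mul_one]
    have e2 : (y * z) ^ (α * q) = z := by
      rw [hc'.mul_zpow]
      have h1 : y ^ (α * q) = 1 := by
        rw [mul_comm, zpow_mul, zpow_natCast, hyq, one_zpow]
      have h2 : z ^ (α * q) = z := by
        have : α * q = 1 - β * t := by linarith
        rw [this, zpow_sub, zpow_one, mul_comm β, zpow_mul, zpow_natCast, hz', one_zpow, inv_one,
          mul_one]
      rw [h1, h2, one_mul]
    rw [e1, e2]

end bij

/-- **Frobenius' theorem**: if `m` divides the order of a finite group then `m` divides the number of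
solutions of `x ^ m = 1`. -/
theorem frobenius_solutions : ∀ (N : ℕ) (G : Type u) [Group G] [Finite G], Nat.card G = N →
    ∀ m : ℕ, m ∣ N → m ∣ Nat.card {x : G // x ^ m = 1} := by
  intro N
  induction N using Nat.strong_induction_on with
  | _ N IH =>
  intro G _ _ hG
  have ih : ∀ (Q : Type u) [Group Q] [Finite Q], Nat.card Q < Nat.card G → ∀ m : ℕ,
      m ∣ Nat.card Q → m ∣ Nat.card {x : Q // x ^ m = 1} := by
    intro Q _ _ hlt m hm
    exact IH (Nat.card Q) (hG ▸ hlt) Q rfl m hm
  have hNpos : 0 < N := hG ▸ Nat.card_pos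
  -- inner induction on the cofactor
  have inner : ∀ k : ℕ, ∀ m : ℕ, m * k = N → m ∣ Nat.card {x : G // x ^ m = 1} := by
    intro k
    induction k using Nat.strong_induction_on with
    | _ k IHk =>
    intro m hmk
    have hkpos : 0 < k := by
      rcases Nat.eq_zero_or_pos k with h | h
      · rw [h, mul_zero] at hmk; omega
      · exact h
    have hmpos : 0 < m := by
      rcases Nat.eq_zero_or_pos m with h | h
      · rw [h, zero_mul] at hmk; omega
      · exact h
    rcases Nat.eq_or_lt_of_le (Nat.succ_le_of_lt hkpos) with hk1 | hk1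
    · -- k = 1
      have hmN : m = N := by rw [← hmk, ← hk1]; simp
      have : Nat.card {x : G // x ^ m = 1} = N := by
        rw [← hG]
        apply Nat.card_congr
        apply Equiv.subtypeUnivEquiv
        intro x
        rw [hmN, ← hG]
        exact pow_card_eq_one'
      rw [this, hmN]
    · -- k > 1
      classical
      let _ : Fintype G := Fintype.ofFinite G
      have hk2 : k ≠ 1 := by omega
      set p := k.minFac with hp
      have hpp : p.Prime := Nat.minFac_prime hk2
      obtain ⟨k', hk'⟩ := Nat.minFac_dvd k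
      rw [← hp] at hk'
      have hk'pos : 0 < k' := by
        rcases Nat.eq_zero_or_pos k' with h | h
        · rw [h, mul_zero] at hk'; omega
        · exact h
      have hk'lt : k' < k := by
        rw [hk']; nlinarith [hpp.two_le]
      have hmp : m * p * k' = N := by rw [mul_assoc, ← hk', hmk]
      have h1 := IHk k' hk'lt (m * p) hmp
      -- decompose m
      set e := m.factorization p with he
      set t := m / p ^ e with ht
      have hmt : p ^ e * t = m := Nat.ordProj_mul_ordCompl_eq_self m p
      have hpt : ¬ p ∣ t := Nat.not_dvd_ordCompl hpp hmpos.ne'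
      have hqt' : m * p = p ^ (e + 1) * t := by rw [← hmt]; ring
      have hq1 : 1 < p ^ (e + 1) := Nat.one_lt_pow (by omega) hpp.one_lt
      have hcop : Nat.Coprime (p ^ (e + 1)) t :=
        Nat.Coprime.pow_left _ ((Nat.Prime.coprime_iff_not_dvd hpp).2 hpt)
      have hdvdN : p ^ (e + 1) * t ∣ Nat.card G := by
        rw [hG, ← hqt', ← hmp]; exact Dvd.intro _ rfl
      -- the two divisibilities for A
      have hA := card_A_eq_card_pairSet (G := G) p e t hpp hpt
      have hA1 : p ^ e ∣ Nat.card {x : G // x ^ (p ^ (e + 1) * t) = 1 ∧ x ^ (p ^ e * t) ≠ 1} := by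
        rw [hA]
        have := totient_dvd_card_pairSet (G := G) (p ^ (e + 1)) t hq1
        rw [Nat.totient_prime_pow_succ hpp] at this
        exact (Dvd.intro _ rfl).trans this
      have hA2 : t ∣ Nat.card {x : G // x ^ (p ^ (e + 1) * t) = 1 ∧ x ^ (p ^ e * t) ≠ 1} := by
        rw [hA]
        exact dvd_card_pairSet (p ^ (e + 1)) t hq1 hcop hdvdN ih
      have hcop2 : Nat.Coprime (p ^ e) t :=
        Nat.Coprime.pow_left _ ((Nat.Prime.coprime_iff_not_dvd hpp).2 hpt)
      have hAm : m ∣ Nat.card {x : G // x ^ (p ^ (e + 1) * t) = 1 ∧ x ^ (p ^ e * t) ≠ 1} := by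
        rw [← hmt]
        exact Nat.Coprime.mul_dvd_of_dvd_of_dvd hcop2 hA1 hA2
      -- split the solutions of x^(mp) = 1
      have hsplit : Nat.card {x : G // x ^ (m * p) = 1} =
          Nat.card {x : G // x ^ m = 1} +
            Nat.card {x : G // x ^ (p ^ (e + 1) * t) = 1 ∧ x ^ (p ^ e * t) ≠ 1} := by
        rw [Nat.card_eq_fintype_card, Nat.card_eq_fintype_card, Nat.card_eq_fintype_card,
          Fintype.card_subtype, Fintype.card_subtype, Fintype.card_subtype]
        rw [← Finset.card_filter_add_card_filter_not (s := Finset.univ.filter fun x : G => x ^ (m * p) = 1)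
          (fun x : G => x ^ m = 1)]
        congr 1
        · congr 1
          ext x
          simp only [Finset.mem_filter, Finset.mem_univ, true_and]
          constructor
          · exact fun h => h.2
          · intro h
            exact ⟨by rw [pow_mul, h, one_pow], h⟩
        · congr 1
          ext x
          simp only [Finset.mem_filter, Finset.mem_univ, true_and]
          rw [hqt', hmt]
      have h2 : m ∣ Nat.card {x : G // x ^ (m * p) = 1} := (Dvd.intro _ rfl).trans h1
      rw [hsplit] at h2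
      exact (Nat.dvd_add_left hAm).1 h2
  intro m hm
  obtain ⟨k, hk⟩ := hm
  exact inner k m hk.symm

end Cfsg.Agent.Lib.Lead.FrobSol
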