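import Mathlib
import Cfsg.Agent.Lib.Lead.FrobSolutions3

set_option autoImplicit false

namespace Cfsg.Agent.Lib.Lead.FrobSol

universe u

/-- arithmetic: among divisors `o` of `d`, dividing `d / p^(v-a+1)` is the same as not being divisible by `p^a`. -/
theorem dvd_div_iff_not_pow_dvd {p d a o : ℕ} (pp : p.Prime) (hd : 0 < d) (ha : 1 ≤ a)
    (hav : a ≤ d.factorization p) (ho : o ∣ d) :
    o ∣ d / p ^ (d.factorization p - a + 1) ↔ ¬ p ^ a ∣ o := by
  set v := d.factorization p with hv
  set c := v - a + 1 with hc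
  have hcv : c ≤ v := by omega
  have hpc : p ^ c ∣ d := (pow_dvd_pow p hcv).trans (Nat.ordProj_dvd d p)
  have ho0 : o ≠ 0 := fun h => by rw [h, zero_dvd_iff] at ho; omega
  have hd'0 : d / p ^ c ≠ 0 := by
    have hpos : 0 < p ^ c := pow_pos pp.pos c
    have := Nat.div_pos (Nat.le_of_dvd hd hpc) hpos
    omega
  have hfac : (d / p ^ c).factorization = d.factorization - Finsupp.single p c := by
    rw [Nat.factorization_div hpc, Nat.Prime.factorization_pow pp]
  rw [← Nat.factorization_le_iff_dvd ho0 hd'0, hfac, pp.pow_dvd_iff_le_factorization ho0]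
  have hod : o.factorization ≤ d.factorization := (Nat.factorization_le_iff_dvd ho0 hd.ne').2 ho
  constructor
  · intro h
    have := h p
    rw [Finsupp.tsub_apply, Finsupp.single_eq_same] at this
    omega
  · intro h r
    rw [Finsupp.tsub_apply]
    by_cases hr : r = p
    · subst hr
      rw [Finsupp.single_eq_same]
      omega
    · rw [Finsupp.single_apply, if_neg (Ne.symm hr), Nat.sub_zero]
      exact hod r

/-- The key divisibility: elements with `g^d = 1` whose order is divisible by prescribed prime powers. -/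
theorem dvd_card_pow_eq_one_and_dvd_orderOf {G : Type u} [Group G] [Finite G] (a : ℕ → ℕ)
    (S : Finset ℕ) :
    (∀ p ∈ S, p.Prime ∧ 1 ≤ a p) → ∀ d : ℕ, d ∣ Nat.card G → ∀ e : ℕ, e ∣ d →
      (∀ p ∈ S, Nat.Coprime e p) →
      e ∣ Nat.card {g : G // g ^ d = 1 ∧ ∀ p ∈ S, p ^ a p ∣ orderOf g} := by
  classical
  induction S using Finset.induction_on with
  | empty =>
    intro _ d hd e he _
    have h1 : Nat.card {g : G // g ^ d = 1 ∧ ∀ p ∈ (∅ : Finset ℕ), p ^ a p ∣ orderOf g} =
        Nat.card {g : G // g ^ d = 1} := by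
      apply Nat.card_congr
      apply Equiv.subtypeEquivRight
      intro g
      simp
    rw [h1]
    exact he.trans (frobenius_solutions (Nat.card G) G rfl d hd)
  | insert p S₀ hpS ih =>
    intro hS d hd e he hcop
    have hS₀ : ∀ q ∈ S₀, q.Prime ∧ 1 ≤ a q := fun q hq => hS q (Finset.mem_insert_of_mem hq)
    obtain ⟨pp, ha⟩ := hS p (Finset.mem_insert_self p S₀)
    have hcop₀ : ∀ q ∈ S₀, Nat.Coprime e q := fun q hq => hcop q (Finset.mem_insert_of_mem hq)
    have hcopp : Nat.Coprime e p := hcop p (Finset.mem_insert_self p S₀)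
    have hdpos : 0 < d := Nat.pos_of_dvd_of_pos hd Nat.card_pos
    by_cases hav : a p ≤ d.factorization p
    · set c := d.factorization p - a p + 1 with hc
      have hpc : p ^ c ∣ d :=
        (pow_dvd_pow p (by omega : c ≤ d.factorization p)).trans (Nat.ordProj_dvd d p)
      set d' := d / p ^ c with hd'
      have hd'd : d' ∣ d := Nat.div_dvd_of_dvd hpc
      have hed' : e ∣ d' := by
        have h1 : d = d' * p ^ c := (Nat.div_mul_cancel hpc).symm
        have h2 : e ∣ d' * p ^ c := h1 ▸ he
        exact (Nat.Coprime.pow_right c hcopp).dvd_of_dvd_mul_right h2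
      have i1 := ih hS₀ d hd e he hcop₀
      have i2 := ih hS₀ d' (hd'd.trans hd) e hed' hcop₀
      let _ : Fintype G := Fintype.ofFinite G
      have hsplit : Nat.card {g : G // g ^ d = 1 ∧ ∀ q ∈ S₀, q ^ a q ∣ orderOf g} =
          Nat.card {g : G // g ^ d' = 1 ∧ ∀ q ∈ S₀, q ^ a q ∣ orderOf g} +
            Nat.card {g : G // g ^ d = 1 ∧ ∀ q ∈ insert p S₀, q ^ a q ∣ orderOf g} := by
        rw [Nat.card_eq_fintype_card, Nat.card_eq_fintype_card, Nat.card_eq_fintype_card,
          Fintype.card_subtype, Fintype.card_subtype, Fintype.card_subtype]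
        rw [← Finset.card_filter_add_card_filter_not
          (s := Finset.univ.filter fun g : G => g ^ d = 1 ∧ ∀ q ∈ S₀, q ^ a q ∣ orderOf g)
          (fun g : G => g ^ d' = 1)]
        congr 1
        · congr 1
          ext g
          simp only [Finset.mem_filter, Finset.mem_univ, true_and]
          constructor
          · rintro ⟨⟨_, h2⟩, h3⟩; exact ⟨h3, h2⟩
          · rintro ⟨h1, h2⟩
            obtain ⟨k, hk⟩ := hd'd
            exact ⟨⟨by rw [hk, pow_mul, h1, one_pow], h2⟩, h1⟩
        · congr 1
          ext g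
          simp only [Finset.mem_filter, Finset.mem_univ, true_and, Finset.forall_mem_insert]
          constructor
          · rintro ⟨⟨h1, h2⟩, h3⟩
            refine ⟨h1, ?_, h2⟩
            have ho : orderOf g ∣ d := orderOf_dvd_of_pow_eq_one h1
            have := (dvd_div_iff_not_pow_dvd pp hdpos ha hav ho)
            by_contra hcon
            exact h3 (orderOf_dvd_iff_pow_eq_one.1 (this.2 hcon))
          · rintro ⟨h1, h2, h3⟩
            refine ⟨⟨h1, h3⟩, ?_⟩
            have ho : orderOf g ∣ d := orderOf_dvd_of_pow_eq_one h1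
            have := (dvd_div_iff_not_pow_dvd pp hdpos ha hav ho)
            intro hcon
            exact (this.1 (orderOf_dvd_of_pow_eq_one hcon)) h2
      rw [hsplit] at i1
      exact (Nat.dvd_add_right i2).1 i1
    · -- no such elements
      have hempty : IsEmpty {g : G // g ^ d = 1 ∧ ∀ q ∈ insert p S₀, q ^ a q ∣ orderOf g} := by
        constructor
        rintro ⟨g, h1, h2⟩
        have ho : orderOf g ∣ d := orderOf_dvd_of_pow_eq_one h1
        have h3 : p ^ a p ∣ d := (h2 p (Finset.mem_insert_self p S₀)).trans ho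
        exact hav ((pp.pow_dvd_iff_le_factorization hdpos.ne').1 h3)
      rw [Nat.card_of_isEmpty]
      exact dvd_zero e

/-- The number of elements whose order is a multiple of `n` is divisible by the `n'`-part of `|G|`. -/
theorem dvd_card_dvd_orderOf {G : Type u} [Group G] [Finite G] (n : ℕ) (hn : 0 < n) :
    (Nat.card G / Nat.gcd (Nat.card G) (n ^ Nat.card G)) ∣ Nat.card {g : G // n ∣ orderOf g} := by
  set N := Nat.card G with hN
  have hNpos : 0 < N := Nat.card_pos
  set g₀ := Nat.gcd N (n ^ N) with hg₀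
  set e := N / g₀ with he
  have hg₀N : g₀ ∣ N := Nat.gcd_dvd_left _ _
  have heN : e ∣ N := Nat.div_dvd_of_dvd hg₀N
  have heg : e * g₀ = N := Nat.div_mul_cancel hg₀N
  have hcop : ∀ p ∈ n.primeFactors, Nat.Coprime e p := by
    intro p hp
    have pp : p.Prime := Nat.prime_of_mem_primeFactors hp
    have hpn : p ∣ n := Nat.dvd_of_mem_primeFactors hp
    rw [Nat.coprime_comm, Nat.Prime.coprime_iff_not_dvd pp]
    intro hpe
    set v := N.factorization p with hv
    have h1 : p ^ v ∣ N := Nat.ordProj_dvd N p
    have hvN : v ≤ N := by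
      have h2 : p ^ v ≤ N := Nat.le_of_dvd hNpos h1
      have h3 : v < p ^ v := Nat.lt_pow_self pp.one_lt
      omega
    have h4 : p ^ v ∣ n ^ N := (pow_dvd_pow p hvN).trans (pow_dvd_pow_of_dvd hpn N)
    have h5 : p ^ v ∣ g₀ := Nat.dvd_gcd h1 h4
    have h6 : p ^ (v + 1) ∣ N := by
      rw [← heg, pow_succ, mul_comm (p ^ v)]
      exact Nat.mul_dvd_mul hpe h5
    have := (pp.pow_dvd_iff_le_factorization hNpos.ne').1 h6
    omega
  have key := dvd_card_pow_eq_one_and_dvd_orderOf (G := G) (fun p => n.factorization p)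
    n.primeFactors (fun p hp => ⟨Nat.prime_of_mem_primeFactors hp, by
      have pp := Nat.prime_of_mem_primeFactors hp
      exact (pp.pow_dvd_iff_le_factorization hn.ne').1 (by
        rw [pow_one]; exact Nat.dvd_of_mem_primeFactors hp)⟩) N dvd_rfl e heN hcop
  have hsame : Nat.card {g : G // g ^ N = 1 ∧ ∀ p ∈ n.primeFactors, p ^ n.factorization p ∣ orderOf g} =
      Nat.card {g : G // n ∣ orderOf g} := by
    apply Nat.card_congr
    apply Equiv.subtypeEquivRight
    intro g
    have ho0 : orderOf g ≠ 0 := (orderOf_pos g).ne'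
    constructor
    · rintro ⟨_, h2⟩
      rw [← Nat.factorization_prime_le_iff_dvd hn.ne' ho0]
      intro p pp
      by_cases hp : p ∈ n.primeFactors
      · exact (pp.pow_dvd_iff_le_factorization ho0).1 (h2 p hp)
      · have : n.factorization p = 0 := by
          rw [← Finsupp.notMem_support_iff, Nat.support_factorization]; exact hp
        rw [this]; exact Nat.zero_le _
    · intro h
      refine ⟨by rw [hN]; exact pow_card_eq_one', ?_⟩
      intro p _
      exact (Nat.ordProj_dvd n p).trans h
  rw [← hsame]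
  exact key

end Cfsg.Agent.Lib.Lead.FrobSol
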