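import Mathlib
import Cfsg.Agent.Lib.Helper7.PiHall
import Cfsg.Agent.Lib.Helper7.SylowQuot
import Cfsg.Agent.S0043

set_option autoImplicit false

namespace Cfsg.Agent.Lib.Lead.HallCount

open Cfsg Cfsg.Agent.Lib.Helper4 Cfsg.Agent.Lib.Helper7

open scoped Pointwise

universe u

section basic
variable {G : Type u} [Group G] [Finite G]

/-- conjugacy of Hall subgroups inside a solvable subgroup -/
theorem hall_conj_in [Group.IsSolvable G] (X : Subgroup G) (m t : ℕ) (hX : Nat.card X = m * t)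
    (hc : m.Coprime t) (H₁ H₂ : Subgroup G) (h1 : H₁ ≤ X) (h2 : H₂ ≤ X)
    (c1 : Nat.card H₁ = m) (c2 : Nat.card H₂ = m) : ∃ g ∈ X, cj g H₁ = H₂ := by
  set π : Set ℕ := {p | p ∣ m} with hπ
  have hm : IsPiNum π m := fun p _ hd => hd
  have hn : IsPiNum' π t := fun p hp hd hpm => by
    have h3 : p ∣ Nat.gcd m t := Nat.dvd_gcd hpm hd
    rw [hc] at h3
    exact hp.one_lt.ne' (Nat.dvd_one.1 h3)
  obtain ⟨-, hC, -⟩ := hallSub X π
  exact hC H₁ H₂ ((isPiHallOf_iff_card hX hm hn H₁).2 ⟨h1, c1⟩)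
    ((isPiHallOf_iff_card hX hm hn H₂).2 ⟨h2, c2⟩)

theorem mem_normalizer_iff_cj (H : Subgroup G) (g : G) :
    g ∈ Subgroup.normalizer (H : Set G) ↔ cj g H = H :=
  Subgroup.mem_normalizer_iff_map_conj_eq

/-- The number of Hall subgroups of order `m` is the index of a normalizer. -/
theorem hallCount_eq_index [Group.IsSolvable G] (m n : ℕ) (hG : Nat.card G = m * n)
    (hmn : m.Coprime n) (H₀ : Subgroup G) (hH₀ : Nat.card H₀ = m) :
    Nat.card {H : Subgroup G // Nat.card H = m} = (Subgroup.normalizer (H₀ : Set G)).index := by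
  letI : MulAction G (Subgroup G) := conjSubAction G
  have hstab : MulAction.stabilizer G H₀ = Subgroup.normalizer (H₀ : Set G) := by
    ext g
    rw [MulAction.mem_stabilizer_iff, mem_normalizer_iff_cj]
    rfl
  have horb : MulAction.orbit G H₀ = {H : Subgroup G | Nat.card H = m} := by
    ext H
    constructor
    · rintro ⟨g, rfl⟩
      show Nat.card (cj g H₀) = m
      rw [card_cj', hH₀]
    · intro hH
      obtain ⟨-, hC, -⟩ := hall_all _ G rfl m n hG hmn
      obtain ⟨g, hg⟩ := hC H₀ H hH₀ hH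
      exact ⟨g, hg⟩
  rw [← hstab, MulAction.index_stabilizer, horb]
  exact Nat.card_coe_set_eq _

theorem index_eq_of_card [Group.IsSolvable G] (m n : ℕ) (hG : Nat.card G = m * n)
    (H₀ : Subgroup G) (hH₀ : Nat.card H₀ = m) : H₀.index = n := by
  have h1 := Subgroup.card_mul_index H₀
  rw [hH₀, hG] at h1
  have hm : 0 < m := by
    rcases Nat.eq_zero_or_pos m with h0 | h0
    · rw [h0, zero_mul] at hG
      exact absurd hG Nat.card_pos.ne'
    · exact h0
  exact Nat.eq_of_mul_eq_mul_left hm h1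

/-- Frattini argument for Hall subgroups. -/
theorem normalizer_sup_eq [Group.IsSolvable G] (m n : ℕ) (hG : Nat.card G = m * n)
    (hmn : m.Coprime n) (H₀ M : Subgroup G) [hMn : M.Normal] (hH₀ : Nat.card H₀ = m) :
    Subgroup.normalizer ((H₀ ⊔ M : Subgroup G) : Set G)
      = Subgroup.normalizer (H₀ : Set G) ⊔ M := by
  apply le_antisymm
  · intro g hg
    have h1 : cj g H₀ ≤ H₀ ⊔ M := by
      have h := cj_mono g (le_sup_left : H₀ ≤ H₀ ⊔ M)
      rwa [(mem_normalizer_iff_cj _ g).1 hg] at h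
    have hX : Nat.card (H₀ ⊔ M : Subgroup G) = m * H₀.relIndex (H₀ ⊔ M) := by
      rw [← hH₀]; exact (card_mul_relIndex_of_le le_sup_left).symm
    have hcop : m.Coprime (H₀.relIndex (H₀ ⊔ M)) := by
      apply Nat.Coprime.coprime_dvd_right _ hmn
      rw [← index_eq_of_card m n hG H₀ hH₀]
      exact Subgroup.relIndex_dvd_index_of_le le_sup_left
    obtain ⟨x, hx, hxe⟩ := hall_conj_in (H₀ ⊔ M) m _ hX hcop H₀ (cj g H₀) le_sup_left h1 hH₀
      (by rw [card_cj', hH₀])
    have h2 : x⁻¹ * g ∈ Subgroup.normalizer (H₀ : Set G) := by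
      rw [mem_normalizer_iff_cj, cj_mul, ← hxe, cj_inv_cj']
    have h3 : x ∈ Subgroup.normalizer (H₀ : Set G) ⊔ M :=
      (sup_le_sup_right Subgroup.le_normalizer M) hx
    have h4 : g = x * (x⁻¹ * g) := by group
    rw [h4]
    exact Subgroup.mul_mem _ h3 (Subgroup.mem_sup_left h2)
  · apply sup_le
    · intro g hg
      rw [mem_normalizer_iff_cj] at hg ⊢
      rw [cj, Subgroup.map_sup]
      have h5 : M.map (MulAut.conj g).toMonoidHom = M := cj_self_of_normal M g
      have h6 : H₀.map (MulAut.conj g).toMonoidHom = H₀ := hg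
      rw [h5, h6]
    · exact le_sup_right.trans Subgroup.le_normalizer

/-- Count of Hall subgroups in the quotient. -/
theorem hallCount_quot [Group.IsSolvable G] (m n : ℕ) (hG : Nat.card G = m * n)
    (hmn : m.Coprime n) (H₀ M : Subgroup G) [hMn : M.Normal] (hH₀ : Nat.card H₀ = m) :
    Nat.card {H : Subgroup (G ⧸ M) // Nat.card H = Nat.card (H₀.map (QuotientGroup.mk' M))}
      = (Subgroup.normalizer ((H₀ ⊔ M : Subgroup G) : Set G)).index := by
  have hsurj := QuotientGroup.mk'_surjective M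
  have h1 : Nat.card (G ⧸ M) = Nat.card (H₀.map (QuotientGroup.mk' M)) *
      (H₀.map (QuotientGroup.mk' M)).index := (Subgroup.card_mul_index _).symm
  have hm' : Nat.card (H₀.map (QuotientGroup.mk' M)) ∣ m := by
    rw [← hH₀]; exact Subgroup.card_map_dvd _ _
  have hn' : (H₀.map (QuotientGroup.mk' M)).index ∣ n := by
    rw [← index_eq_of_card m n hG H₀ hH₀]
    exact Subgroup.index_map_dvd _ hsurj
  have hcop : (Nat.card (H₀.map (QuotientGroup.mk' M))).Coprime
      (H₀.map (QuotientGroup.mk' M)).index :=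
    Nat.Coprime.coprime_dvd_left hm' (Nat.Coprime.coprime_dvd_right hn' hmn)
  rw [hallCount_eq_index _ _ h1 hcop (H₀.map (QuotientGroup.mk' M)) rfl]
  rw [← Subgroup.index_comap_of_surjective _ hsurj]
  rw [Subgroup.comap_normalizer_eq_of_surjective _ hsurj]
  rw [Subgroup.comap_map_eq, QuotientGroup.ker_mk']

/-- `N_M(H) = C_M(H)` when `H ∩ M = 1`. -/
theorem normalizer_inf_eq_centralizer_inf (H₀ M : Subgroup G) [hMn : M.Normal]
    (hdisj : H₀ ⊓ M = ⊥) :
    Subgroup.normalizer (H₀ : Set G) ⊓ M = M ⊓ Subgroup.centralizer (H₀ : Set G) := by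
  apply le_antisymm
  · intro u hu0
    have hu : u ∈ Subgroup.normalizer (H₀ : Set G) := (Subgroup.mem_inf.1 hu0).1
    have huM : u ∈ M := (Subgroup.mem_inf.1 hu0).2
    refine Subgroup.mem_inf.2 ⟨huM, ?_⟩
    rw [Subgroup.mem_centralizer_iff]
    intro h hh
    have hh' : h ∈ H₀ := hh
    have h1 : u * h * u⁻¹ ∈ H₀ := (Subgroup.mem_normalizer_iff.1 hu h).1 hh'
    have h2 : u * h * u⁻¹ * h⁻¹ ∈ H₀ := H₀.mul_mem h1 (H₀.inv_mem hh')
    have h3 : u * h * u⁻¹ * h⁻¹ ∈ M := by
      have : u * h * u⁻¹ * h⁻¹ = u * (h * u⁻¹ * h⁻¹) := by group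
      rw [this]
      exact M.mul_mem huM (hMn.conj_mem _ (M.inv_mem huM) h)
    have h4 : u * h * u⁻¹ * h⁻¹ ∈ H₀ ⊓ M := ⟨h2, h3⟩
    rw [hdisj, Subgroup.mem_bot] at h4
    have : u * h = h * u := by
      have h5 : u * h * u⁻¹ * h⁻¹ * (h * u) = h * u := by rw [h4, one_mul]
      rw [← h5]; group
    exact this.symm
  · intro u hu
    exact Subgroup.mem_inf.2 ⟨Subgroup.centralizer_le_normalizer _ (Subgroup.mem_inf.1 hu).2,
      (Subgroup.mem_inf.1 hu).1⟩

/-- In a nontrivial finite solvable group there is a proper normal subgroup of prime power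
index. -/
theorem exists_normal_pp_index (H : Type u) [Group H] [Finite H] [Group.IsSolvable H]
    [Nontrivial H] :
    ∃ (B : Subgroup H) (q k : ℕ), B.Normal ∧ B ≠ ⊤ ∧ q.Prime ∧ B.index = q ^ k := by
  classical
  have hne : ({B : Subgroup H | B.Normal ∧ B ≠ ⊤}).Nonempty :=
    ⟨⊥, inferInstance, bot_ne_top⟩
  obtain ⟨B, ⟨hBn, hBne⟩, hmax⟩ := Set.exists_max_image {B : Subgroup H | B.Normal ∧ B ≠ ⊤}
    (fun B => Nat.card B) (Set.toFinite _) hne
  haveI := hBn
  have hsurj := QuotientGroup.mk'_surjective B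
  have hsimple : ∀ R : Subgroup (H ⧸ B), R.Normal → R = ⊥ ∨ R = ⊤ := by
    intro R hR
    by_cases htop : R.comap (QuotientGroup.mk' B) = ⊤
    · right
      apply Subgroup.comap_injective hsurj
      rw [htop, Subgroup.comap_top]
    · left
      have hle : B ≤ R.comap (QuotientGroup.mk' B) := by
        have := MonoidHom.ker_le_comap (QuotientGroup.mk' B) R
        rwa [QuotientGroup.ker_mk'] at this
      have hcard := hmax (R.comap (QuotientGroup.mk' B)) ⟨hR.comap _, htop⟩
      have heq : B = R.comap (QuotientGroup.mk' B) := Subgroup.eq_of_le_of_card_ge hle hcard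
      have h2 : R = (R.comap (QuotientGroup.mk' B)).map (QuotientGroup.mk' B) :=
        (Subgroup.map_comap_eq_self_of_surjective hsurj R).symm
      rw [h2, ← heq]
      ext x
      constructor
      · rintro ⟨b, hb, rfl⟩
        rw [Subgroup.mem_bot]
        exact (QuotientGroup.eq_one_iff b).2 hb
      · intro hx
        rw [Subgroup.mem_bot] at hx
        rw [hx]; exact Subgroup.one_mem _
  haveI : Nontrivial (H ⧸ B) := by
    rw [← Finite.one_lt_card_iff_nontrivial, ← Subgroup.index_eq_card]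
    have h0 : B.index ≠ 0 := Subgroup.index_ne_zero_of_finite
    have h1 : B.index ≠ 1 := fun h => hBne (Subgroup.index_eq_one.1 h)
    omega
  obtain ⟨q, hq, R, hRn, hRne, hRp⟩ := exists_normal_pSubgroup_of_solvable (G := H ⧸ B)
  rcases hsimple R hRn with h | h
  · exact absurd h hRne
  · subst h
    obtain ⟨k, hk⟩ := (IsPGroup.iff_card).1 hRp
    refine ⟨B, q, k, hBn, hBne, hq.out, ?_⟩
    rw [Subgroup.index_eq_card, ← hk, Subgroup.card_top]

end basic

section central
variable {G : Type u} [Group G] [Finite G]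

/-- conjugation by elements of `A` (normalizing `B`) preserves `C_M(B)` -/
theorem conj_mem_inf_centralizer (M A B : Subgroup G) [hMn : M.Normal]
    (hnorm : A ≤ Subgroup.normalizer (B : Set G)) {a x : G} (ha : a ∈ A)
    (hx : x ∈ M ⊓ Subgroup.centralizer (B : Set G)) :
    a * x * a⁻¹ ∈ M ⊓ Subgroup.centralizer (B : Set G) := by
  have hxM := (Subgroup.mem_inf.1 hx).1
  have hxC := (Subgroup.mem_inf.1 hx).2
  refine Subgroup.mem_inf.2 ⟨hMn.conj_mem x hxM a, ?_⟩
  rw [Subgroup.mem_centralizer_iff] at hxC ⊢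
  intro b hb
  have hb' : a⁻¹ * b * a ∈ B := by
    have h1 := (Subgroup.mem_normalizer_iff.1 (Subgroup.inv_mem _ (hnorm ha)) b).1 hb
    simpa using h1
  have h2 := hxC (a⁻¹ * b * a) hb'
  calc b * (a * x * a⁻¹) = a * ((a⁻¹ * b * a) * x) * a⁻¹ := by group
    _ = a * (x * (a⁻¹ * b * a)) * a⁻¹ := by rw [h2]
    _ = a * x * a⁻¹ * b := by group

theorem relIndex_centralizer_modEq (M A B : Subgroup G) [hMn : M.Normal] (r q k : ℕ)
    [hr : Fact r.Prime] [hq : Fact q.Prime] (hrq : r ≠ q) (hM : IsPGroup r M) (hBA : B ≤ A)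
    (hnorm : A ≤ Subgroup.normalizer (B : Set G)) (hidx : B.relIndex A = q ^ k) :
    (M ⊓ Subgroup.centralizer (A : Set G)).relIndex (M ⊓ Subgroup.centralizer (B : Set G))
      ≡ 1 [MOD q] := by
  classical
  let P : Sylow q A := default
  set Q : Subgroup G := (P : Subgroup A).map A.subtype with hQ
  have hQA : Q ≤ A := by rintro _ ⟨x, _, rfl⟩; exact x.2
  have hQp : IsPGroup q Q := P.2.map _
  have hQidx : ¬ q ∣ Q.relIndex A := by
    have : Q.subgroupOf A = (P : Subgroup A) :=
      Subgroup.comap_map_eq_self_of_injective (Subgroup.subtype_injective A) _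
    rw [Subgroup.relIndex, this]
    exact P.not_dvd_index
  have hsup : A ≤ B ⊔ Q := by
    rw [← Subgroup.relIndex_eq_one]
    have h1 : (B ⊔ Q).relIndex A ∣ q ^ k := by
      rw [← hidx]; exact Subgroup.relIndex_dvd_of_le_left A le_sup_left
    have h2 : (B ⊔ Q).relIndex A ∣ Q.relIndex A := Subgroup.relIndex_dvd_of_le_left A le_sup_right
    obtain ⟨i, -, hi⟩ := (Nat.dvd_prime_pow hq.out).1 h1
    rcases Nat.eq_zero_or_pos i with rfl | hpos
    · simpa using hi
    · exfalso; apply hQidx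
      exact (dvd_pow_self q hpos.ne').trans (hi ▸ h2)
  have hle : M ⊓ Subgroup.centralizer (A : Set G) ≤ M ⊓ Subgroup.centralizer (B : Set G) :=
    inf_le_inf_left M (Subgroup.centralizer_le (SetLike.coe_subset_coe.2 hBA))
  letI : MulAction Q (M ⊓ Subgroup.centralizer (B : Set G) : Subgroup G) :=
    { smul := fun g x => ⟨(g : G) * x * (g : G)⁻¹,
        conj_mem_inf_centralizer M A B hnorm (hQA g.2) x.2⟩
      one_smul := fun x => Subtype.ext (by
        show ((1 : Q) : G) * x * ((1 : Q) : G)⁻¹ = x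
        simp)
      mul_smul := fun g h x => Subtype.ext (by
        show ((g * h : Q) : G) * x * ((g * h : Q) : G)⁻¹
          = (g : G) * ((h : G) * x * (h : G)⁻¹) * (g : G)⁻¹
        rw [Subgroup.coe_mul]
        group) }
  have hfix : Nat.card (MulAction.fixedPoints Q (M ⊓ Subgroup.centralizer (B : Set G) : Subgroup G))
      = Nat.card (M ⊓ Subgroup.centralizer (A : Set G) : Subgroup G) := by
    apply Nat.card_congr
    refine ⟨fun x => ⟨x.1.1, ?_⟩, fun y => ⟨⟨y.1, hle y.2⟩, ?_⟩, ?_, ?_⟩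
    · have hxCB := x.1.2
      refine Subgroup.mem_inf.2 ⟨(Subgroup.mem_inf.1 hxCB).1, ?_⟩
      have hB : B ≤ Subgroup.centralizer ({(x.1.1 : G)} : Set G) := by
        intro b hb
        rw [Subgroup.mem_centralizer_iff]
        intro y hy
        rw [Set.mem_singleton_iff.1 hy]
        exact ((Subgroup.mem_centralizer_iff.1 (Subgroup.mem_inf.1 hxCB).2) b hb).symm
      have hQ' : Q ≤ Subgroup.centralizer ({(x.1.1 : G)} : Set G) := by
        intro g hg
        rw [Subgroup.mem_centralizer_iff]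
        intro y hy
        rw [Set.mem_singleton_iff.1 hy]
        have h1 := x.2 ⟨g, hg⟩
        have h2 : g * (x.1.1 : G) * g⁻¹ = x.1.1 := congrArg Subtype.val h1
        calc (x.1.1 : G) * g = (g * x.1.1 * g⁻¹) * g := by rw [h2]
          _ = g * x.1.1 := by group
      have hA : A ≤ Subgroup.centralizer ({(x.1.1 : G)} : Set G) := hsup.trans (sup_le hB hQ')
      rw [Subgroup.mem_centralizer_iff]
      intro a ha
      have := Subgroup.mem_centralizer_iff.1 (hA ha) x.1.1 (Set.mem_singleton _)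
      exact this.symm
    · intro g
      apply Subtype.ext
      show (g : G) * y.1 * (g : G)⁻¹ = y.1
      have h1 := Subgroup.mem_centralizer_iff.1 (Subgroup.mem_inf.1 y.2).2 (g : G) (hQA g.2)
      rw [h1]; group
    · intro x; rfl
    · intro y; rfl
  have hQp' : IsPGroup q Q := hQp
  have hmod := hQp'.card_modEq_card_fixedPoints
    (M ⊓ Subgroup.centralizer (B : Set G) : Subgroup G)
  rw [hfix, ← card_mul_relIndex_of_le hle] at hmod
  obtain ⟨j, hj⟩ := (IsPGroup.iff_card).1 hM
  have hcop : Nat.gcd q (Nat.card (M ⊓ Subgroup.centralizer (A : Set G) : Subgroup G)) = 1 := by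
    have h1 : Nat.card (M ⊓ Subgroup.centralizer (A : Set G) : Subgroup G) ∣ r ^ j := by
      rw [← hj]; exact Subgroup.card_dvd_of_le inf_le_left
    have h2 : Nat.Coprime q (r ^ j) :=
      Nat.Coprime.pow_right j ((Nat.coprime_primes hq.out hr.out).2 hrq.symm)
    exact Nat.Coprime.coprime_dvd_right h1 h2
  have hmod' : Nat.card (M ⊓ Subgroup.centralizer (A : Set G) : Subgroup G) *
      (M ⊓ Subgroup.centralizer (A : Set G)).relIndex (M ⊓ Subgroup.centralizer (B : Set G))
      ≡ Nat.card (M ⊓ Subgroup.centralizer (A : Set G) : Subgroup G) * 1 [MOD q] := by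
    rw [mul_one]; exact hmod
  exact Nat.ModEq.cancel_left_of_coprime hcop hmod'

theorem centralizer_relIndex_factor [Group.IsSolvable G] (M : Subgroup G) [hMn : M.Normal] (r : ℕ)
    [hr : Fact r.Prime] (hM : IsPGroup r M) :
    ∀ (N : ℕ) (A : Subgroup G), Nat.card A = N → (Nat.card A).Coprime r →
      ∃ l : List ℕ, (M ⊓ Subgroup.centralizer (A : Set G)).relIndex M = l.prod ∧
        ∀ f ∈ l, f ∣ Nat.card M ∧ ∃ q : ℕ, q.Prime ∧ q ∣ Nat.card A ∧ f ≡ 1 [MOD q] := by
  intro N
  induction N using Nat.strong_induction_on with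
  | _ N ih =>
  intro A hA hcop
  by_cases hbot : A = ⊥
  · subst hbot
    refine ⟨[], ?_, by simp⟩
    rw [List.prod_nil, Subgroup.relIndex_eq_one]
    intro x hx
    refine Subgroup.mem_inf.2 ⟨hx, ?_⟩
    rw [Subgroup.mem_centralizer_iff]
    intro h hh
    have : h = 1 := Subgroup.mem_bot.1 hh
    rw [this]; simp
  · haveI : Nontrivial A := (Subgroup.nontrivial_iff_ne_bot A).2 hbot
    obtain ⟨B₀, q, k, hB₀n, hB₀ne, hq, hB₀idx⟩ := exists_normal_pp_index A
    set B : Subgroup G := B₀.map A.subtype with hB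
    have hBA : B ≤ A := by rintro _ ⟨x, _, rfl⟩; exact x.2
    have hBsub : B.subgroupOf A = B₀ :=
      Subgroup.comap_map_eq_self_of_injective (Subgroup.subtype_injective A) _
    have hidx : B.relIndex A = q ^ k := by rw [Subgroup.relIndex, hBsub, hB₀idx]
    have hnorm : A ≤ Subgroup.normalizer (B : Set G) := by
      have h1 := Subgroup.le_normalizer_map (H := B₀) A.subtype
      rw [Subgroup.normalizer_eq_top_iff.2 hB₀n] at h1
      rwa [← MonoidHom.range_eq_map, Subgroup.range_subtype] at h1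
    have hBlt : Nat.card B < N := by
      rw [← hA]
      have hne : B ≠ A := by
        intro h
        apply hB₀ne
        rw [← hBsub, h]; exact Subgroup.subgroupOf_self A
      exact lt_of_le_of_ne (Subgroup.card_le_of_le hBA)
        (fun hc => hne (Subgroup.eq_of_le_of_card_ge hBA hc.ge))
    have hBcop : (Nat.card B).Coprime r :=
      Nat.Coprime.coprime_dvd_left (Subgroup.card_dvd_of_le hBA) hcop
    obtain ⟨l, hl, hlf⟩ := ih _ hBlt B rfl hBcop
    have hk : k ≠ 0 := by
      rintro rfl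
      rw [pow_zero] at hB₀idx
      exact hB₀ne (Subgroup.index_eq_one.1 hB₀idx)
    have hqA : q ∣ Nat.card A := by
      have h1 : B.relIndex A ∣ Nat.card A := Subgroup.relIndex_dvd_card B A
      rw [hidx] at h1
      exact (dvd_pow_self q hk).trans h1
    have hrq : r ≠ q := by
      rintro rfl
      exact hr.out.one_lt.ne' (Nat.Coprime.eq_one_of_dvd hcop.symm hqA)
    haveI : Fact q.Prime := ⟨hq⟩
    have hmod := relIndex_centralizer_modEq M A B r q k hrq hM hBA hnorm hidx
    refine ⟨(M ⊓ Subgroup.centralizer (A : Set G)).relIndex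
      (M ⊓ Subgroup.centralizer (B : Set G)) :: l, ?_, ?_⟩
    · rw [List.prod_cons, ← hl]
      exact (Subgroup.relIndex_mul_relIndex _ _ _
        (inf_le_inf_left M (Subgroup.centralizer_le (SetLike.coe_subset_coe.2 hBA)))
        inf_le_left).symm
    · intro f hf
      rcases List.mem_cons.1 hf with rfl | hf
      · refine ⟨?_, q, hq, hqA, hmod⟩
        exact (Subgroup.relIndex_dvd_card _ _).trans (Subgroup.card_dvd_of_le inf_le_left)
      · obtain ⟨h1, q', hq', hq'B, hmod'⟩ := hlf f hf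
        exact ⟨h1, q', hq', hq'B.trans (Subgroup.card_dvd_of_le hBA), hmod'⟩

end central

/-- `f` divides the order of some chief factor of `G`. -/
def ChiefDiv (G : Type u) [Group G] (f : ℕ) : Prop :=
  ∃ K L : Subgroup G, K.Normal ∧ L.Normal ∧ K < L ∧
    (∀ M : Subgroup G, M.Normal → K ≤ M → M ≤ L → M = K ∨ M = L) ∧ f ∣ K.relIndex L

def Good (G : Type u) [Group G] (m f : ℕ) : Prop :=
  (∃ q e : ℕ, q.Prime ∧ f = q ^ e) ∧ ChiefDiv G f ∧ (∃ q : ℕ, q.Prime ∧ q ∣ m ∧ f ≡ 1 [MOD q])

theorem chiefDiv_lift {G : Type u} [Group G] (M : Subgroup G) [M.Normal] {f : ℕ}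
    (h : ChiefDiv (G ⧸ M) f) : ChiefDiv G f := by
  obtain ⟨K, L, hK, hL, hKL, hmin, hf⟩ := h
  have hsurj := QuotientGroup.mk'_surjective M
  refine ⟨K.comap (QuotientGroup.mk' M), L.comap (QuotientGroup.mk' M), hK.comap _, hL.comap _,
    (Subgroup.comap_lt_comap_of_surjective hsurj).2 hKL, ?_, ?_⟩
  · intro X hX h1 h2
    have hMX : M ≤ X := by
      refine le_trans ?_ h1
      have := MonoidHom.ker_le_comap (QuotientGroup.mk' M) K
      rwa [QuotientGroup.ker_mk'] at this
    have hXe : (X.map (QuotientGroup.mk' M)).comap (QuotientGroup.mk' M) = X := by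
      rw [Subgroup.comap_map_eq, QuotientGroup.ker_mk', sup_eq_left.2 hMX]
    have hXn : (X.map (QuotientGroup.mk' M)).Normal := hX.map _ hsurj
    have h1' : K ≤ X.map (QuotientGroup.mk' M) := by
      rw [← Subgroup.map_comap_eq_self_of_surjective hsurj K]; exact Subgroup.map_mono h1
    have h2' : X.map (QuotientGroup.mk' M) ≤ L := by
      rw [Subgroup.map_le_iff_le_comap]; exact h2
    rcases hmin _ hXn h1' h2' with h | h
    · left; rw [← hXe, h]
    · right; rw [← hXe, h]
  · rw [Subgroup.relIndex_comap, Subgroup.map_comap_eq_self_of_surjective hsurj]; exact hf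

theorem exists_min_normal_pgroup (G : Type u) [Group G] [Finite G] [Group.IsSolvable G]
    [Nontrivial G] :
    ∃ (r : ℕ) (_ : Fact r.Prime) (M : Subgroup G), M.Normal ∧ M ≠ ⊥ ∧ IsPGroup r M ∧
      ∀ M' : Subgroup G, M'.Normal → M' ≤ M → M' = ⊥ ∨ M' = M := by
  classical
  have hne : ({M : Subgroup G | M.Normal ∧ M ≠ ⊥}).Nonempty :=
    ⟨⊤, inferInstance, top_ne_bot⟩
  obtain ⟨M, ⟨hMn, hMne⟩, hmin⟩ := Set.exists_min_image {M : Subgroup G | M.Normal ∧ M ≠ ⊥}
    (fun M => Nat.card M) (Set.toFinite _) hne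
  have := hMn
  have hmin' : ∀ M' : Subgroup G, M'.Normal → M' ≤ M → M' = ⊥ ∨ M' = M := by
    intro M' hM'n hM'le
    by_cases h0 : M' = ⊥
    · exact Or.inl h0
    · right
      exact Subgroup.eq_of_le_of_card_ge hM'le (hmin M' ⟨hM'n, h0⟩)
  obtain ⟨-, p, hp, hexp⟩ := Cfsg.Agent.S0043.result M hMne hmin'
  refine ⟨p, ⟨hp⟩, M, hMn, hMne, ?_, hmin'⟩
  intro x
  refine ⟨1, ?_⟩
  rw [pow_one]
  exact Subtype.ext (hexp x x.2)

theorem hallCount_factor : ∀ (N : ℕ) (G : Type u) [Group G] [Finite G] [Group.IsSolvable G],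
    Nat.card G = N → ∀ m n : ℕ, Nat.card G = m * n → m.Coprime n →
      ∃ l : List ℕ, Nat.card {H : Subgroup G // Nat.card H = m} = l.prod ∧
        ∀ f ∈ l, Good G m f := by
  intro N
  induction N using Nat.strong_induction_on with
  | _ N ih =>
  intro G _ _ _ hN m n hG hmn
  obtain ⟨⟨H₀, hH₀⟩, -, -⟩ := hall_all _ G rfl m n hG hmn
  rw [hallCount_eq_index m n hG hmn H₀ hH₀]
  by_cases hnt : Nontrivial G
  · obtain ⟨r, hr, M, hMn, hMne, hMp, hMmin⟩ := exists_min_normal_pgroup G
    haveI := hMn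
    have hsplit : (Subgroup.normalizer (H₀ : Set G)).index
        = (Subgroup.normalizer (H₀ : Set G)).relIndex M
          * (Subgroup.normalizer ((H₀ ⊔ M : Subgroup G) : Set G)).index := by
      rw [normalizer_sup_eq m n hG hmn H₀ M hH₀,
        ← relIndex_sup_of_normal (Subgroup.normalizer (H₀ : Set G)) M]
      exact (Subgroup.relIndex_mul_index le_sup_left).symm
    rw [hsplit, ← hallCount_quot m n hG hmn H₀ M hH₀]
    have hm'm : Nat.card (H₀.map (QuotientGroup.mk' M)) ∣ m := by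
      rw [← hH₀]; exact Subgroup.card_map_dvd _ _
    have hn'n : (H₀.map (QuotientGroup.mk' M)).index ∣ n := by
      rw [← index_eq_of_card m n hG H₀ hH₀]
      exact Subgroup.index_map_dvd _ (QuotientGroup.mk'_surjective M)
    have hcop' : (Nat.card (H₀.map (QuotientGroup.mk' M))).Coprime
        (H₀.map (QuotientGroup.mk' M)).index :=
      Nat.Coprime.coprime_dvd_left hm'm (Nat.Coprime.coprime_dvd_right hn'n hmn)
    have hlt : Nat.card (G ⧸ M) < N := by rw [← hN]; exact card_quot_lt M hMne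
    obtain ⟨l₁, hl₁, hl₁f⟩ := ih _ hlt (G ⧸ M) rfl (Nat.card (H₀.map (QuotientGroup.mk' M))) _
      (Subgroup.card_mul_index _).symm hcop'
    have hl₁G : ∀ f ∈ l₁, Good G m f := by
      intro f hf
      obtain ⟨h1, h2, q, hq, hqm, hmod⟩ := hl₁f f hf
      exact ⟨h1, chiefDiv_lift M h2, q, hq, hqm.trans hm'm, hmod⟩
    obtain ⟨j, hj⟩ := (IsPGroup.iff_card).1 hMp
    by_cases hrm : r ∣ m
    · have hMH : M ≤ H₀ := by
        rw [← Subgroup.relIndex_eq_one]
        have h1 : H₀.relIndex M ∣ n := by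
          rw [← relIndex_sup_of_normal H₀ M, ← index_eq_of_card m n hG H₀ hH₀]
          exact Subgroup.relIndex_dvd_index_of_le le_sup_left
        have h2 : H₀.relIndex M ∣ r ^ j := by rw [← hj]; exact Subgroup.relIndex_dvd_card _ _
        have h3 : (r ^ j).Coprime n :=
          Nat.Coprime.pow_left j (Nat.Coprime.coprime_dvd_left hrm hmn)
        exact Nat.eq_one_of_dvd_coprimes h3 h2 h1
      have hone : (Subgroup.normalizer (H₀ : Set G)).relIndex M = 1 :=
        Subgroup.relIndex_eq_one.2 (hMH.trans Subgroup.le_normalizer)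
      exact ⟨l₁, by rw [hone, one_mul, hl₁], hl₁G⟩
    · have hrcop : (Nat.card H₀).Coprime r := by
        rw [hH₀]; exact ((Nat.Prime.coprime_iff_not_dvd hr.out).2 hrm).symm
      have hdisj : H₀ ⊓ M = ⊥ := by
        apply Subgroup.eq_bot_of_card_eq
        have h1 : Nat.card (H₀ ⊓ M : Subgroup G) ∣ Nat.card H₀ := Subgroup.card_dvd_of_le inf_le_left
        have h2 : Nat.card (H₀ ⊓ M : Subgroup G) ∣ r ^ j := by
          rw [← hj]; exact Subgroup.card_dvd_of_le inf_le_right
        exact Nat.eq_one_of_dvd_coprimes (Nat.Coprime.pow_right j hrcop) h1 h2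
      have hc : (Subgroup.normalizer (H₀ : Set G)).relIndex M
          = (M ⊓ Subgroup.centralizer (H₀ : Set G)).relIndex M := by
        have h1 : (Subgroup.normalizer (H₀ : Set G) ⊓ M).relIndex M
            = (Subgroup.normalizer (H₀ : Set G)).relIndex M := Subgroup.inf_relIndex_right _ _
        rw [← h1, normalizer_inf_eq_centralizer_inf H₀ M hdisj]
      obtain ⟨l₂, hl₂, hl₂f⟩ := centralizer_relIndex_factor M r hMp _ H₀ rfl hrcop
      refine ⟨l₂ ++ l₁, by rw [List.prod_append, ← hl₂, ← hl₁, hc], ?_⟩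
      intro f hf
      rcases List.mem_append.1 hf with hf | hf
      · obtain ⟨h1, q, hq, hqm, hmod⟩ := hl₂f f hf
        refine ⟨?_, ⟨⊥, M, inferInstance, hMn, bot_lt_iff_ne_bot.2 hMne, ?_, ?_⟩, q, hq,
          hH₀ ▸ hqm, hmod⟩
        · rw [hj] at h1
          obtain ⟨e, -, he⟩ := (Nat.dvd_prime_pow hr.out).1 h1
          exact ⟨r, e, hr.out, he⟩
        · intro X hX _ hXM
          exact hMmin X hX hXM
        · rw [Subgroup.relIndex_bot_left]; exact h1
      · exact hl₁G f hf
  · rw [not_nontrivial_iff_subsingleton] at hnt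
    refine ⟨[], ?_, by simp⟩
    rw [List.prod_nil, Subgroup.index_eq_one]
    exact Subsingleton.elim _ _

end Cfsg.Agent.Lib.Lead.HallCount
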