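import Mathlib
import Cfsg.Agent.Lib.Lead.ClassSize
import Cfsg.Agent.Lib.Lead.FrattiniGen
import Cfsg.Agent.Lib.Lead.FrobSolutions3

set_option autoImplicit false

namespace Cfsg.Agent.Lib.Lead.HallRoots

universe u

theorem card_subtype_eq_sum_fiber {α β : Type*} [Finite α] [Fintype β] (P : α → Prop) (f : α → β) :
    Nat.card {x : α // P x} = ∑ b : β, Nat.card {x : α // P x ∧ f x = b} := by
  classical
  have e : {x : α // P x} ≃ Σ b : β, {x : α // P x ∧ f x = b} :=
    { toFun := fun x => ⟨f x.1, ⟨x.1, x.2, rfl⟩⟩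
      invFun := fun s => ⟨s.2.1, s.2.2.1⟩
      left_inv := fun x => rfl
      right_inv := by rintro ⟨b, ⟨x, hx, rfl⟩⟩; rfl }
  rw [Nat.card_congr e, Nat.card_sigma]

variable {G : Type u} [Group G]

theorem isConj_iff_eq_of_central {c : G} (hc : c ∈ Subgroup.center G) (y : G) :
    IsConj c y ↔ y = c := by
  constructor
  · intro h
    obtain ⟨g, hg⟩ := isConj_iff.mp h
    rw [← hg, (Subgroup.mem_center_iff.mp hc g), mul_assoc, mul_inv_cancel, mul_one]
  · rintro rfl; exact IsConj.refl _

variable [Finite G]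

/-- The number of `n`-th roots of the elements of a class is the class size times the number of
`n`-th roots of one element. -/
theorem card_roots_class (c : G) (n : ℕ) :
    Nat.card {x : G // IsConj c (x ^ n)} =
      Nat.card {y : G // IsConj c y} * Nat.card {x : G // x ^ n = c} := by
  classical
  have : Fintype {y : G // IsConj c y} := Fintype.ofFinite _
  have e : {x : G // IsConj c (x ^ n)} ≃ Σ y : {y : G // IsConj c y}, {x : G // x ^ n = y.1} :=
    { toFun := fun x => ⟨⟨x.1 ^ n, x.2⟩, ⟨x.1, rfl⟩⟩
      invFun := fun s => ⟨s.2.1, by rw [s.2.2]; exact s.1.2⟩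
      left_inv := fun x => rfl
      right_inv := by
        rintro ⟨⟨y, hy⟩, ⟨x, hx⟩⟩
        have hx' : x ^ n = y := hx
        subst hx'
        rfl }
  rw [Nat.card_congr e, Nat.card_sigma]
  have hfib : ∀ y : {y : G // IsConj c y},
      Nat.card {x : G // x ^ n = y.1} = Nat.card {x : G // x ^ n = c} := by
    rintro ⟨y, hy⟩
    obtain ⟨g, hg⟩ := isConj_iff.mp hy
    refine Nat.card_congr
      { toFun := fun x => ⟨g⁻¹ * x.1 * g, ?_⟩
        invFun := fun x => ⟨g * x.1 * g⁻¹, ?_⟩
        left_inv := fun x => by apply Subtype.ext; simp only; group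
        right_inv := fun x => by apply Subtype.ext; simp only; group }
    · have h1 : (g⁻¹ * x.1 * g) ^ n = g⁻¹ * x.1 ^ n * g := by
        have := conj_pow (i := n) (a := g⁻¹) (b := x.1)
        rwa [inv_inv] at this
      rw [h1, x.2]
      show g⁻¹ * y * g = c
      rw [← hg]; group
    · rw [conj_pow, x.2]
      exact hg
  rw [Finset.sum_congr rfl (fun y _ => hfib y), Finset.sum_const, Finset.card_univ,
    smul_eq_mul, ← Nat.card_eq_fintype_card]

/-- The `n`-th roots of `c` all lie in the centralizer of `c`. -/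
theorem card_roots_centralizer (c : G) (n : ℕ) :
    Nat.card {x : G // x ^ n = c} =
      Nat.card {x : Subgroup.centralizer ({c} : Set G) //
        x ^ n = ⟨c, Subgroup.mem_centralizer_singleton_iff.mpr rfl⟩} := by
  refine Nat.card_congr
    { toFun := fun x => ⟨⟨x.1, ?_⟩, ?_⟩
      invFun := fun x => ⟨x.1.1, ?_⟩
      left_inv := fun x => rfl
      right_inv := fun x => rfl }
  · have hx := x.2
    rw [Subgroup.mem_centralizer_singleton_iff]
    have h1 : Commute (x.1 ^ n) x.1 := (Commute.refl x.1).pow_left n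
    rw [hx] at h1
    exact h1.eq.symm
  · apply Subtype.ext
    simp only [Subgroup.coe_pow]
    exact x.2
  · have := congrArg Subtype.val x.2
    simpa using this

end Cfsg.Agent.Lib.Lead.HallRoots
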