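import Mathlib
import Cfsg.Agent.Lib.Lead.HallRoots1

set_option autoImplicit false

namespace Cfsg.Agent.Lib.Lead.HallRoots

universe u

theorem totient_pow_mul_of_dvd {p m : ℕ} (hp : p.Prime) (hpm : p ∣ m) (a : ℕ) :
    Nat.totient (p ^ a * m) = p ^ a * Nat.totient m := by
  induction a with
  | zero => simp
  | succ a ih =>
    have h1 : p ^ (a + 1) * m = p * (p ^ a * m) := by ring
    rw [h1, Nat.totient_mul_of_prime_of_dvd hp (Dvd.dvd.mul_left hpm _), ih]
    ring

variable {G : Type u} [Group G] [Finite G]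

theorem orderOf_eq_of_pow_eq {p a : ℕ} (hp : p.Prime) {c x : G} (hpm : p ∣ orderOf c)
    (hx : x ^ (p ^ a) = c) : orderOf x = p ^ a * orderOf c := by
  set o := orderOf x with ho
  have hopos : 0 < o := orderOf_pos x
  have h1 : orderOf c = o / Nat.gcd o (p ^ a) := by rw [← hx, orderOf_pow]
  have hgd : Nat.gcd o (p ^ a) ∣ o := Nat.gcd_dvd_left _ _
  have h2 : o = orderOf c * Nat.gcd o (p ^ a) := by
    rw [h1, Nat.div_mul_cancel hgd]
  obtain ⟨j, hj, hgj⟩ := (Nat.dvd_prime_pow hp).mp (Nat.gcd_dvd_right o (p ^ a))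
  have hja : j = a := by
    by_contra hne
    have hlt : j + 1 ≤ a := by omega
    have h3 : p ^ (j + 1) ∣ o := by
      rw [h2, hgj, pow_succ, mul_comm (p ^ j) p]
      exact mul_dvd_mul hpm dvd_rfl
    have h4 : p ^ (j + 1) ∣ p ^ a := pow_dvd_pow p hlt
    have h5 : p ^ (j + 1) ∣ p ^ j := by
      rw [← hgj]; exact Nat.dvd_gcd h3 h4
    have := (Nat.pow_dvd_pow_iff_le_right hp.one_lt).mp h5
    omega
  rw [h2, hgj, hja, mul_comm]

/-- `p^a` divides the number of `p^a`-th roots of an element whose order is divisible by `p`. -/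
theorem pow_dvd_card_roots {p a : ℕ} (hp : p.Prime) (ha : 1 ≤ a) (c : G) (hpm : p ∣ orderOf c) :
    p ^ a ∣ Nat.card {x : G // x ^ (p ^ a) = c} := by
  classical
  set m := orderOf c with hm
  have hmpos : 0 < m := orderOf_pos c
  set N := p ^ a * m with hN
  have hNpos : 0 < N := Nat.mul_pos (pow_pos hp.pos a) hmpos
  have hmN : m ∣ N := Dvd.intro_left _ rfl
  have hN1 : 1 < N := by
    have h1 : 2 ≤ p ^ a := by
      calc 2 ≤ p := hp.two_le
        _ = p ^ 1 := (pow_one p).symm
        _ ≤ p ^ a := Nat.pow_le_pow_right hp.pos ha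
    nlinarith
  have : Fact (1 < N) := ⟨hN1⟩
  have : NeZero N := ⟨hNpos.ne'⟩
  have : NeZero m := ⟨hmpos.ne'⟩
  set U : Subgroup (ZMod N)ˣ := (ZMod.unitsMap hmN).ker with hU
  have hord : ∀ x : {x : G // x ^ (p ^ a) = c}, orderOf x.1 = N := fun x =>
    orderOf_eq_of_pow_eq hp hpm x.2
  have hUval : ∀ u : U, ((u : (ZMod N)ˣ) : ZMod N).val ≡ 1 [MOD m] := by
    intro u
    have h1 : ZMod.unitsMap hmN (u : (ZMod N)ˣ) = 1 := MonoidHom.mem_ker.mp u.2
    have h2 : ((ZMod.unitsMap hmN (u : (ZMod N)ˣ) : (ZMod m)ˣ) : ZMod m) = 1 := by rw [h1]; rfl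
    rw [ZMod.unitsMap_val, ← ZMod.natCast_val] at h2
    have h3 : ((((u : (ZMod N)ˣ) : ZMod N).val : ℕ) : ZMod m) = ((1 : ℕ) : ZMod m) := by
      rw [h2, Nat.cast_one]
    exact (ZMod.natCast_eq_natCast_iff _ _ _).mp h3
  let act : MulAction U {x : G // x ^ (p ^ a) = c} :=
    { smul := fun u x => ⟨x.1 ^ ((u : (ZMod N)ˣ) : ZMod N).val, by
        rw [← pow_mul, mul_comm, pow_mul, x.2]
        have := (pow_eq_pow_iff_modEq (x := c)).mpr (hUval u)
        rw [this, pow_one]⟩
      one_smul := by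
        rintro ⟨x, hx⟩
        apply Subtype.ext
        show x ^ (((1 : U) : (ZMod N)ˣ) : ZMod N).val = x
        rw [Subgroup.coe_one, Units.val_one, ZMod.val_one, pow_one]
      mul_smul := by
        rintro u v ⟨x, hx⟩
        apply Subtype.ext
        show x ^ (((u * v : U) : (ZMod N)ˣ) : ZMod N).val =
          (x ^ ((v : (ZMod N)ˣ) : ZMod N).val) ^ ((u : (ZMod N)ˣ) : ZMod N).val
        have hxN : orderOf x = N := hord ⟨x, hx⟩
        have hmod : ∀ k : ℕ, x ^ (k % N) = x ^ k := fun k => by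
          have := pow_mod_orderOf x k
          rwa [hxN] at this
        rw [Subgroup.coe_mul, Units.val_mul, ZMod.val_mul, ← pow_mul, hmod, mul_comm] }
  have hfree : ∀ (s : {x : G // x ^ (p ^ a) = c}) (u : U), u • s = s → u = 1 := by
    rintro ⟨x, hx⟩ u hu
    have h1 : x ^ ((u : (ZMod N)ˣ) : ZMod N).val = x := by
      have := congrArg (fun b : {x : G // x ^ (p ^ a) = c} => b.1) hu
      exact this
    have hxN : orderOf x = N := hord ⟨x, hx⟩
    have h2 : ((u : (ZMod N)ˣ) : ZMod N).val ≡ 1 [MOD N] := by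
      have h3 := (pow_eq_pow_iff_modEq (x := x)).1 (h1.trans (pow_one x).symm)
      rwa [hxN] at h3
    apply Subtype.ext
    apply Units.ext
    rw [Subgroup.coe_one, Units.val_one, ← ZMod.natCast_zmod_val ((u : (ZMod N)ˣ) : ZMod N)]
    have := (ZMod.natCast_eq_natCast_iff _ _ _).2 h2
    rw [this, Nat.cast_one]
  have hdvd := Cfsg.Agent.Lib.Lead.card_dvd_card_of_free hfree
  have hUcard : Nat.card U = p ^ a := by
    have h1 : U.index = Nat.card (ZMod.unitsMap hmN).range := Subgroup.index_ker _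
    have h2 : (ZMod.unitsMap hmN).range = ⊤ :=
      MonoidHom.range_eq_top.mpr (ZMod.unitsMap_surjective hmN)
    rw [h2, Subgroup.card_top, Nat.card_eq_fintype_card, ZMod.card_units_eq_totient] at h1
    have h3 := U.card_mul_index
    have h4 : N.totient = p ^ a * m.totient := totient_pow_mul_of_dvd hp hpm a
    rw [h1, Nat.card_eq_fintype_card (α := (ZMod N)ˣ), ZMod.card_units_eq_totient, h4] at h3
    exact Nat.eq_of_mul_eq_mul_right (Nat.totient_pos.mpr hmpos) h3
  rwa [hUcard] at hdvd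

/-- Central case for prime powers. -/
theorem central_roots_prime_pow {p a : ℕ} (hp : p.Prime) (ha : 1 ≤ a) (c : G)
    (hc : c ∈ Subgroup.center G) :
    Nat.gcd (p ^ a) (Nat.card G) ∣ Nat.card {x : G // x ^ (p ^ a) = c} := by
  by_cases hpm : p ∣ orderOf c
  · exact (Nat.gcd_dvd_left _ _).trans (pow_dvd_card_roots hp ha c hpm)
  · have hcop : (p ^ a).Coprime (orderOf c) :=
      Nat.Coprime.pow_left a ((Nat.Prime.coprime_iff_not_dvd hp).mpr hpm)
    obtain ⟨k, hk⟩ := exists_pow_eq_self_of_coprime hcop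
    set c1 := c ^ k with hc1def
    have hc1 : c1 ^ (p ^ a) = c := by
      rw [hc1def, ← pow_mul, mul_comm, pow_mul]; exact hk
    have hc1z : c1 ∈ Subgroup.center G := Subgroup.pow_mem _ hc k
    have hcomm : ∀ x : G, Commute x c1 := fun x => Subgroup.mem_center_iff.mp hc1z x
    have e : {x : G // x ^ (p ^ a) = c} ≃ {x : G // x ^ (p ^ a) = 1} :=
      { toFun := fun x => ⟨x.1 * c1⁻¹, by
          rw [((hcomm x.1).inv_right).mul_pow, x.2, inv_pow, hc1, mul_inv_cancel]⟩
        invFun := fun x => ⟨x.1 * c1, by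
          rw [(hcomm x.1).mul_pow, x.2, one_mul, hc1]⟩
        left_inv := fun x => by apply Subtype.ext; simp
        right_inv := fun x => by apply Subtype.ext; simp }
    rw [Nat.card_congr e]
    set d := Nat.gcd (p ^ a) (Nat.card G) with hd
    have e2 : {x : G // x ^ (p ^ a) = 1} ≃ {x : G // x ^ d = 1} :=
      Equiv.subtypeEquivRight (fun x => by
        constructor
        · intro hx
          have h1 : orderOf x ∣ p ^ a := orderOf_dvd_of_pow_eq_one hx
          have h2 : orderOf x ∣ Nat.card G := orderOf_dvd_natCard x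
          exact orderOf_dvd_iff_pow_eq_one.mp (Nat.dvd_gcd h1 h2)
        · intro hx
          have h1 : orderOf x ∣ d := orderOf_dvd_of_pow_eq_one hx
          exact orderOf_dvd_iff_pow_eq_one.mp (h1.trans (Nat.gcd_dvd_left _ _)))
    rw [Nat.card_congr e2]
    exact Cfsg.Agent.Lib.Lead.FrobSol.frobenius_solutions (Nat.card G) G rfl d
      (Nat.gcd_dvd_right _ _)

end Cfsg.Agent.Lib.Lead.HallRoots
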