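import Mathlib
import Cfsg.Agent.Lib.Lead.HallRoots2

set_option autoImplicit false

namespace Cfsg.Agent.Lib.Lead.HallRoots

universe u

/-- The statement for central elements. -/
def CentralProp (k : ℕ) : Prop :=
  ∀ (C : Type u) [Group C] [Finite C] (c : C), c ∈ Subgroup.center C →
    Nat.gcd k (Nat.card C) ∣ Nat.card {x : C // x ^ k = c}

/-- The general statement follows from the central one applied to centralizers. -/
theorem hall_of_central {k : ℕ} (hk : CentralProp.{u} k) (G : Type u) [Group G] [Finite G] (y : G) :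
    Nat.gcd (Nat.card {z : G // IsConj y z} * k) (Nat.card G) ∣
      Nat.card {x : G // IsConj y (x ^ k)} := by
  rw [card_roots_class, card_roots_centralizer,
    ← Cfsg.Agent.Lib.Lead.card_conj_mul_card_centralizer y, Nat.gcd_mul_left]
  apply mul_dvd_mul_left
  apply hk
  rw [Subgroup.mem_center_iff]
  intro g
  apply Subtype.ext
  have := Subgroup.mem_centralizer_singleton_iff.mp g.2
  simpa using this

theorem dvd_of_split {G : Type u} [Group G] [Finite G] (n1 n2 : ℕ) (c : G)
    (hc : c ∈ Subgroup.center G)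
    (hH : ∀ y : G, Nat.gcd (Nat.card {z : G // IsConj y z} * n1) (Nat.card G) ∣
      Nat.card {x : G // IsConj y (x ^ n1)}) :
    Nat.gcd n1 (Nat.card G) ∣ Nat.card {x : G // x ^ (n1 * n2) = c} := by
  classical
  have : Fintype (ConjClasses G) := Fintype.ofFinite _
  rw [card_subtype_eq_sum_fiber (fun x : G => x ^ (n1 * n2) = c)
    (fun x => ConjClasses.mk (x ^ n1))]
  apply Finset.dvd_sum
  intro D _
  by_cases hne : Nonempty {x : G // x ^ (n1 * n2) = c ∧ ConjClasses.mk (x ^ n1) = D}
  · obtain ⟨⟨x0, hx0, hD⟩⟩ := hne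
    set y0 := x0 ^ n1 with hy0
    have hy0c : y0 ^ n2 = c := by rw [hy0, ← pow_mul]; exact hx0
    have e : {x : G // x ^ (n1 * n2) = c ∧ ConjClasses.mk (x ^ n1) = D} ≃
        {x : G // IsConj y0 (x ^ n1)} :=
      Equiv.subtypeEquivRight (fun x => by
        constructor
        · rintro ⟨_, h2⟩
          rw [← hD] at h2
          exact (ConjClasses.mk_eq_mk_iff_isConj.mp h2).symm
        · intro h
          refine ⟨?_, ?_⟩
          · obtain ⟨g, hg⟩ := isConj_iff.mp h
            rw [pow_mul, ← hg, conj_pow, hy0c, Subgroup.mem_center_iff.mp hc g, mul_assoc,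
              mul_inv_cancel, mul_one]
          · rw [← hD]
            exact ConjClasses.mk_eq_mk_iff_isConj.mpr h.symm)
    rw [Nat.card_congr e]
    exact (Nat.gcd_dvd_gcd_of_dvd_left _ (Dvd.intro_left _ rfl)).trans (hH y0)
  · rw [not_nonempty_iff] at hne
    rw [@Nat.card_of_isEmpty _ hne]
    exact dvd_zero _

theorem central_roots : ∀ (n : ℕ), CentralProp.{u} n := by
  intro n
  induction n using Nat.strong_induction_on with
  | _ n ih =>
    intro G _ _ c hc
    rcases Nat.eq_zero_or_pos n with h0 | hpos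
    · subst h0
      rw [Nat.gcd_zero_left]
      by_cases hc1 : c = 1
      · have e : {x : G // x ^ 0 = c} ≃ G :=
          Equiv.subtypeUnivEquiv (fun x => by rw [pow_zero, hc1])
        rw [Nat.card_congr e]
      · have hemp : IsEmpty {x : G // x ^ 0 = c} :=
          ⟨fun x => hc1 (by have := x.2; rw [pow_zero] at this; exact this.symm)⟩
        rw [@Nat.card_of_isEmpty _ hemp]
        exact dvd_zero _
    rcases Nat.lt_or_ge n 2 with hlt | hge
    · have h1 : n = 1 := by omega
      subst h1
      rw [Nat.gcd_one_left]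
      exact one_dvd _
    set p := n.minFac with hp
    have hpp : p.Prime := Nat.minFac_prime (by omega)
    obtain ⟨a, t, hpt, hn⟩ := Nat.exists_eq_pow_mul_and_not_dvd hpos.ne' p hpp.ne_one
    have ha : 1 ≤ a := by
      by_contra h
      have ha0 : a = 0 := by omega
      rw [ha0, pow_zero, one_mul] at hn
      exact hpt (hn ▸ Nat.minFac_dvd n)
    have htpos : 0 < t := by
      rcases Nat.eq_zero_or_pos t with h | h
      · rw [h, mul_zero] at hn; omega
      · exact h
    by_cases ht1 : t = 1
    · rw [ht1, mul_one] at hn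
      rw [hn]
      exact central_roots_prime_pow hpp ha c hc
    · have ht2 : 2 ≤ t := by omega
      have hpa2 : 2 ≤ p ^ a := by
        calc 2 ≤ p := hpp.two_le
          _ = p ^ 1 := (pow_one p).symm
          _ ≤ p ^ a := Nat.pow_le_pow_right hpp.pos ha
      have hlt1 : p ^ a < n := by rw [hn]; nlinarith
      have hlt2 : t < n := by rw [hn]; nlinarith
      have hcop : (p ^ a).Coprime t :=
        Nat.Coprime.pow_left a ((Nat.Prime.coprime_iff_not_dvd hpp).mpr hpt)
      have d1 : Nat.gcd (p ^ a) (Nat.card G) ∣ Nat.card {x : G // x ^ (p ^ a * t) = c} :=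
        dvd_of_split (p ^ a) t c hc (fun y => hall_of_central (ih _ hlt1) G y)
      have d2 : Nat.gcd t (Nat.card G) ∣ Nat.card {x : G // x ^ (p ^ a * t) = c} := by
        have := dvd_of_split t (p ^ a) c hc (fun y => hall_of_central (ih _ hlt2) G y)
        rwa [mul_comm t (p ^ a)] at this
      rw [hn, Nat.gcd_comm, Nat.Coprime.gcd_mul _ hcop, Nat.gcd_comm _ (p ^ a), Nat.gcd_comm _ t]
      refine Nat.Coprime.mul_dvd_of_dvd_of_dvd ?_ d1 d2
      exact Nat.Coprime.coprime_dvd_left (Nat.gcd_dvd_left _ _)
        (Nat.Coprime.coprime_dvd_right (Nat.gcd_dvd_left _ _) hcop)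

/-- **P. Hall's generalisation of Frobenius' theorem.** -/
theorem hall_roots (G : Type u) [Group G] [Finite G] (c : G) (n : ℕ) :
    Nat.gcd (Nat.card {y : G // IsConj c y} * n) (Nat.card G) ∣
      Nat.card {x : G // IsConj c (x ^ n)} :=
  hall_of_central (central_roots n) G c

end Cfsg.Agent.Lib.Lead.HallRoots
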