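import Mathlib
import Cfsg.Prelude.Def_Transfer
import Cfsg.Agent.Lib.Helper6.QuatRec
import Cfsg.Agent.Lib.Helper4.Hall

set_option autoImplicit false

namespace Cfsg.Agent.Lib.Lead.Hamiltonian

open Cfsg Cfsg.Agent.Lib.Helper4 Cfsg.Agent.Lib.Helper6

open scoped Pointwise

section q8
variable {X : Type*} [Group X]

/-- triangular numbers -/
def tri : ℕ → ℕ
  | 0 => 0
  | (n + 1) => tri n + (n + 1)

theorem two_mul_tri (n : ℕ) : 2 * tri n = n * (n + 1) := by
  induction n with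
  | zero => rfl
  | succ n ih => simp only [tri]; rw [mul_add, ih]; ring

theorem pow_mul_comm'' {x y c : X} (h : x * y = c * y * x) (hcx : Commute c x) (n : ℕ) :
    x ^ n * y = c ^ n * y * x ^ n := by
  induction n with
  | zero => simp
  | succ n ih =>
    have e1 : x ^ n * c = c * x ^ n := (hcx.pow_right n).eq.symm
    calc x ^ (n + 1) * y = x ^ n * (x * y) := by rw [pow_succ, mul_assoc]
      _ = x ^ n * (c * y * x) := by rw [h]
      _ = (x ^ n * c) * y * x := by group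
      _ = (c * x ^ n) * y * x := by rw [e1]
      _ = c * (x ^ n * y) * x := by group
      _ = c * (c ^ n * y * x ^ n) * x := by rw [ih]
      _ = c ^ (n + 1) * y * x ^ (n + 1) := by group

theorem mul_pow_class_two {x y c : X} (h : x * y = c * y * x) (hcx : Commute c x)
    (hcy : Commute c y) (n : ℕ) : (x * y) ^ n = c ^ tri n * y ^ n * x ^ n := by
  induction n with
  | zero => simp [tri]
  | succ n ih =>
    have h1 := pow_mul_comm'' h hcx n
    have e1 : x ^ n * c = c * x ^ n := (hcx.pow_right n).eq.symm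
    have e2 : y ^ n * c = c * y ^ n := (hcy.pow_right n).eq.symm
    have e3 : y ^ n * c ^ n = c ^ n * y ^ n := ((hcy.pow_right n).pow_left n).eq.symm
    calc (x * y) ^ (n + 1) = (x * y) ^ n * (x * y) := pow_succ _ _
      _ = c ^ tri n * y ^ n * x ^ n * (c * y * x) := by rw [ih, h]
      _ = c ^ tri n * y ^ n * (x ^ n * c) * y * x := by group
      _ = c ^ tri n * y ^ n * (c * x ^ n) * y * x := by rw [e1]
      _ = c ^ tri n * (y ^ n * c) * (x ^ n * y) * x := by group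
      _ = c ^ tri n * (c * y ^ n) * (c ^ n * y * x ^ n) * x := by rw [e2, h1]
      _ = c ^ tri n * c * (y ^ n * c ^ n) * y * x ^ n * x := by group
      _ = c ^ tri n * c * (c ^ n * y ^ n) * y * x ^ n * x := by rw [e3]
      _ = c ^ (tri n + (n + 1)) * y ^ (n + 1) * x ^ (n + 1) := by
          rw [pow_add, pow_add, pow_one, pow_succ, pow_succ]; group
      _ = c ^ tri (n + 1) * y ^ (n + 1) * x ^ (n + 1) := rfl

variable [Finite X]

theorem comm_mem_zpowers (hn : ∀ H : Subgroup X, H.Normal) (x y : X) :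
    x * y * x⁻¹ * y⁻¹ ∈ Subgroup.zpowers x ∧ x * y * x⁻¹ * y⁻¹ ∈ Subgroup.zpowers y := by
  constructor
  · have h1 : y * x⁻¹ * y⁻¹ ∈ Subgroup.zpowers x :=
      (hn (Subgroup.zpowers x)).conj_mem _ (Subgroup.inv_mem _ (Subgroup.mem_zpowers x)) y
    have : x * y * x⁻¹ * y⁻¹ = x * (y * x⁻¹ * y⁻¹) := by group
    rw [this]; exact Subgroup.mul_mem _ (Subgroup.mem_zpowers x) h1
  · have h1 : x * y * x⁻¹ ∈ Subgroup.zpowers y :=
      (hn _).conj_mem _ (Subgroup.mem_zpowers y) x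
    exact Subgroup.mul_mem _ h1 (Subgroup.inv_mem _ (Subgroup.mem_zpowers y))

/-- an element of order `p` in `zpowers x`, `orderOf x = p ^ a`, lies in `zpowers (x ^ p ^ (a-1))` -/
theorem mem_zpowers_pow_of_orderOf {p a : ℕ} (hp : p.Prime) (ha : 1 ≤ a) {x c : X}
    (hx : orderOf x = p ^ a) (hc : c ∈ Subgroup.zpowers x) (hcp : c ^ p = 1) :
    c ∈ Subgroup.zpowers (x ^ p ^ (a - 1)) := by
  obtain ⟨k, hk⟩ := (Submonoid.mem_powers_iff _ _).1 (mem_powers_iff_mem_zpowers.2 hc)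
  have h1 : x ^ (k * p) = 1 := by rw [pow_mul, hk]; exact hcp
  have h2 : p ^ a ∣ k * p := hx ▸ orderOf_dvd_of_pow_eq_one h1
  have h3 : p ^ (a - 1) ∣ k := by
    have : p ^ a = p ^ (a - 1) * p := by rw [← pow_succ]; congr 1; omega
    rw [this] at h2
    exact Nat.dvd_of_mul_dvd_mul_right hp.pos h2
  obtain ⟨k', rfl⟩ := h3
  rw [← hk, pow_mul]
  exact Subgroup.npow_mem_zpowers _ _

theorem orderOf_pow_pred {p a : ℕ} (hp : p.Prime) (ha : 1 ≤ a) {x : X} (hx : orderOf x = p ^ a) :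
    orderOf (x ^ p ^ (a - 1)) = p := by
  rw [orderOf_pow_of_dvd (pow_ne_zero _ hp.ne_zero) (hx ▸ pow_dvd_pow p (Nat.sub_le a 1)), hx,
    Nat.pow_div (Nat.sub_le a 1) hp.pos]
  have : a - (a - 1) = 1 := by omega
  rw [this, pow_one]

theorem zpowers_eq_of_mem_of_orderOf {p : ℕ} {c z : X} (hc : c ∈ Subgroup.zpowers z)
    (hoc : orderOf c = p) (hoz : orderOf z = p) : Subgroup.zpowers c = Subgroup.zpowers z :=
  Subgroup.eq_of_le_of_card_ge (Subgroup.zpowers_le.2 hc)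
    (by rw [Nat.card_zpowers, Nat.card_zpowers, hoc, hoz])

theorem q8_core (hn : ∀ H : Subgroup X, H.Normal) (x y : X) (hxy : x * y ≠ y * x)
    (hmin : ∀ x' y' : X, x' * y' ≠ y' * x' → orderOf x + orderOf y ≤ orderOf x' + orderOf y')
    (hle : orderOf y ≤ orderOf x) :
    x ^ 4 = 1 ∧ x ^ 2 ≠ 1 ∧ y ^ 2 = x ^ 2 ∧ y * x * y⁻¹ = x⁻¹ := by
  classical
  obtain ⟨hcX, hcY⟩ := comm_mem_zpowers hn x y
  set c := x * y * x⁻¹ * y⁻¹ with hc
  have h : x * y = c * y * x := by rw [hc]; group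
  have hc1 : c ≠ 1 := by
    intro h1
    apply hxy
    rw [h, h1, one_mul]
  have hcx : Commute c x := by
    obtain ⟨k, hk⟩ := Subgroup.mem_zpowers_iff.1 hcX
    rw [← hk]; exact (Commute.refl x).zpow_left k
  have hcy : Commute c y := by
    obtain ⟨k, hk⟩ := Subgroup.mem_zpowers_iff.1 hcY
    rw [← hk]; exact (Commute.refl y).zpow_left k
  have h' : y * x = c⁻¹ * x * y := by
    rw [mul_assoc, h]; group
  have hcx' : Commute c⁻¹ x := hcx.inv_left
  have hcy' : Commute c⁻¹ y := hcy.inv_left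
  have hx1 : x ≠ 1 := by rintro rfl; exact hxy (by simp)
  have hy1 : y ≠ 1 := by rintro rfl; exact hxy (by simp)
  have hA : ∀ r : ℕ, r.Prime → r ∣ orderOf x → c ^ r = 1 := by
    intro r hr hrx
    have hcomm : x ^ r * y = y * x ^ r := by
      by_contra hne
      have := hmin (x ^ r) y hne
      rw [orderOf_pow_of_dvd hr.ne_zero hrx] at this
      have hlt : orderOf x / r < orderOf x := Nat.div_lt_self (orderOf_pos x) hr.one_lt
      omega
    have h1 := pow_mul_comm'' h hcx r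
    rw [hcomm] at h1
    have h2 : c ^ r * (y * x ^ r) = 1 * (y * x ^ r) := by
      rw [one_mul, ← mul_assoc]; exact h1.symm
    exact mul_right_cancel h2
  have hB : ∀ r : ℕ, r.Prime → r ∣ orderOf y → c ^ r = 1 := by
    intro r hr hry
    have hcomm : y ^ r * x = x * y ^ r := by
      by_contra hne
      have := hmin x (y ^ r) (fun e => hne e.symm)
      rw [orderOf_pow_of_dvd hr.ne_zero hry] at this
      have hlt : orderOf y / r < orderOf y := Nat.div_lt_self (orderOf_pos y) hr.one_lt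
      omega
    have h1 := pow_mul_comm'' h' hcy' r
    rw [hcomm] at h1
    have h2 : c⁻¹ ^ r * (x * y ^ r) = 1 * (x * y ^ r) := by
      rw [one_mul, ← mul_assoc]; exact h1.symm
    have h3 : c⁻¹ ^ r = 1 := mul_right_cancel h2
    rw [inv_pow, inv_eq_one] at h3
    exact h3
  have hox1 : orderOf x ≠ 1 := fun e => hx1 (orderOf_eq_one_iff.1 e)
  have hoy1 : orderOf y ≠ 1 := fun e => hy1 (orderOf_eq_one_iff.1 e)
  have hpprime : (orderOf c).Prime := by
    have hr := Nat.minFac_prime hox1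
    have h1 : c ^ (orderOf x).minFac = 1 := hA _ hr (Nat.minFac_dvd _)
    have h2 : orderOf c ∣ (orderOf x).minFac := orderOf_dvd_of_pow_eq_one h1
    rcases (Nat.dvd_prime hr).1 h2 with e | e
    · exact absurd (orderOf_eq_one_iff.1 e) hc1
    · rw [e]; exact hr
  obtain ⟨p, hp⟩ : ∃ p, orderOf c = p := ⟨_, rfl⟩
  rw [hp] at hpprime
  have hcp : c ^ p = 1 := hp ▸ pow_orderOf_eq_one c
  have hpx : ∀ r : ℕ, r.Prime → r ∣ orderOf x → r = p := by
    intro r hr hrx
    have h2 : p ∣ r := hp ▸ orderOf_dvd_of_pow_eq_one (hA r hr hrx)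
    exact ((Nat.prime_dvd_prime_iff_eq hpprime hr).1 h2).symm
  have hpy : ∀ r : ℕ, r.Prime → r ∣ orderOf y → r = p := by
    intro r hr hry
    have h2 : p ∣ r := hp ▸ orderOf_dvd_of_pow_eq_one (hB r hr hry)
    exact ((Nat.prime_dvd_prime_iff_eq hpprime hr).1 h2).symm
  obtain ⟨a, ha⟩ : ∃ a, orderOf x = p ^ a :=
    ⟨_, Nat.eq_prime_pow_of_unique_prime_dvd (orderOf_pos x).ne' (fun hd hdx => hpx _ hd hdx)⟩
  obtain ⟨b, hb⟩ : ∃ b, orderOf y = p ^ b :=
    ⟨_, Nat.eq_prime_pow_of_unique_prime_dvd (orderOf_pos y).ne' (fun hd hdy => hpy _ hd hdy)⟩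
  have ha1 : 1 ≤ a := by
    rcases Nat.eq_zero_or_pos a with rfl | h0
    · rw [pow_zero] at ha; exact absurd ha hox1
    · exact h0
  have hb1 : 1 ≤ b := by
    rcases Nat.eq_zero_or_pos b with rfl | h0
    · rw [pow_zero] at hb; exact absurd hb hoy1
    · exact h0
  have hba : b ≤ a := by
    rw [ha, hb] at hle
    exact (Nat.pow_le_pow_iff_right hpprime.one_lt).1 hle
  have hoxh : orderOf (x ^ p ^ (a - 1)) = p := orderOf_pow_pred hpprime ha1 ha
  have hoyh : orderOf (y ^ p ^ (b - 1)) = p := orderOf_pow_pred hpprime hb1 hb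
  have hcxh : c ∈ Subgroup.zpowers (x ^ p ^ (a - 1)) :=
    mem_zpowers_pow_of_orderOf hpprime ha1 ha hcX hcp
  have hcyh : c ∈ Subgroup.zpowers (y ^ p ^ (b - 1)) :=
    mem_zpowers_pow_of_orderOf hpprime hb1 hb hcY hcp
  have hzx : Subgroup.zpowers c = Subgroup.zpowers (x ^ p ^ (a - 1)) :=
    zpowers_eq_of_mem_of_orderOf hcxh hp hoxh
  have hzy : Subgroup.zpowers c = Subgroup.zpowers (y ^ p ^ (b - 1)) :=
    zpowers_eq_of_mem_of_orderOf hcyh hp hoyh
  -- b ≥ 2
  have hb2 : 2 ≤ b := by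
    by_contra hlt
    have hb1' : b = 1 := by omega
    rw [hb1'] at hzy
    simp only [Nat.sub_self, pow_zero, pow_one] at hzy
    have hy : y ∈ Subgroup.zpowers c := by rw [hzy]; exact Subgroup.mem_zpowers y
    obtain ⟨k, hk⟩ := Subgroup.mem_zpowers_iff.1 hy
    apply hxy
    rw [← hk]
    exact ((hcx.zpow_left k).eq).symm
  -- the element j
  have hyinv : (y ^ p ^ (b - 1))⁻¹ ∈ Subgroup.zpowers (x ^ p ^ (a - 1)) := by
    rw [← hzx, hzy]; exact Subgroup.inv_mem _ (Subgroup.mem_zpowers _)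
  obtain ⟨j, hj⟩ := (Submonoid.mem_powers_iff _ _).1 (mem_powers_iff_mem_zpowers.2 hyinv)
  have hun : (x ^ (p ^ (a - b) * j)) ^ p ^ (b - 1) = (y ^ p ^ (b - 1))⁻¹ := by
    rw [← hj, ← pow_mul, ← pow_mul]
    congr 1
    have : p ^ (a - b) * p ^ (b - 1) = p ^ (a - 1) := by rw [← pow_add]; congr 1; omega
    calc p ^ (a - b) * j * p ^ (b - 1) = (p ^ (a - b) * p ^ (b - 1)) * j := by ring
      _ = p ^ (a - 1) * j := by rw [this]
  set m := p ^ (a - b) * j with hm
  set n := p ^ (b - 1) with hn'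
  have huy : x ^ m * y = c ^ m * y * x ^ m := pow_mul_comm'' h hcx m
  have hdu : Commute (c ^ m) (x ^ m) := hcx.pow_pow m m
  have hdy : Commute (c ^ m) y := hcy.pow_left m
  have hpow : (x ^ m * y) ^ n = (c ^ m) ^ tri n := by
    rw [mul_pow_class_two huy hdu hdy n, hun, mul_assoc, mul_inv_cancel, mul_one]
  have hnc : x * (x ^ m * y) ≠ (x ^ m * y) * x := by
    intro e
    apply hxy
    have e1 : x * x ^ m = x ^ m * x := ((Commute.refl x).pow_right m).eq
    have e2 : x ^ m * (x * y) = x ^ m * (y * x) := by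
      rw [← mul_assoc, ← e1, mul_assoc, e, mul_assoc]
    exact mul_left_cancel e2
  have hord := hmin x (x ^ m * y) hnc
  have hne1 : (c ^ m) ^ tri n ≠ 1 := by
    intro e
    rw [e] at hpow
    have h1 : orderOf (x ^ m * y) ∣ n := orderOf_dvd_of_pow_eq_one hpow
    have h2 : orderOf (x ^ m * y) ≤ n := Nat.le_of_dvd (pow_pos hpprime.pos _) h1
    have h3 : n < p ^ b := by
      rw [hn']; exact Nat.pow_lt_pow_right hpprime.one_lt (by omega)
    rw [hb] at hord
    omega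
  have hnd : ¬ p ∣ m * tri n := by
    intro hd
    apply hne1
    rw [← pow_mul]
    obtain ⟨t, ht⟩ := hd
    rw [ht, pow_mul, hcp, one_pow]
  have hndm : ¬ p ∣ m := fun hd => hnd (dvd_mul_of_dvd_left hd _)
  have hndt : ¬ p ∣ tri n := fun hd => hnd (dvd_mul_of_dvd_right hd _)
  have hab : a = b := by
    by_contra hne
    apply hndm
    rw [hm]
    exact dvd_mul_of_dvd_left (dvd_pow_self p (by omega)) _
  have hpn : p ∣ n := by rw [hn']; exact dvd_pow_self p (by omega)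
  have hp2 : p = 2 := by
    have h1 : p ∣ 2 * tri n := by
      rw [two_mul_tri]; exact dvd_mul_of_dvd_left hpn _
    rcases (Nat.Prime.dvd_mul hpprime).1 h1 with h2 | h2
    · exact (Nat.prime_dvd_prime_iff_eq hpprime Nat.prime_two).1 h2
    · exact absurd h2 hndt
  subst hp2
  have hb2' : b = 2 := by
    by_contra hne
    have hb3 : 3 ≤ b := by omega
    apply hndt
    have h4 : 4 ∣ n := by
      rw [hn']
      have : (4 : ℕ) = 2 ^ 2 := by norm_num
      rw [this]; exact pow_dvd_pow 2 (by omega)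
    have h1 : 4 ∣ 2 * tri n := by rw [two_mul_tri]; exact dvd_mul_of_dvd_left h4 _
    omega
  subst hb2'
  subst hab
  -- now orders are 4
  have hx4 : x ^ 4 = 1 := by
    have : orderOf x = 4 := by rw [ha]; norm_num
    rw [← this]; exact pow_orderOf_eq_one x
  have hy4 : y ^ 4 = 1 := by
    have : orderOf y = 4 := by rw [hb]; norm_num
    rw [← this]; exact pow_orderOf_eq_one y
  have hsq : ∀ z : X, z ^ 4 = 1 → c ∈ Subgroup.zpowers (z ^ 2) → c = z ^ 2 := by
    intro z hz4 hcz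
    obtain ⟨k, hk⟩ := (Submonoid.mem_powers_iff _ _).1 (mem_powers_iff_mem_zpowers.2 hcz)
    rcases Nat.even_or_odd' k with ⟨t, rfl | rfl⟩
    · exfalso; apply hc1
      rw [← hk, ← pow_mul]
      have : 2 * (2 * t) = 4 * t := by ring
      rw [this, pow_mul, hz4, one_pow]
    · rw [← hk, ← pow_mul]
      have : 2 * (2 * t + 1) = 4 * t + 2 := by ring
      rw [this, pow_add, pow_mul, hz4, one_pow, one_mul]
  have hn2 : n = 2 := by rw [hn']; norm_num
  have hcx2 : c = x ^ 2 := hsq x hx4 (by simpa [hn2] using hcxh)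
  have hcy2 : c = y ^ 2 := hsq y hy4 (by simpa [hn2] using hcyh)
  have hc2 : c * c = 1 := by
    rw [← pow_two]; exact hcp
  refine ⟨hx4, by rw [← hcx2]; exact hc1, by rw [← hcx2, ← hcy2], ?_⟩
  have e : x * y * x = y := by
    calc x * y * x = c * y * x * x := by rw [h]
      _ = c * y * (x ^ 2) := by rw [pow_two, mul_assoc (c * y)]
      _ = c * y * c := by rw [← hcx2]
      _ = c * (y * c) := mul_assoc c y c
      _ = c * (c * y) := by rw [hcy.eq]
      _ = (c * c) * y := (mul_assoc c c y).symm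
      _ = y := by rw [hc2, one_mul]
  calc y * x * y⁻¹ = x⁻¹ * (x * y * x) * y⁻¹ := by group
    _ = x⁻¹ * y * y⁻¹ := by rw [e]
    _ = x⁻¹ := by group

theorem exists_q8 (hn : ∀ H : Subgroup X, H.Normal) (hnc : ∃ x y : X, x * y ≠ y * x) :
    ∃ x y : X, x ^ 4 = 1 ∧ x ^ 2 ≠ 1 ∧ y ^ 2 = x ^ 2 ∧ y * x * y⁻¹ = x⁻¹ := by
  classical
  have hex : ∃ s : ℕ, ∃ x y : X, x * y ≠ y * x ∧ orderOf x + orderOf y = s := by
    obtain ⟨x, y, hxy⟩ := hnc
    exact ⟨_, x, y, hxy, rfl⟩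
  obtain ⟨x, y, hxy, hs⟩ := Nat.find_spec hex
  have hmin : ∀ x' y' : X, x' * y' ≠ y' * x' →
      orderOf x + orderOf y ≤ orderOf x' + orderOf y' := by
    intro x' y' h'
    rw [hs]
    exact Nat.find_min' hex ⟨x', y', h', rfl⟩
  rcases le_total (orderOf y) (orderOf x) with hle | hle
  · exact ⟨x, y, q8_core hn x y hxy hmin hle⟩
  · have hmin' : ∀ x' y' : X, x' * y' ≠ y' * x' →
        orderOf y + orderOf x ≤ orderOf x' + orderOf y' := by
      intro x' y' h'; rw [add_comm]; exact hmin x' y' h'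
    exact ⟨y, x, q8_core hn y x (fun e => hxy e.symm) hmin' hle⟩

theorem conj_eq_or_inv (hn : ∀ H : Subgroup X, H.Normal) {z : X} (hz4 : z ^ 4 = 1) (g : X) :
    g * z * g⁻¹ = z ∨ g * z * g⁻¹ = z⁻¹ := by
  have hmem : g * z * g⁻¹ ∈ Subgroup.zpowers z := (hn _).conj_mem _ (Subgroup.mem_zpowers z) g
  obtain ⟨k, hk⟩ := (Submonoid.mem_powers_iff _ _).1 (mem_powers_iff_mem_zpowers.2 hmem)
  have hk' : g * z * g⁻¹ = z ^ (k % 4) := by
    rw [← hk]
    conv_lhs => rw [← Nat.div_add_mod k 4, pow_add, pow_mul, hz4, one_pow, one_mul]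
  have hlt : k % 4 < 4 := Nat.mod_lt _ (by norm_num)
  generalize k % 4 = r at hk' hlt
  interval_cases r
  · left
    rw [pow_zero, conj_eq_one_iff] at hk'
    rw [hk']; group
  · left; rw [hk', pow_one]
  · left
    have h2 : (g * z * g⁻¹) ^ 2 = 1 := by
      rw [hk', ← pow_mul]; exact hz4
    rw [conj_pow, conj_eq_one_iff] at h2
    rw [h2, conj_eq_one_iff] at hk'
    rw [hk']; group
  · right
    rw [hk']
    exact eq_inv_of_mul_eq_one_left (by rw [← pow_succ]; exact hz4)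

omit [Finite X] in
theorem commute_of_conj_eq {q g x : X} (h : q * x * q⁻¹ = g * x * g⁻¹) :
    Commute (q⁻¹ * g) x := by
  show q⁻¹ * g * x = x * (q⁻¹ * g)
  calc q⁻¹ * g * x = q⁻¹ * (g * x * g⁻¹) * g := by group
    _ = q⁻¹ * (q * x * q⁻¹) * g := by rw [h]
    _ = x * (q⁻¹ * g) := by group

omit [Finite X] in
theorem q8_rel {x y : X} (hx4 : x ^ 4 = 1) (hy2 : y ^ 2 = x ^ 2) (hconj : y * x * y⁻¹ = x⁻¹) :
    y ^ 4 = 1 ∧ x * y * x⁻¹ = y⁻¹ := by
  constructor
  · calc y ^ 4 = (y ^ 2) ^ 2 := pow_mul y 2 2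
      _ = (x ^ 2) ^ 2 := by rw [hy2]
      _ = x ^ 4 := (pow_mul x 2 2).symm
      _ = 1 := hx4
  · have h1 : y * x⁻¹ * y⁻¹ = x := by rw [← conj_inv, hconj, inv_inv]
    calc x * y * x⁻¹ = (y * x⁻¹ * y⁻¹) * y * x⁻¹ := by rw [h1]
      _ = y * (x ^ 2)⁻¹ := by group
      _ = y * (y ^ 2)⁻¹ := by rw [hy2]
      _ = y⁻¹ := by group

omit [Finite X] in
theorem q8_ncomm {x y : X} (hx2 : x ^ 2 ≠ 1) (hconj : y * x * y⁻¹ = x⁻¹) : x * y ≠ y * x := by
  intro h
  apply hx2
  have h1 : y * x * y⁻¹ = x := by rw [← h]; group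
  rw [h1] at hconj
  calc x ^ 2 = x * x := pow_two x
    _ = x⁻¹ * x := by rw [← hconj]
    _ = 1 := inv_mul_cancel x

theorem exists_q_commute (hn : ∀ H : Subgroup X, H.Normal) {x y : X} (hx4 : x ^ 4 = 1)
    (hy2 : y ^ 2 = x ^ 2) (hconj : y * x * y⁻¹ = x⁻¹) (g : X) :
    ∃ q ∈ Subgroup.zpowers x ⊔ Subgroup.zpowers y,
      Commute (q⁻¹ * g) x ∧ Commute (q⁻¹ * g) y := by
  obtain ⟨hy4, hconj'⟩ := q8_rel hx4 hy2 hconj
  have hxQ : x ∈ Subgroup.zpowers x ⊔ Subgroup.zpowers y :=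
    (le_sup_left : Subgroup.zpowers x ≤ _) (Subgroup.mem_zpowers x)
  have hyQ : y ∈ Subgroup.zpowers x ⊔ Subgroup.zpowers y :=
    (le_sup_right : Subgroup.zpowers y ≤ _) (Subgroup.mem_zpowers y)
  rcases conj_eq_or_inv hn hx4 g with h1 | h1 <;> rcases conj_eq_or_inv hn hy4 g with h2 | h2
  · refine ⟨1, Subgroup.one_mem _, commute_of_conj_eq ?_, commute_of_conj_eq ?_⟩
    · rw [h1]; group
    · rw [h2]; group
  · refine ⟨x, hxQ, commute_of_conj_eq ?_, commute_of_conj_eq ?_⟩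
    · rw [h1]; group
    · rw [h2]; exact hconj'
  · refine ⟨y, hyQ, commute_of_conj_eq ?_, commute_of_conj_eq ?_⟩
    · rw [h1]; exact hconj
    · rw [h2]; group
  · refine ⟨y * x, Subgroup.mul_mem _ hyQ hxQ, commute_of_conj_eq ?_, commute_of_conj_eq ?_⟩
    · rw [h1]
      calc y * x * x * (y * x)⁻¹ = y * x * y⁻¹ := by group
        _ = x⁻¹ := hconj
    · rw [h2]
      calc y * x * y * (y * x)⁻¹ = y * (x * y * x⁻¹) * y⁻¹ := by group
        _ = y * y⁻¹ * y⁻¹ := by rw [hconj']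
        _ = y⁻¹ := by group

theorem sq_of_centralizing (hn : ∀ H : Subgroup X, H.Normal) {x y g : X} (hx4 : x ^ 4 = 1)
    (hx2 : x ^ 2 ≠ 1) (hconj : y * x * y⁻¹ = x⁻¹) (hgx : Commute g x) (hgy : Commute g y)
    (hg4 : g ^ 4 = 1) : g ^ 2 = 1 := by
  have hw4 : (g * x) ^ 4 = 1 := by rw [hgx.mul_pow, hg4, hx4, one_mul]
  have hyw : y * (g * x) * y⁻¹ = g * x⁻¹ := by
    calc y * (g * x) * y⁻¹ = (y * g) * x * y⁻¹ := by group
      _ = (g * y) * x * y⁻¹ := by rw [hgy.eq]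
      _ = g * (y * x * y⁻¹) := by group
      _ = g * x⁻¹ := by rw [hconj]
  rcases conj_eq_or_inv hn hw4 y with h | h
  · exfalso; apply hx2
    rw [hyw] at h
    have h3 : x⁻¹ = x := mul_left_cancel h
    calc x ^ 2 = x * x := pow_two x
      _ = x⁻¹ * x := by rw [h3]
      _ = 1 := inv_mul_cancel x
  · rw [hyw, mul_inv_rev] at h
    have h2 : x⁻¹ * g⁻¹ = g⁻¹ * x⁻¹ := (hgx.inv_inv).eq.symm
    rw [h2] at h
    have h3 : g = g⁻¹ := mul_right_cancel h
    calc g ^ 2 = g * g := pow_two g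
      _ = g⁻¹ * g := by rw [← h3]
      _ = 1 := inv_mul_cancel g

omit [Finite X] in
theorem eq_one_of_sq_of_odd_pow {g : X} {t : ℕ} (h2 : g ^ 2 = 1) (hm : g ^ (2 * t + 1) = 1) :
    g = 1 := by
  rw [pow_succ, pow_mul, h2, one_pow, one_mul] at hm
  exact hm

/-- the subgroup of elements of a commutative subgroup killed by `n` -/
def torsionIn (C : Subgroup X) (hC : ∀ a ∈ C, ∀ b ∈ C, a * b = b * a) (n : ℕ) : Subgroup X where
  carrier := {g | g ∈ C ∧ g ^ n = 1}
  one_mem' := ⟨Subgroup.one_mem _, one_pow _⟩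
  mul_mem' := by
    rintro a b ⟨ha, ha2⟩ ⟨hb, hb2⟩
    refine ⟨Subgroup.mul_mem _ ha hb, ?_⟩
    have hab : Commute a b := hC a ha b hb
    rw [hab.mul_pow, ha2, hb2, one_mul]
  inv_mem' := by
    rintro a ⟨ha, ha2⟩
    exact ⟨Subgroup.inv_mem _ ha, by rw [inv_pow, ha2, inv_one]⟩

omit [Finite X] in
theorem mem_torsionIn {C : Subgroup X} {hC : ∀ a ∈ C, ∀ b ∈ C, a * b = b * a} {n : ℕ} {g : X} :
    g ∈ torsionIn C hC n ↔ g ∈ C ∧ g ^ n = 1 := Iff.rfl

end q8

section main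
variable {G : Type*} [Group G] [Finite G]

theorem hamiltonian_structure (hna : ¬ IsMulCommutative G)
    (hn : ∀ H : Subgroup G, H.Normal) :
    ∃ Q E A : Subgroup G, Nonempty (Q ≃* QuaternionGroup 2) ∧ Cfsg.IsElementaryAbelian 2 E ∧
      IsMulCommutative A ∧ Odd (Nat.card A) ∧ E ⊓ A = ⊥ ∧ Q ⊓ (E ⊔ A) = ⊥ ∧
      Q ⊔ (E ⊔ A) = ⊤ := by
  classical
  have hnc : ∃ x y : G, x * y ≠ y * x := by
    by_contra h
    push Not at h
    exact hna ⟨⟨h⟩⟩
  obtain ⟨x, y, hx4, hx2, hy2, hconj⟩ := exists_q8 hn hnc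
  obtain ⟨hy4, hconj'⟩ := q8_rel hx4 hy2 hconj
  have hxy : x * y ≠ y * x := q8_ncomm hx2 hconj
  have : Fact (Nat.Prime 2) := ⟨Nat.prime_two⟩
  have hox : orderOf x = 4 := by
    have h := orderOf_eq_prime_pow (p := 2) (n := 1) (x := x) (by simpa using hx2)
      (by simpa using hx4)
    calc orderOf x = 2 ^ (1 + 1) := h
      _ = 4 := by norm_num
  have hoy : orderOf y = 4 := by
    have h := orderOf_eq_prime_pow (p := 2) (n := 1) (x := y) (by simpa [hy2] using hx2)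
      (by simpa using hy4)
    calc orderOf y = 2 ^ (1 + 1) := h
      _ = 4 := by norm_num
  have hynx : y ∉ Subgroup.zpowers x := by
    intro hy
    obtain ⟨k, hk⟩ := Subgroup.mem_zpowers_iff.1 hy
    apply hxy
    rw [← hk]
    exact ((Commute.refl x).zpow_right k).eq
  obtain ⟨c, hc⟩ : ∃ c, c = x ^ 2 := ⟨_, rfl⟩
  have hcy2 : c = y ^ 2 := by rw [hc, hy2]
  have hc1 : c ≠ 1 := by rw [hc]; exact hx2
  have hcc : c * c = 1 := by rw [hc, ← pow_add]; exact hx4
  have hcx : Commute c x := by rw [hc]; exact (Commute.refl x).pow_left 2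
  have hcy : Commute c y := by rw [hcy2]; exact (Commute.refl y).pow_left 2
  have hcpow : ∀ n : ℕ, c ^ n = 1 ∨ c ^ n = c := by
    intro n
    rcases Nat.even_or_odd' n with ⟨s, rfl | rfl⟩
    · left; rw [pow_mul, pow_two, hcc, one_pow]
    · right; rw [pow_succ, pow_mul, pow_two, hcc, one_pow, one_mul]
  -- Q
  obtain ⟨Q, hQ⟩ : ∃ Q, Q = Subgroup.zpowers x ⊔ Subgroup.zpowers y := ⟨_, rfl⟩
  have hxQ : x ∈ Q := by
    rw [hQ]; exact (le_sup_left : Subgroup.zpowers x ≤ _) (Subgroup.mem_zpowers x)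
  have hyQ : y ∈ Q := by
    rw [hQ]; exact (le_sup_right : Subgroup.zpowers y ≤ _) (Subgroup.mem_zpowers y)
  have hcQ : c ∈ Q := by rw [hc]; exact Subgroup.pow_mem _ hxQ 2
  have hcardQ : Nat.card Q = 8 := by
    have : (Subgroup.zpowers y).Normal := hn _
    have h1 := card_sup_mul_inf_normal (Subgroup.zpowers y) (Subgroup.zpowers x)
    rw [Nat.card_zpowers, Nat.card_zpowers, hox, hoy, ← hQ] at h1
    have hd : Nat.card ↥(Subgroup.zpowers x ⊓ Subgroup.zpowers y) ∣ 4 := by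
      have := Subgroup.card_dvd_of_le
        (inf_le_left : Subgroup.zpowers x ⊓ Subgroup.zpowers y ≤ Subgroup.zpowers x)
      rwa [Nat.card_zpowers, hox] at this
    have hne4 : Nat.card ↥(Subgroup.zpowers x ⊓ Subgroup.zpowers y) ≠ 4 := by
      intro h4
      have h5 : Subgroup.zpowers x ⊓ Subgroup.zpowers y = Subgroup.zpowers y :=
        Subgroup.eq_of_le_of_card_ge inf_le_right (by rw [h4, Nat.card_zpowers, hoy])
      apply hynx
      have h6 : y ∈ Subgroup.zpowers x ⊓ Subgroup.zpowers y := by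
        rw [h5]; exact Subgroup.mem_zpowers y
      exact h6.1
    have hne1 : Nat.card ↥(Subgroup.zpowers x ⊓ Subgroup.zpowers y) ≠ 1 := by
      intro h1'
      rw [Subgroup.card_eq_one] at h1'
      have h5 : c ∈ Subgroup.zpowers x ⊓ Subgroup.zpowers y :=
        ⟨by rw [hc]; exact Subgroup.pow_mem _ (Subgroup.mem_zpowers x) 2,
          by rw [hcy2]; exact Subgroup.pow_mem _ (Subgroup.mem_zpowers y) 2⟩
      rw [h1'] at h5
      exact hc1 (Subgroup.mem_bot.1 h5)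
    have hle : Nat.card ↥(Subgroup.zpowers x ⊓ Subgroup.zpowers y) ≤ 4 :=
      Nat.le_of_dvd (by norm_num) hd
    obtain ⟨i, hi⟩ : ∃ i, Nat.card ↥(Subgroup.zpowers x ⊓ Subgroup.zpowers y) = i := ⟨_, rfl⟩
    rw [hi] at h1 hd hne4 hne1 hle
    interval_cases i <;> omega
  have hQiso : Nonempty (Q ≃* QuaternionGroup 2) := by
    refine nonempty_mulEquiv_quaternion (G := ↥Q) 2 ⟨x, hxQ⟩ ⟨y, hyQ⟩ ?_ ?_ ?_ ?_ ?_
    · rw [Subgroup.orderOf_mk]; exact hox
    · exact Subtype.ext (by simpa using hy2)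
    · exact Subtype.ext (by simpa using hconj)
    · intro hmem
      obtain ⟨k, hk⟩ := Subgroup.mem_zpowers_iff.1 hmem
      apply hynx
      refine Subgroup.mem_zpowers_iff.2 ⟨k, ?_⟩
      have := congrArg Subtype.val hk
      simpa using this
    · exact hcardQ
  -- the centralizer
  obtain ⟨C, hCdef⟩ : ∃ C, C = Subgroup.centralizer ({x, y} : Set G) := ⟨_, rfl⟩
  have hCmem : ∀ g, g ∈ C ↔ Commute g x ∧ Commute g y := by
    intro g
    rw [hCdef, Subgroup.mem_centralizer_iff]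
    constructor
    · intro h
      exact ⟨(h x (by simp)).symm, (h y (by simp)).symm⟩
    · rintro ⟨h1, h2⟩ z hz
      rcases hz with hz | hz
      · rw [hz]; exact h1.eq.symm
      · rw [Set.mem_singleton_iff.1 hz]; exact h2.eq.symm
  have hB2 : ∀ g ∈ C, g ^ 4 = 1 → g ^ 2 = 1 := fun g hg h4 =>
    sq_of_centralizing hn hx4 hx2 hconj ((hCmem g).1 hg).1 ((hCmem g).1 hg).2 h4
  have hCc : ∀ a ∈ C, ∀ b ∈ C, a * b = b * a := by
    by_contra hcon
    push Not at hcon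
    obtain ⟨a, ha, b, hb, hab⟩ := hcon
    have hnC : ∀ H : Subgroup ↥C, H.Normal := by
      intro H
      have h1 := (hn (H.map C.subtype)).comap C.subtype
      rwa [Subgroup.comap_map_eq_self_of_injective (Subgroup.subtype_injective C)] at h1
    obtain ⟨u, v, hu4, hu2, -, -⟩ :=
      exists_q8 hnC ⟨⟨a, ha⟩, ⟨b, hb⟩, fun e => hab (congrArg Subtype.val e)⟩
    apply hu2
    have h4 : (u : G) ^ 4 = 1 := by
      have := congrArg Subtype.val hu4
      simpa using this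
    exact Subtype.ext (by simpa using hB2 u u.2 h4)
  obtain ⟨k, m, hmodd, hkm⟩ := Nat.exists_eq_two_pow_mul_odd (Nat.card_pos (α := G)).ne'
  obtain ⟨t, ht⟩ := hmodd
  have hB2' : ∀ k : ℕ, ∀ g ∈ C, g ^ (2 ^ k) = 1 → g ^ 2 = 1 := by
    intro k
    induction k with
    | zero => intro g _ h; rw [pow_zero, pow_one] at h; rw [h, one_pow]
    | succ k ih =>
      intro g hg h
      rcases k with _ | k
      · simpa using h
      · have h1 : (g ^ 2 ^ k) ^ 4 = 1 := by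
          rw [← pow_mul]
          have : 2 ^ k * 4 = 2 ^ (k + 1 + 1) := by ring
          rw [this]; exact h
        have h2 := hB2 _ (Subgroup.pow_mem _ hg _) h1
        rw [← pow_mul] at h2
        have : 2 ^ k * 2 = 2 ^ (k + 1) := by ring
        rw [this] at h2
        exact ih g hg h2
  have h2m : ∀ g ∈ C, g ^ (2 * m) = 1 := by
    intro g hg
    have h1 : (g ^ m) ^ (2 ^ k) = 1 := by
      rw [← pow_mul, mul_comm, ← hkm]; exact pow_card_eq_one'
    have h2 := hB2' k _ (Subgroup.pow_mem _ hg _) h1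
    rw [← pow_mul, mul_comm] at h2
    exact h2
  obtain ⟨T, hTdef⟩ : ∃ T, T = torsionIn C hCc 2 := ⟨_, rfl⟩
  obtain ⟨A, hAdef⟩ : ∃ A, A = torsionIn C hCc m := ⟨_, rfl⟩
  have hTmem : ∀ g, g ∈ T ↔ g ∈ C ∧ g ^ 2 = 1 := fun g => by rw [hTdef]; exact mem_torsionIn
  have hAmem : ∀ g, g ∈ A ↔ g ∈ C ∧ g ^ m = 1 := fun g => by rw [hAdef]; exact mem_torsionIn
  have hTC : T ≤ C := fun g hg => ((hTmem g).1 hg).1
  have hAC : A ≤ C := fun g hg => ((hAmem g).1 hg).1
  have hdecomp : ∀ g ∈ C, ∃ a ∈ T, ∃ b ∈ A, g = a * b := by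
    intro g hg
    refine ⟨g ^ m, (hTmem _).2 ⟨Subgroup.pow_mem _ hg _, ?_⟩, g ^ (m + 1),
      (hAmem _).2 ⟨Subgroup.pow_mem _ hg _, ?_⟩, ?_⟩
    · rw [← pow_mul, mul_comm]; exact h2m g hg
    · rw [← pow_mul]
      have : (m + 1) * m = (2 * m) * (t + 1) := by rw [ht]; ring
      rw [this, pow_mul, h2m g hg, one_pow]
    · rw [← pow_add]
      have : m + (m + 1) = 2 * m + 1 := by ring
      rw [this, pow_succ, h2m g hg, one_mul]
  have hAodd : Odd (Nat.card A) := by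
    rw [← Nat.not_even_iff_odd, even_iff_two_dvd]
    intro hd
    obtain ⟨a, ha⟩ := exists_prime_orderOf_dvd_card' (G := ↥A) 2 hd
    have ha2 : (a : G) ^ 2 = 1 := by
      have h5 : a ^ 2 = 1 := by rw [← ha]; exact pow_orderOf_eq_one a
      have := congrArg Subtype.val h5
      simpa using this
    have ham : (a : G) ^ (2 * t + 1) = 1 := by rw [← ht]; exact ((hAmem a).1 a.2).2
    have h1 : (a : G) = 1 := eq_one_of_sq_of_odd_pow ha2 ham
    have h6 : a = 1 := Subtype.ext h1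
    rw [h6, orderOf_one] at ha
    norm_num at ha
  have hcT : c ∈ T := (hTmem c).2 ⟨(hCmem c).2 ⟨hcx, hcy⟩, by rw [pow_two]; exact hcc⟩
  obtain ⟨E, -, hEmax⟩ := Finite.exists_le_maximal
    (p := fun E : Subgroup G => E ≤ T ∧ c ∉ E) (a := ⊥)
    ⟨bot_le, fun h => hc1 (Subgroup.mem_bot.1 h)⟩
  obtain ⟨⟨hET, hcE⟩, hEmax'⟩ := hEmax
  have hEC : E ≤ C := le_trans hET hTC
  have hTle : T ≤ E ⊔ Subgroup.zpowers c := by
    intro t' ht'
    by_cases htE : t' ∈ E
    · exact (le_sup_left : E ≤ _) htE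
    · have hlt : E ⊔ Subgroup.zpowers t' ≤ T :=
        sup_le hET (by rw [Subgroup.zpowers_le]; exact ht')
      have hcin : c ∈ E ⊔ Subgroup.zpowers t' := by
        by_contra hcn
        have h5 := hEmax' ⟨hlt, hcn⟩ le_sup_left
        exact htE (h5 ((le_sup_right : Subgroup.zpowers t' ≤ _) (Subgroup.mem_zpowers t')))
      have : (Subgroup.zpowers t').Normal := hn _
      have hcin' : c ∈ (E : Set G) * (Subgroup.zpowers t' : Set G) := by
        rw [← Subgroup.mul_normal]; exact hcin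
      obtain ⟨e, he, z, hz, hez⟩ := Set.mem_mul.1 hcin'
      obtain ⟨j, hj⟩ := (Submonoid.mem_powers_iff _ _).1 (mem_powers_iff_mem_zpowers.2 hz)
      have ht2 : t' ^ 2 = 1 := ((hTmem t').1 ht').2
      rcases Nat.even_or_odd' j with ⟨i, rfl | rfl⟩
      · exfalso
        rw [pow_mul, ht2, one_pow] at hj
        rw [← hj, mul_one] at hez
        exact hcE (hez ▸ he)
      · rw [pow_succ, pow_mul, ht2, one_pow, one_mul] at hj
        have h5 : t' = e⁻¹ * c := by rw [← hez, ← hj]; group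
        rw [h5]
        exact Subgroup.mul_mem _ ((le_sup_left : E ≤ _) (Subgroup.inv_mem _ he))
          ((le_sup_right : Subgroup.zpowers c ≤ _) (Subgroup.mem_zpowers c))
  -- structure of Q
  have hxform : ∀ i : ℕ, ∃ n : ℕ, x ^ i = c ^ n ∨ x ^ i = c ^ n * x := by
    intro i
    rcases Nat.even_or_odd' i with ⟨s, rfl | rfl⟩
    · exact ⟨s, Or.inl (by rw [pow_mul, hc])⟩
    · exact ⟨s, Or.inr (by rw [pow_succ, pow_mul, hc])⟩
  have hyform : ∀ i : ℕ, ∃ n : ℕ, y ^ i = c ^ n ∨ y ^ i = c ^ n * y := by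
    intro i
    rcases Nat.even_or_odd' i with ⟨s, rfl | rfl⟩
    · exact ⟨s, Or.inl (by rw [pow_mul, hcy2])⟩
    · exact ⟨s, Or.inr (by rw [pow_succ, pow_mul, hcy2])⟩
  have hQform : ∀ g ∈ Q, ∃ n : ℕ, ∃ w : G,
      (w = 1 ∨ w = x ∨ w = y ∨ w = x * y) ∧ g = c ^ n * w := by
    intro g hg
    have : (Subgroup.zpowers y).Normal := hn _
    have hg' : g ∈ (Subgroup.zpowers x : Set G) * (Subgroup.zpowers y : Set G) := by
      rw [← Subgroup.mul_normal, ← hQ]; exact hg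
    obtain ⟨a, ha, b, hb, hab⟩ := Set.mem_mul.1 hg'
    obtain ⟨i, hi⟩ := (Submonoid.mem_powers_iff _ _).1 (mem_powers_iff_mem_zpowers.2 ha)
    obtain ⟨j, hj⟩ := (Submonoid.mem_powers_iff _ _).1 (mem_powers_iff_mem_zpowers.2 hb)
    obtain ⟨n, hn'⟩ := hxform i
    obtain ⟨n', hn''⟩ := hyform j
    have hcxn : ∀ r : ℕ, x * c ^ r = c ^ r * x := fun r => ((hcx.pow_left r).eq).symm
    rcases hn' with h1 | h1 <;> rcases hn'' with h2 | h2
    · refine ⟨n + n', 1, Or.inl rfl, ?_⟩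
      rw [← hab, ← hi, ← hj, h1, h2, pow_add, mul_one]
    · refine ⟨n + n', y, Or.inr (Or.inr (Or.inl rfl)), ?_⟩
      rw [← hab, ← hi, ← hj, h1, h2, pow_add, mul_assoc]
    · refine ⟨n + n', x, Or.inr (Or.inl rfl), ?_⟩
      rw [← hab, ← hi, ← hj, h1, h2, pow_add, mul_assoc, hcxn, mul_assoc]
    · refine ⟨n + n', x * y, Or.inr (Or.inr (Or.inr rfl)), ?_⟩
      rw [← hab, ← hi, ← hj, h1, h2, pow_add]
      calc c ^ n * x * (c ^ n' * y) = c ^ n * (x * c ^ n') * y := by group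
        _ = c ^ n * (c ^ n' * x) * y := by rw [hcxn]
        _ = c ^ n * c ^ n' * (x * y) := by group
  have hQC : ∀ g ∈ Q, g ∈ C → g = 1 ∨ g = c := by
    intro g hgQ hgC
    obtain ⟨n, w, hw, hgw⟩ := hQform g hgQ
    have hcnC : c ^ n ∈ C := Subgroup.pow_mem _ ((hCmem c).2 ⟨hcx, hcy⟩) n
    have hwC : w ∈ C := by
      have h5 : w = (c ^ n)⁻¹ * g := by rw [hgw]; group
      rw [h5]; exact Subgroup.mul_mem _ (Subgroup.inv_mem _ hcnC) hgC
    obtain ⟨hwx, hwy⟩ := (hCmem w).1 hwC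
    have hw1 : w = 1 := by
      rcases hw with h | h | h | h
      · exact h
      · exfalso; rw [h] at hwy; exact hxy hwy.eq
      · exfalso; rw [h] at hwx; exact hxy hwx.eq.symm
      · exfalso; rw [h] at hwx
        have h5 : x * y * x = x * (x * y) := hwx.eq
        rw [mul_assoc] at h5
        exact hxy (mul_left_cancel h5).symm
    rw [hgw, hw1, mul_one]
    exact hcpow n
  refine ⟨Q, E, A, hQiso, ⟨⟨⟨fun a b => Subtype.ext (hCc a (hEC a.2) b (hEC b.2))⟩⟩,
    fun a ha => ((hTmem a).1 (hET ha)).2⟩,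
    ⟨⟨fun a b => Subtype.ext (hCc a (hAC a.2) b (hAC b.2))⟩⟩, hAodd, ?_, ?_, ?_⟩
  · rw [eq_bot_iff]
    rintro g ⟨hgE, hgA⟩
    rw [Subgroup.mem_bot]
    exact eq_one_of_sq_of_odd_pow ((hTmem g).1 (hET hgE)).2
      (by rw [← ht]; exact ((hAmem g).1 hgA).2)
  · rw [eq_bot_iff]
    rintro g ⟨hgQ, hgEA⟩
    rw [Subgroup.mem_bot]
    have hgC : g ∈ C := (sup_le hEC hAC) hgEA
    have hgc := hQC g hgQ hgC
    have : A.Normal := hn _
    have hgEA' : g ∈ (E : Set G) * (A : Set G) := by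
      rw [← Subgroup.mul_normal]; exact hgEA
    obtain ⟨e, he, a, ha, hea⟩ := Set.mem_mul.1 hgEA'
    have hg2 : g ^ 2 = 1 := by
      rcases hgc with h | h
      · rw [h, one_pow]
      · rw [h, pow_two]; exact hcc
    have ha2 : a ^ 2 = 1 := by
      have h5 : Commute e a := hCc e (hEC he) a (hAC ha)
      rw [← hea, h5.mul_pow, ((hTmem e).1 (hET he)).2, one_mul] at hg2
      exact hg2
    have ha1 : a = 1 :=
      eq_one_of_sq_of_odd_pow ha2 (by rw [← ht]; exact ((hAmem a).1 ha).2)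
    rw [ha1, mul_one] at hea
    rcases hgc with h | h
    · exact h
    · exfalso; apply hcE; rw [← h, ← hea]; exact he
  · rw [eq_top_iff]
    intro g _
    obtain ⟨q, hq, hq1, hq2⟩ := exists_q_commute hn hx4 hy2 hconj g
    rw [← hQ] at hq
    have hqgC : q⁻¹ * g ∈ C := (hCmem _).2 ⟨hq1, hq2⟩
    obtain ⟨a, haT, b, hbA, hab⟩ := hdecomp _ hqgC
    have haEc := hTle haT
    have hzcQ : Subgroup.zpowers c ≤ Q := by rw [Subgroup.zpowers_le]; exact hcQ
    have h5 : g = q * (a * b) := by rw [← hab]; group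
    rw [h5]
    refine Subgroup.mul_mem _ ((le_sup_left : Q ≤ _) hq) (Subgroup.mul_mem _ ?_ ?_)
    · exact (sup_le (le_trans le_sup_left le_sup_right) (le_trans hzcQ le_sup_left) :
        E ⊔ Subgroup.zpowers c ≤ Q ⊔ (E ⊔ A)) haEc
    · exact (le_trans le_sup_right le_sup_right : A ≤ Q ⊔ (E ⊔ A)) hbA

end main

end Cfsg.Agent.Lib.Lead.Hamiltonian
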