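import Mathlib
import Cfsg.Agent.Lib.Helper1.Class2

set_option autoImplicit false

namespace Cfsg.Agent.Lib.Lead.Heis

open scoped commutatorElement

/-- The Heisenberg-type central extension of `ℤ/m × ℤ/n` by `ℤ/n` (for `n ∣ m`). -/
@[ext]
structure HeisGroup (m n : ℕ) (h : n ∣ m) where
  z : ZMod n
  a : ZMod m
  b : ZMod n

variable {m n : ℕ} {h : n ∣ m}

/-- the ring hom `ℤ/m → ℤ/n` -/
noncomputable def phi (h : n ∣ m) : ZMod m →+* ZMod n := ZMod.castHom h (ZMod n)

noncomputable instance : Mul (HeisGroup m n h) :=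
  ⟨fun x y => ⟨x.z + y.z + phi h x.a * y.b, x.a + y.a, x.b + y.b⟩⟩

instance : One (HeisGroup m n h) := ⟨⟨0, 0, 0⟩⟩

noncomputable instance : Inv (HeisGroup m n h) :=
  ⟨fun x => ⟨-x.z + phi h x.a * x.b, -x.a, -x.b⟩⟩

@[simp] theorem mul_z (x y : HeisGroup m n h) : (x * y).z = x.z + y.z + phi h x.a * y.b := rfl
@[simp] theorem mul_a (x y : HeisGroup m n h) : (x * y).a = x.a + y.a := rfl
@[simp] theorem mul_b (x y : HeisGroup m n h) : (x * y).b = x.b + y.b := rfl
@[simp] theorem one_z : (1 : HeisGroup m n h).z = 0 := rfl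
@[simp] theorem one_a : (1 : HeisGroup m n h).a = 0 := rfl
@[simp] theorem one_b : (1 : HeisGroup m n h).b = 0 := rfl
@[simp] theorem inv_z (x : HeisGroup m n h) : (x⁻¹).z = -x.z + phi h x.a * x.b := rfl
@[simp] theorem inv_a (x : HeisGroup m n h) : (x⁻¹).a = -x.a := rfl
@[simp] theorem inv_b (x : HeisGroup m n h) : (x⁻¹).b = -x.b := rfl

noncomputable instance : Group (HeisGroup m n h) :=
  Group.ofLeftAxioms
    (by
      intro x y w
      ext
      · simp only [mul_z, mul_a, mul_b, map_add]; ring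
      · simp only [mul_a]; ring
      · simp only [mul_b]; ring)
    (by
      intro x
      ext
      · simp
      · simp
      · simp)
    (by
      intro x
      ext
      · simp only [mul_z, inv_z, inv_a, inv_b, one_z, map_neg]; ring
      · simp
      · simp)

/-- the projection to `ℤ/m × ℤ/n` -/
noncomputable def proj (h : n ∣ m) : HeisGroup m n h →* Multiplicative (ZMod m × ZMod n) where
  toFun x := Multiplicative.ofAdd (x.a, x.b)
  map_one' := rfl
  map_mul' _ _ := rfl

theorem proj_surjective : Function.Surjective (proj h) := by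
  intro q
  exact ⟨⟨0, (Multiplicative.toAdd q).1, (Multiplicative.toAdd q).2⟩, rfl⟩

theorem mem_ker_iff (x : HeisGroup m n h) : x ∈ (proj h).ker ↔ x.a = 0 ∧ x.b = 0 := by
  rw [MonoidHom.mem_ker]
  constructor
  · intro hx
    have h1 : (x.a, x.b) = (0, 0) := Multiplicative.ofAdd.injective hx
    exact ⟨congrArg Prod.fst h1, congrArg Prod.snd h1⟩
  · rintro ⟨h1, h2⟩
    show Multiplicative.ofAdd (x.a, x.b) = 1
    rw [h1, h2]; rfl

instance [NeZero m] [NeZero n] : Finite (HeisGroup m n h) :=
  Finite.of_injective (fun x : HeisGroup m n h => (x.z, x.a, x.b)) (by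
    intro x y hxy
    have h1 := congrArg Prod.fst hxy
    have h2 := congrArg (fun t => t.2.1) hxy
    have h3 := congrArg (fun t => t.2.2) hxy
    exact HeisGroup.ext h1 h2 h3)

/-- central element with given `z` -/
def zed (h : n ∣ m) (t : ZMod n) : HeisGroup m n h := ⟨t, 0, 0⟩

theorem ker_le_center : (proj h).ker ≤ Subgroup.center (HeisGroup m n h) := by
  intro x hx
  rw [mem_ker_iff] at hx
  rw [Subgroup.mem_center_iff]
  intro g
  ext
  · simp only [mul_z, hx.1, hx.2, map_zero]; ring
  · simp only [mul_a, hx.1]; ring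
  · simp only [mul_b, hx.2]; ring

theorem zed_pow (t : ZMod n) (k : ℕ) : (zed h t) ^ k = zed h (k • t) := by
  induction k with
  | zero => simp only [pow_zero, zero_smul]; rfl
  | succ k ih =>
    rw [pow_succ, ih]
    ext
    · simp only [mul_z, zed, map_zero, zero_mul, add_zero, succ_nsmul]
    · simp [zed]
    · simp [zed]

theorem commutator_xy :
    ⁅(⟨0, 1, 0⟩ : HeisGroup m n h), (⟨0, 0, 1⟩ : HeisGroup m n h)⁆ = zed h 1 := by
  rw [commutatorElement_def]
  ext
  · simp only [mul_z, mul_a, mul_b, inv_z, inv_a, inv_b, zed, map_one, map_zero, map_add, map_neg]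
    ring
  · simp [zed]
  · simp [zed]

theorem ker_le_commutator [NeZero n] : (proj h).ker ≤ commutator (HeisGroup m n h) := by
  intro x hx
  rw [mem_ker_iff] at hx
  have hx' : x = (zed h 1) ^ (x.z.val) := by
    rw [zed_pow]
    ext
    · simp only [zed, nsmul_eq_mul, mul_one, ZMod.natCast_val, ZMod.cast_id', id_eq]
    · simp [zed, hx.1]
    · simp [zed, hx.2]
  rw [hx', ← commutator_xy]
  exact Subgroup.pow_mem _ (Subgroup.commutator_mem_commutator (Subgroup.mem_top _)
    (Subgroup.mem_top _)) _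

/-- the kernel is `ℤ/n` -/
noncomputable def kerEquiv (h : n ∣ m) : (proj h).ker ≃* Multiplicative (ZMod n) where
  toFun x := Multiplicative.ofAdd x.1.z
  invFun t := ⟨zed h (Multiplicative.toAdd t), (mem_ker_iff _).mpr ⟨rfl, rfl⟩⟩
  left_inv x := by
    apply Subtype.ext
    have hx := (mem_ker_iff _).mp x.2
    ext
    · rfl
    · exact hx.1.symm
    · exact hx.2.symm
  right_inv t := rfl
  map_mul' x y := by
    have hx := (mem_ker_iff _).mp x.2
    show Multiplicative.ofAdd ((x.1 * y.1).z) = Multiplicative.ofAdd x.1.z * Multiplicative.ofAdd y.1.z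
    rw [mul_z, hx.1, map_zero, zero_mul, add_zero]
    rfl

end Cfsg.Agent.Lib.Lead.Heis
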