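import Mathlib
import Cfsg.Agent.Lib.Lead.HeisStem

set_option autoImplicit false

namespace Cfsg.Agent.Lib.Lead.Heis

open scoped commutatorElement

universe u

variable {m n : ℕ} {h : n ∣ m}

theorem eq_zed_pow_of_mem_ker [NeZero n] (x : HeisGroup m n h) (hx : x ∈ (proj h).ker) :
    x = (zed h 1) ^ (x.z.val) := by
  rw [mem_ker_iff] at hx
  rw [zed_pow]
  ext
  · simp only [zed, nsmul_eq_mul, mul_one, ZMod.natCast_val, ZMod.cast_id', id_eq]
  · simp [zed, hx.1]
  · simp [zed, hx.2]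

/-- Pulling the Heisenberg extension back along `f : G → ℤ/m × ℤ/n` gives a stem extension of the abelian group
`G` with nontrivial kernel, as soon as `(1,0)` and `(0,1)` are values of `f`. -/
theorem exists_stem_of_hom (h : n ∣ m) {G : Type u} [CommGroup G] [Finite G] [NeZero m] [NeZero n]
    (hn1 : 1 < n)
    (f : G →* Multiplicative (ZMod m × ZMod n)) (gx gy : G)
    (hgx : f gx = Multiplicative.ofAdd ((1 : ZMod m), (0 : ZMod n)))
    (hgy : f gy = Multiplicative.ofAdd ((0 : ZMod m), (1 : ZMod n))) :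
    ∃ (Γ : Type u) (_ : Group Γ) (_ : Finite Γ) (σ : Γ →* G),
      (Function.Surjective σ ∧ σ.ker ≤ Subgroup.center Γ ∧ σ.ker ≤ commutator Γ) ∧
        ∃ z ∈ σ.ker, z ≠ 1 := by
  set H := HeisGroup m n h with hH
  set Γ : Subgroup (H × G) :=
    MonoidHom.eqLocus ((proj h).comp (MonoidHom.fst H G)) (f.comp (MonoidHom.snd H G)) with hΓ
  have hmem : ∀ t : H × G, t ∈ Γ ↔ proj h t.1 = f t.2 := fun t => Iff.rfl
  set σ : Γ →* G := (MonoidHom.snd H G).comp Γ.subtype with hσ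
  have hσapp : ∀ t : Γ, σ t = t.1.2 := fun t => rfl
  have hker : ∀ t : Γ, t ∈ σ.ker ↔ t.1.2 = 1 := fun t => by rw [MonoidHom.mem_ker, hσapp]
  have hkerH : ∀ t : Γ, t ∈ σ.ker → t.1.1 ∈ (proj h).ker := by
    intro t ht
    have h1 := (hmem t.1).mp t.2
    rw [(hker t).mp ht, map_one] at h1
    exact h1
  -- the two lifts
  have hX : (((⟨0, 1, 0⟩ : H), gx) : H × G) ∈ Γ := by
    rw [hmem]; exact hgx.symm
  have hY : (((⟨0, 0, 1⟩ : H), gy) : H × G) ∈ Γ := by
    rw [hmem]; exact hgy.symm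
  set X : Γ := ⟨_, hX⟩ with hXdef
  set Y : Γ := ⟨_, hY⟩ with hYdef
  have hXY : (⁅X, Y⁆ : Γ).1 = (zed h 1, 1) := by
    have h1 : (⁅X, Y⁆ : Γ).1 = ⁅X.1, Y.1⁆ := by
      simp only [commutatorElement_def, Subgroup.coe_mul, Subgroup.coe_inv]
    rw [h1]
    apply Prod.ext
    · have h2 : (⁅X.1, Y.1⁆ : H × G).1 = ⁅(⟨0, 1, 0⟩ : H), (⟨0, 0, 1⟩ : H)⁆ := by
        simp only [commutatorElement_def, Prod.fst_mul, Prod.fst_inv, hXdef, hYdef]
      rw [h2, commutator_xy]
    · have h2 : (⁅X.1, Y.1⁆ : H × G).2 = ⁅gx, gy⁆ := by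
        simp only [commutatorElement_def, Prod.snd_mul, Prod.snd_inv, hXdef, hYdef]
      rw [h2, commutatorElement_eq_one_iff_commute]
      exact Commute.all _ _
  refine ⟨Γ, inferInstance, inferInstance, σ, ⟨?_, ?_, ?_⟩, ?_⟩
  · intro g
    obtain ⟨x, hx⟩ := proj_surjective (h := h) (f g)
    exact ⟨⟨(x, g), (hmem _).mpr hx⟩, rfl⟩
  · intro t ht
    rw [Subgroup.mem_center_iff]
    intro s
    apply Subtype.ext
    have h1 := Subgroup.mem_center_iff.mp (ker_le_center (hkerH t ht)) s.1.1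
    have h2 : t.1.2 = 1 := (hker t).mp ht
    apply Prod.ext
    · simpa using h1
    · simp [h2]
  · intro t ht
    have h1 := eq_zed_pow_of_mem_ker t.1.1 (hkerH t ht)
    have h2 : t.1.2 = 1 := (hker t).mp ht
    have h3 : t = ⁅X, Y⁆ ^ (t.1.1.z.val) := by
      apply Subtype.ext
      rw [Subgroup.coe_pow, hXY]
      apply Prod.ext
      · simpa using h1
      · simp [h2]
    rw [h3]
    exact Subgroup.pow_mem _ (Subgroup.commutator_mem_commutator (Subgroup.mem_top _)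
      (Subgroup.mem_top _)) _
  · refine ⟨⁅X, Y⁆, ?_, ?_⟩
    · rw [hker, hXY]
    · intro h1
      have h2 := congrArg (fun t : Γ => t.1.1.z) h1
      simp only [hXY] at h2
      have : Fact (1 < n) := ⟨hn1⟩
      exact one_ne_zero h2

end Cfsg.Agent.Lib.Lead.Heis
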