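import Mathlib
import Cfsg.Agent.Lib.Helper5.SylowLib
import Cfsg.Agent.Lib.Helper4.HallConv
import Cfsg.Agent.Lib.Helper7.SylowQuot

set_option autoImplicit false

namespace Cfsg.Agent.Lib.Lead.NavarroTiep

open Subgroup
open scoped Pointwise

variable {G : Type*} [Group G]

/-- all `p`-elements have `p'`-class size -/
def CC (p : ℕ) (G : Type*) [Group G] : Prop :=
  ∀ x : G, (∃ k : ℕ, orderOf x = p ^ k) → ¬ p ∣ (Subgroup.centralizer ({x} : Set G)).index

theorem cc_subgroup_of_normal [Finite G] {p : ℕ} (h : CC p G) (N : Subgroup G) [N.Normal] :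
    CC p N := by
  intro x hx hdvd
  have hx' : ∃ k : ℕ, orderOf (x : G) = p ^ k := by
    obtain ⟨k, hk⟩ := hx
    exact ⟨k, by rw [Subgroup.orderOf_coe, hk]⟩
  apply h (x : G) hx'
  have e : (Subgroup.centralizer ({x} : Set N)) =
      (Subgroup.centralizer ({(x : G)} : Set G)).subgroupOf N := by
    ext y
    rw [Subgroup.mem_subgroupOf, Subgroup.mem_centralizer_singleton_iff,
      Subgroup.mem_centralizer_singleton_iff]
    constructor
    · intro hy
      have := congrArg (Subtype.val) hy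
      simpa using this
    · intro hy
      apply Subtype.ext
      simpa using hy
  rw [e] at hdvd
  set C := Subgroup.centralizer ({(x : G)} : Set G)
  have hdvd' : p ∣ C.relIndex N := hdvd
  have h1 : C.relIndex (C ⊔ N) = C.relIndex N :=
    Cfsg.Agent.Lib.Helper7.relIndex_sup_of_normal C N
  rw [← h1] at hdvd'
  exact hdvd'.trans (Subgroup.relIndex_dvd_index_of_le le_sup_left)

theorem cc_quotient [Finite G] {p : ℕ} [Fact p.Prime] (h : CC p G) (N : Subgroup G) [N.Normal] :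
    CC p (G ⧸ N) := by
  intro x hx hdvd
  -- lift `x` to a `p`-element
  obtain ⟨P⟩ : Nonempty (Sylow p G) := inferInstance
  have hsurj := QuotientGroup.mk'_surjective N
  have hxp : IsPGroup p (Subgroup.zpowers x) := by
    obtain ⟨k, hk⟩ := hx
    rw [IsPGroup.iff_card]
    exact ⟨k, by rw [Nat.card_zpowers, hk]⟩
  obtain ⟨Q, hQ⟩ := hxp.exists_le_sylow
  obtain ⟨g, hg⟩ := MulAction.exists_smul_eq (G ⧸ N) (P.mapSurjective hsurj) Q
  obtain ⟨g0, rfl⟩ := hsurj g
  have hxQ : x ∈ (Q : Subgroup (G ⧸ N)) := hQ (Subgroup.mem_zpowers x)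
  rw [← hg, Sylow.smul_def, Sylow.pointwise_smul_def] at hxQ
  obtain ⟨t, ht, hxt⟩ := hxQ
  rw [Sylow.coe_mapSurjective] at ht
  obtain ⟨u, hu, hut⟩ := ht
  set y := g0 * u * g0⁻¹ with hy
  have hxy : x = (QuotientGroup.mk' N) y := by
    rw [← hxt, ← hut, hy]
    simp
  have hyo : ∃ k : ℕ, orderOf y = p ^ k := by
    have h1 : orderOf y = orderOf u := by
      rw [hy, ← MulAut.conj_apply, MulEquiv.orderOf_eq]
    rw [h1]
    have := P.isPGroup' ⟨u, hu⟩
    obtain ⟨k, hk⟩ := this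
    have hk' : u ^ p ^ k = 1 := by
      have := congrArg Subtype.val hk
      simpa using this
    exact (exists_orderOf_eq_prime_pow_iff (p := p)).mpr ⟨k, hk'⟩
  apply h y hyo
  refine hdvd.trans ?_
  have hle : (Subgroup.centralizer ({y} : Set G)).map (QuotientGroup.mk' N) ≤
      Subgroup.centralizer ({x} : Set (G ⧸ N)) := by
    rintro _ ⟨c, hc, rfl⟩
    have hc' : c ∈ Subgroup.centralizer ({y} : Set G) := hc
    rw [Subgroup.mem_centralizer_singleton_iff] at hc' ⊢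
    rw [hxy, ← map_mul, ← map_mul, hc']
  exact (Subgroup.index_dvd_of_le hle).trans (Subgroup.index_map_dvd _ hsurj)

theorem mem_sylow_of_normalizes {p : ℕ} (P : Sylow p G) (y : G)
    (hy : IsPGroup p (Subgroup.zpowers y))
    (hn : Subgroup.zpowers y ≤ Subgroup.normalizer ((P : Subgroup G) : Set G)) :
    y ∈ (P : Subgroup G) := by
  have h1 := P.is_maximal' (P.isPGroup'.to_sup_of_normal_left' hy hn) le_sup_left
  have h2 : Subgroup.zpowers y ≤ (P : Subgroup G) := by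
    rw [← h1]; exact le_sup_right
  exact h2 (Subgroup.mem_zpowers y)

theorem exists_conj_centralizes [Finite G] {p : ℕ} [Fact p.Prime] (h : CC p G) (P : Sylow p G)
    (x : G) (hx : x ∈ (P : Subgroup G)) :
    ∃ g : G, ∀ q ∈ (P : Subgroup G), q * (g * x * g⁻¹) = (g * x * g⁻¹) * q := by
  have hxo : ∃ k : ℕ, orderOf x = p ^ k := by
    obtain ⟨k, hk⟩ := P.isPGroup' ⟨x, hx⟩
    have hk' : x ^ p ^ k = 1 := by
      have := congrArg Subtype.val hk
      simpa using this
    exact (exists_orderOf_eq_prime_pow_iff (p := p)).mpr ⟨k, hk'⟩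
  obtain ⟨g, hg⟩ := Cfsg.Agent.Lib.Helper4.exists_conj_mem_of_not_dvd_index p
    (Subgroup.centralizer ({x} : Set G)) (P : Subgroup G) P.isPGroup' (h x hxo)
  refine ⟨g, fun q hq => ?_⟩
  have h1 := hg q hq
  rw [Subgroup.mem_centralizer_singleton_iff] at h1
  -- h1 : g⁻¹ * q * g * x = x * (g⁻¹ * q * g)
  have h2 : q * (g * x * g⁻¹) = g * (g⁻¹ * q * g * x) * g⁻¹ := by group
  rw [h2, h1]; group

theorem centralizes_inf_normal [Finite G] {p : ℕ} [Fact p.Prime] (P : Sylow p G)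
    (N : Subgroup G) [hNn : N.Normal]
    (hN : ∀ Q : Sylow p N, IsMulCommutative Q)
    (x : G) (hx : x ∈ (P : Subgroup G)) (g : G)
    (hg : ∀ q ∈ (P : Subgroup G), q * (g * x * g⁻¹) = (g * x * g⁻¹) * q) :
    ∀ r ∈ (P : Subgroup G) ⊓ N, x * r = r * x := by
  obtain ⟨P₀, hP₀⟩ := Cfsg.Agent.Lib.Helper5.exists_sylow_inf_normal P N
  obtain ⟨Q₀, hQ₀⟩ := Cfsg.Agent.Lib.Helper5.exists_sylow_inf_normal (g⁻¹ • P) N
  obtain ⟨n, hn⟩ := MulAction.exists_smul_eq N Q₀ P₀
  -- R is abelian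
  have hRab : ∀ r ∈ (P : Subgroup G) ⊓ N, ∀ s ∈ (P : Subgroup G) ⊓ N, r * s = s * r := by
    intro r hr s hs
    rw [← hP₀] at hr hs
    obtain ⟨r0, hr0, rfl⟩ := hr
    obtain ⟨s0, hs0, rfl⟩ := hs
    have := (isMulCommutative_iff.mp (hN P₀)) ⟨r0, hr0⟩ ⟨s0, hs0⟩
    have h2 := congrArg (fun z : P₀ => ((z : N) : G)) this
    simpa using h2
  -- x commutes with Q₀
  have hxQ : ∀ q ∈ ((g⁻¹ • P : Sylow p G) : Subgroup G), x * q = q * x := by
    intro q hq
    rw [Sylow.coe_subgroup_smul, Subgroup.mem_smul_pointwise_iff_exists] at hq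
    obtain ⟨t, ht, rfl⟩ := hq
    rw [MulAut.smul_def, MulAut.conj_apply, inv_inv]
    have h1 := hg t ht
    have h2 : x * (g⁻¹ * t * g) = g⁻¹ * ((g * x * g⁻¹) * t) * g := by group
    rw [h2, ← h1]; group
  set x' : G := (n : G) * x * (n : G)⁻¹ with hx'
  have hx'R : ∀ r ∈ (P : Subgroup G) ⊓ N, x' * r = r * x' := by
    intro r hr
    rw [← hP₀] at hr
    obtain ⟨r0, hr0, rfl⟩ := hr
    have hr0' : r0 ∈ ((n • Q₀ : Sylow p N) : Subgroup N) := by rw [hn]; exact hr0
    rw [Sylow.coe_subgroup_smul, Subgroup.mem_smul_pointwise_iff_exists] at hr0'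
    obtain ⟨q0, hq0, rfl⟩ := hr0'
    have hq0G : ((q0 : N) : G) ∈ ((g⁻¹ • P : Sylow p G) : Subgroup G) := by
      have : ((q0 : N) : G) ∈ ((g⁻¹ • P : Sylow p G) : Subgroup G) ⊓ N := by
        rw [← hQ₀]; exact ⟨q0, hq0, rfl⟩
      exact this.1
    have h1 := hxQ _ hq0G
    rw [MulAut.smul_def, MulAut.conj_apply]
    simp only [Subgroup.coe_subtype, Subgroup.coe_mul, Subgroup.coe_inv, hx']
    have h2 : (n : G) * x * (n : G)⁻¹ * ((n : G) * (q0 : G) * (n : G)⁻¹) =
        (n : G) * (x * (q0 : G)) * (n : G)⁻¹ := by group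
    rw [h2, h1]; group
  -- P normalizes R
  have hRconj : ∀ u ∈ (P : Subgroup G), ∀ r ∈ (P : Subgroup G) ⊓ N,
      u⁻¹ * r * u ∈ (P : Subgroup G) ⊓ N := by
    intro u hu r hr
    refine ⟨(P : Subgroup G).mul_mem ((P : Subgroup G).mul_mem ((P : Subgroup G).inv_mem hu) hr.1) hu, ?_⟩
    have := hNn.conj_mem r hr.2 u⁻¹
    simpa using this
  set m : G := x⁻¹ * x' with hm
  have hmN : m ∈ N := by
    have h1 : m = (x⁻¹ * (n : G) * x⁻¹⁻¹) * (n : G)⁻¹ := by rw [hm, hx']; group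
    rw [h1]
    exact N.mul_mem (hNn.conj_mem _ n.2 _) (N.inv_mem n.2)
  have hpow : ∀ j : ℕ, ∀ r ∈ (P : Subgroup G) ⊓ N,
      m ^ j * r * (m ^ j)⁻¹ = (x ^ j)⁻¹ * r * x ^ j := by
    intro j
    induction j with
    | zero => intro r _; simp
    | succ j ih =>
      intro r hr
      have hr' := hRconj (x ^ j) (pow_mem hx j) r hr
      have h1 : m ^ (j + 1) * r * (m ^ (j + 1))⁻¹ = m * (m ^ j * r * (m ^ j)⁻¹) * m⁻¹ := by
        rw [pow_succ']; group
      rw [h1, ih r hr]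
      have h2 := hx'R _ hr'
      have h3 : m * ((x ^ j)⁻¹ * r * x ^ j) * m⁻¹ =
          x⁻¹ * (x' * ((x ^ j)⁻¹ * r * x ^ j)) * x'⁻¹ * x := by
        rw [hm]; group
      rw [h3, h2]
      rw [pow_succ]; group
  have hp := (Fact.out : p.Prime)
  have hc0 : Nat.card N ≠ 0 := Nat.card_pos.ne'
  set v := (Nat.card N).factorization p with hv
  set e := Nat.card N / p ^ v with he
  have hce : p ^ v * e = Nat.card N := Nat.ordProj_mul_ordCompl_eq_self (Nat.card N) p
  have hcop : Nat.Coprime p e := Nat.coprime_ordCompl hp hc0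
  set u := m ^ e with hu
  have huN : u ∈ N := pow_mem hmN e
  have hup : u ^ (p ^ v) = 1 := by
    rw [hu, ← pow_mul, mul_comm, hce]
    have := pow_card_eq_one' (G := N) (x := ⟨m, hmN⟩)
    have h2 : ((⟨m, hmN⟩ : N) ^ Nat.card N : N).1 = (1 : N).1 := congrArg Subtype.val this
    exact h2
  have huR : ∀ r ∈ (P : Subgroup G) ⊓ N, u * r * u⁻¹ ∈ (P : Subgroup G) ⊓ N := by
    intro r hr
    rw [hu, hpow e r hr]
    exact hRconj _ (pow_mem hx e) r hr
  have hu0 : (⟨u, huN⟩ : N) ∈ (P₀ : Subgroup N) := by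
    apply mem_sylow_of_normalizes
    · rintro ⟨z, hz⟩
      obtain ⟨i, rfl⟩ := Subgroup.mem_zpowers_iff.mp hz
      refine ⟨v, ?_⟩
      apply Subtype.ext
      apply Subtype.ext
      simp only [Subgroup.coe_pow, Subgroup.coe_zpow, Subgroup.coe_one]
      rw [← zpow_natCast, ← zpow_mul, mul_comm, zpow_mul, zpow_natCast, hup, one_zpow]
    · rw [Subgroup.zpowers_le]
      apply Subgroup.mem_normalizer_fintype
      intro t ht
      have htR : ((t : N) : G) ∈ (P : Subgroup G) ⊓ N := by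
        rw [← hP₀]; exact ⟨t, ht, rfl⟩
      have h1 := huR _ htR
      rw [← hP₀] at h1
      obtain ⟨w, hw, hwe⟩ := h1
      have : w = ⟨u, huN⟩ * t * (⟨u, huN⟩ : N)⁻¹ := by
        apply Subtype.ext
        simpa using hwe
      rw [← this]; exact hw
  have huRmem : u ∈ (P : Subgroup G) ⊓ N := by
    rw [← hP₀]; exact ⟨⟨u, huN⟩, hu0, rfl⟩
  intro r hr
  have h1 := hpow e r hr
  have h2 := hRab u huRmem r hr
  have h3 : m ^ e * r * (m ^ e)⁻¹ = r := by
    rw [← hu, h2]; group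
  rw [h3] at h1
  have hcomm : Commute (x ^ e) r := by
    show x ^ e * r = r * x ^ e
    have : x ^ e * r = x ^ e * ((x ^ e)⁻¹ * r * x ^ e) := by rw [← h1]
    rw [this]; group
  obtain ⟨k, hk⟩ := P.isPGroup' ⟨x, hx⟩
  have hk' : x ^ p ^ k = 1 := by
    have := congrArg Subtype.val hk
    simpa using this
  obtain ⟨k', hk'o⟩ := (exists_orderOf_eq_prime_pow_iff (p := p)).mpr ⟨k, hk'⟩
  have hcop2 : Nat.Coprime e (orderOf x) := by
    rw [hk'o]; exact (hcop.pow_left k').symm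
  obtain ⟨c', hc'⟩ := exists_pow_eq_self_of_coprime hcop2
  have := hcomm.pow_left c'
  rw [hc'] at this
  exact this

theorem conj_mem_of_smul_eq {p : ℕ} {P : Sylow p G} {n : G} (h : n • P = P) (t : G)
    (ht : t ∈ (P : Subgroup G)) : n * t * n⁻¹ ∈ (P : Subgroup G) := by
  have h1 : n * t * n⁻¹ ∈ ((n • P : Sylow p G) : Subgroup G) := by
    rw [Sylow.coe_subgroup_smul, Subgroup.mem_smul_pointwise_iff_exists]
    exact ⟨t, ht, by rw [MulAut.smul_def, MulAut.conj_apply]⟩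
  rw [h] at h1
  exact h1

theorem isPGroup_zpowers_of_pow_eq_one {p : ℕ} (w : G) (k : ℕ) (h : w ^ p ^ k = 1) :
    IsPGroup p (Subgroup.zpowers w) := by
  rintro ⟨z, hz⟩
  obtain ⟨i, rfl⟩ := Subgroup.mem_zpowers_iff.mp hz
  refine ⟨k, ?_⟩
  apply Subtype.ext
  simp only [Subgroup.coe_pow, Subgroup.coe_one]
  rw [← zpow_natCast, ← zpow_mul, mul_comm, zpow_mul, zpow_natCast, h, one_zpow]

theorem centralizes_of_quotient [Finite G] {p : ℕ} [Fact p.Prime] (P : Sylow p G)
    (N : Subgroup G) [hNn : N.Normal]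
    (hR : ∀ u ∈ (P : Subgroup G), ∀ r ∈ (P : Subgroup G) ⊓ N, u * r = r * u)
    (hQ : ∀ Q : Sylow p (G ⧸ N), IsMulCommutative Q)
    (x : G) (hx : x ∈ (P : Subgroup G)) (g : G)
    (hg : ∀ q ∈ (P : Subgroup G), q * (g * x * g⁻¹) = (g * x * g⁻¹) * q) :
    ∀ q ∈ (P : Subgroup G), q * x = x * q := by
  have hsurj := QuotientGroup.mk'_surjective N
  set y := g * x * g⁻¹ with hy
  obtain ⟨k, hk⟩ := P.isPGroup' ⟨x, hx⟩
  have hk' : x ^ p ^ k = 1 := by
    have := congrArg Subtype.val hk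
    simpa using this
  have hyP : y ∈ (P : Subgroup G) := by
    apply mem_sylow_of_normalizes
    · apply isPGroup_zpowers_of_pow_eq_one y k
      rw [hy, conj_pow, hk']; group
    · rw [Subgroup.zpowers_le]
      apply Subgroup.mem_normalizer_fintype
      intro t ht
      have h1 := hg t ht
      have h2 : y * t * y⁻¹ = t := by
        rw [← h1]; group
      rw [h2]; exact ht
  set D : Subgroup G := (Subgroup.centralizer ({(QuotientGroup.mk' N) x} : Set (G ⧸ N))).comap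
    (QuotientGroup.mk' N) with hD
  have hmemD : ∀ d : G, d ∈ D ↔
      (QuotientGroup.mk' N) d * (QuotientGroup.mk' N) x =
        (QuotientGroup.mk' N) x * (QuotientGroup.mk' N) d := by
    intro d
    rw [hD, Subgroup.mem_comap, Subgroup.mem_centralizer_singleton_iff]
  have h1 : (P : Subgroup G) ≤ D := by
    intro u hu
    rw [hmemD]
    have hcomm := isMulCommutative_iff.mp (hQ (P.mapSurjective hsurj))
    have hu' : (QuotientGroup.mk' N) u ∈ ((P.mapSurjective hsurj : Sylow p (G ⧸ N)) :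
        Subgroup (G ⧸ N)) := by
      rw [Sylow.coe_mapSurjective]; exact ⟨u, hu, rfl⟩
    have hx'' : (QuotientGroup.mk' N) x ∈ ((P.mapSurjective hsurj : Sylow p (G ⧸ N)) :
        Subgroup (G ⧸ N)) := by
      rw [Sylow.coe_mapSurjective]; exact ⟨x, hx, rfl⟩
    have := hcomm ⟨_, hu'⟩ ⟨_, hx''⟩
    exact congrArg Subtype.val this
  have h2 : ((g⁻¹ • P : Sylow p G) : Subgroup G) ≤ D := by
    intro q hq
    rw [Sylow.coe_subgroup_smul, Subgroup.mem_smul_pointwise_iff_exists] at hq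
    obtain ⟨t, ht, rfl⟩ := hq
    rw [hmemD, MulAut.smul_def, MulAut.conj_apply, inv_inv, ← map_mul, ← map_mul]
    have h1 := hg t ht
    rw [hy] at h1
    refine congrArg _ ?_
    calc g⁻¹ * t * g * x = g⁻¹ * (t * (g * x * g⁻¹)) * g := by group
      _ = g⁻¹ * ((g * x * g⁻¹) * t) * g := by rw [h1]
      _ = x * (g⁻¹ * t * g) := by group
  obtain ⟨d, hd⟩ := MulAction.exists_smul_eq D ((g⁻¹ • P).subtype h2) (P.subtype h1)
  simp_rw [Sylow.smul_subtype, Subgroup.smul_def, smul_smul] at hd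
  have hnP : ((d : G) * g⁻¹) • P = P := Sylow.subtype_injective hd
  have hninvP : ((d : G) * g⁻¹)⁻¹ • P = P := by
    rw [inv_smul_eq_iff, hnP]
  set n : G := (d : G) * g⁻¹ with hn
  set z : G := n * y * n⁻¹ with hz
  have hzP : z ∈ (P : Subgroup G) := conj_mem_of_smul_eq hnP y hyP
  have hzc : ∀ t ∈ (P : Subgroup G), t * z = z * t := by
    intro t ht
    have h3 := conj_mem_of_smul_eq hninvP t ht
    rw [inv_inv] at h3
    have h4 := hg _ h3
    have h5 : t * z = n * ((n⁻¹ * t * n) * y) * n⁻¹ := by rw [hz]; group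
    rw [h5, h4, hz]; group
  have hzx : z = (d : G) * x * (d : G)⁻¹ := by
    rw [hz, hn, hy]; group
  set m : G := z * x⁻¹ with hm
  have hmN : m ∈ N := by
    have hdD := (hmemD d).mp d.2
    rw [← QuotientGroup.eq_one_iff, hm, hzx]
    have : ((QuotientGroup.mk' N) ((d : G) * x * (d : G)⁻¹ * x⁻¹)) = 1 := by
      simp only [map_mul, map_inv]
      rw [hdD]; group
    exact this
  have hmP : m ∈ (P : Subgroup G) :=
    (P : Subgroup G).mul_mem hzP ((P : Subgroup G).inv_mem hx)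
  have hmc := fun u hu => hR u hu m ⟨hmP, hmN⟩
  have hxe : x = m⁻¹ * z := by rw [hm]; group
  intro q hq
  have e1 := hmc q hq
  have e2 := hzc q hq
  have e3 : q * m⁻¹ = m⁻¹ * q := by
    have : q * m⁻¹ = m⁻¹ * (m * q) * m⁻¹ := by group
    rw [this, ← e1]; group
  have key : ∀ (q m z : G), q * m⁻¹ = m⁻¹ * q → q * z = z * q →
      q * (m⁻¹ * z) = (m⁻¹ * z) * q := by
    intro q m z h1 h2
    rw [← mul_assoc, h1, mul_assoc, h2, mul_assoc]
  have := key q m z e3 e2
  rw [← hxe] at this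
  exact this

theorem sylow_comm_of_normal [Finite G] {p : ℕ} [Fact p.Prime] (h : CC p G)
    (N : Subgroup G) [N.Normal]
    (hN : ∀ Q : Sylow p N, IsMulCommutative Q)
    (hQ : ∀ Q : Sylow p (G ⧸ N), IsMulCommutative Q)
    (P : Sylow p G) : IsMulCommutative P := by
  rw [isMulCommutative_iff]
  rintro ⟨a, ha⟩ ⟨b, hb⟩
  apply Subtype.ext
  show a * b = b * a
  have hR : ∀ u ∈ (P : Subgroup G), ∀ r ∈ (P : Subgroup G) ⊓ N, u * r = r * u := by
    intro u hu r hr
    obtain ⟨g, hg⟩ := exists_conj_centralizes h P u hu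
    exact centralizes_inf_normal P N hN u hu g hg r hr
  obtain ⟨g, hg⟩ := exists_conj_centralizes h P b hb
  exact centralizes_of_quotient P N hR hQ b hb g hg a ha

end Cfsg.Agent.Lib.Lead.NavarroTiep
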