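import Mathlib
import Cfsg.Agent.Lib.Lead.ThompsonJ

set_option autoImplicit false
set_option linter.unusedSectionVars false
set_option linter.style.haveILetI false

universe u v

namespace Cfsg.Agent.Lib.Lead.ThompsonRed

open Cfsg Cfsg.Agent.Lib.Helper2 Cfsg.Agent.Lib.Helper4 Cfsg.Agent.Lib.Lead.ThompsonJ

section transport
variable {p : ℕ} [hp : Fact p.Prime]

theorem npc_of_le_map {A : Type u} {B : Type v} [Group A] [Group B] [Finite A] [Finite B]
    (f : A →* B) (hf : Function.Injective f) {Y' : Subgroup A} {Y : Subgroup B}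
    (h : ∀ y ∈ Y', f y ∈ Y) (hY : HasNormalPComplement p ↥Y) : HasNormalPComplement p ↥Y' := by
  refine npc_of_injective ((f.comp Y'.subtype).codRestrict Y (fun y => h y y.2)) ?_ hY
  intro a b hab
  have h1 : f (a : A) = f (b : A) := congrArg Subtype.val hab
  exact Subtype.ext (hf h1)

theorem npc_of_map_le {A : Type u} {B : Type v} [Group A] [Group B] [Finite A] [Finite B]
    (f : A →* B) {Y : Subgroup A} {Y' : Subgroup B}
    (h : Y' ≤ Y.map f) (hY : HasNormalPComplement p ↥Y) : HasNormalPComplement p ↥Y' := by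
  have h1 : HasNormalPComplement p ↥(Y.map f) :=
    npc_of_surjective (f.subgroupMap Y) (f.subgroupMap_surjective Y) hY
  exact npc_of_injective (Subgroup.inclusion h) (Subgroup.inclusion_injective h) h1

theorem npc_of_top {A : Type u} [Group A] [Finite A] {Y : Subgroup A} (hY : Y = ⊤)
    (h : HasNormalPComplement p ↥Y) : HasNormalPComplement p A := by
  refine npc_of_injective ((MonoidHom.id A).codRestrict Y
    (fun x => by rw [hY]; exact Subgroup.mem_top x)) ?_ h
  intro a b hab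
  exact congrArg Subtype.val hab

end transport

section pp
variable {G : Type u} [Group G] [Finite G] {p : ℕ} [hp : Fact p.Prime]

theorem card_dvd_pp {X M : Subgroup G} (hX : IsPGroup p X) (hXM : X ≤ M) :
    Nat.card X ∣ p ^ (Nat.card M).factorization p := by
  obtain ⟨k, hk⟩ := (IsPGroup.iff_card).1 hX
  have h1 : Nat.card X ∣ Nat.card M := Subgroup.card_dvd_of_le hXM
  rw [hk] at h1 ⊢
  have h2 : k ≤ (Nat.card M).factorization p :=
    (Nat.Prime.pow_dvd_iff_le_factorization hp.out Nat.card_pos.ne').1 h1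
  exact pow_dvd_pow p h2

theorem card_mul_relIndex {X M : Subgroup G} (hXM : X ≤ M) :
    Nat.card X * X.relIndex M = Nat.card M := by
  have := Subgroup.relIndex_mul_relIndex ⊥ X M bot_le hXM
  rwa [Subgroup.relIndex_bot_left, Subgroup.relIndex_bot_left] at this

theorem card_eq_pp {X M : Subgroup G} (hX : IsPGroup p X) (hXM : X ≤ M)
    (hidx : ¬ p ∣ X.relIndex M) : Nat.card X = p ^ (Nat.card M).factorization p := by
  obtain ⟨k, hk⟩ := (IsPGroup.iff_card).1 hX
  have h1 : Nat.card X * X.relIndex M = Nat.card M := card_mul_relIndex hXM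
  have hne : X.relIndex M ≠ 0 := by
    intro h0
    rw [h0, mul_zero] at h1
    exact Nat.card_pos.ne' h1.symm
  have h2 : (Nat.card M).factorization p = k := by
    rw [← h1, Nat.factorization_mul Nat.card_pos.ne' hne, Finsupp.add_apply, hk,
      hp.out.factorization_pow, Finsupp.single_eq_same,
      Nat.factorization_eq_zero_of_not_dvd hidx, add_zero]
  rw [h2, hk]

end pp

section Z
variable {G : Type u} [Group G]

/-- the centre of `P`, computed in the ambient group -/
def Zr (P : Subgroup G) : Subgroup G := P ⊓ Subgroup.centralizer (P : Set G)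

theorem Zr_le (P : Subgroup G) : Zr P ≤ P := inf_le_left

theorem Zr_map {G' : Type v} [Group G'] {P : Subgroup G} (f : G →* G')
    (h : ∀ x ∈ P, f x = 1 → x = 1) : Zr (P.map f) = (Zr P).map f := by
  unfold Zr
  ext y
  constructor
  · intro hy
    rw [Subgroup.mem_inf] at hy
    obtain ⟨⟨x, hxP, rfl⟩, hc⟩ := hy
    refine ⟨x, ?_, rfl⟩
    rw [SetLike.mem_coe, Subgroup.mem_inf]
    refine ⟨hxP, ?_⟩
    rw [Subgroup.mem_centralizer_iff] at hc ⊢
    intro z hz
    have h1 : f z * f x = f x * f z := hc (f z) (Subgroup.mem_map_of_mem f hz)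
    have h2 : f (z * x * (x * z)⁻¹) = 1 := by
      rw [map_mul, map_inv, map_mul, map_mul, h1, mul_inv_cancel]
    have h3 := h _ (P.mul_mem (P.mul_mem hz hxP) (P.inv_mem (P.mul_mem hxP hz))) h2
    exact mul_inv_eq_one.1 h3
  · rintro ⟨x, hx, rfl⟩
    rw [SetLike.mem_coe, Subgroup.mem_inf] at hx
    rw [Subgroup.mem_inf]
    obtain ⟨hxP, hc⟩ := hx
    refine ⟨Subgroup.mem_map_of_mem f hxP, ?_⟩
    rw [Subgroup.mem_centralizer_iff] at hc ⊢
    rintro _ ⟨z, hz, rfl⟩
    rw [← map_mul, ← map_mul, hc z hz]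

theorem Zr_cj (g : G) (P : Subgroup G) : Zr (cj g P) = cj g (Zr P) :=
  Zr_map (MulAut.conj g).toMonoidHom (fun x _ hx => by
    have := (MulAut.conj g).injective (a₁ := x) (a₂ := 1) (by simpa using hx)
    exact this)

theorem normalizer_le_normalizer_Zr (P : Subgroup G) :
    Subgroup.normalizer (P : Set G) ≤ Subgroup.normalizer (Zr P : Set G) := by
  intro g hg
  rw [Subgroup.mem_normalizer_iff_map_conj_eq] at hg ⊢
  have hg' : cj g P = P := hg
  have h1 := Zr_cj g P
  rw [hg'] at h1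
  exact h1.symm

theorem Zr_ne_bot [Finite G] {p : ℕ} [Fact p.Prime] {P : Subgroup G} (hP : IsPGroup p P)
    (h : P ≠ ⊥) : Zr P ≠ ⊥ := by
  have : Nontrivial ↥P := (Subgroup.nontrivial_iff_ne_bot P).2 h
  have := hP.center_nontrivial
  obtain ⟨z, hz⟩ := exists_ne (1 : ↥(Subgroup.center ↥P))
  intro hbot
  apply hz
  have h1 : ((z : ↥P) : G) ∈ Zr P := by
    unfold Zr
    rw [Subgroup.mem_inf]
    refine ⟨(z : ↥P).2, ?_⟩
    rw [Subgroup.mem_centralizer_iff]
    intro x hx
    have h2 := Subgroup.mem_center_iff.1 z.2 ⟨x, hx⟩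
    exact congrArg Subtype.val h2
  rw [hbot, Subgroup.mem_bot] at h1
  exact Subtype.ext (Subtype.ext h1)

theorem cj_of_mem {D : Subgroup G} {d : G} (hd : d ∈ D) : cj d D = D := by
  ext x
  rw [mem_cj_iff]
  constructor
  · intro h
    have h1 := D.mul_mem (D.mul_mem hd h) (D.inv_mem hd)
    have e : d * (d⁻¹ * x * d) * d⁻¹ = x := by group
    rwa [e] at h1
  · intro h
    exact D.mul_mem (D.mul_mem (D.inv_mem hd) h) hd

theorem le_normalizer_of_conj_mem {S L : Subgroup G}
    (h : ∀ g ∈ S, ∀ l ∈ L, g * l * g⁻¹ ∈ L) : S ≤ Subgroup.normalizer (L : Set G) := by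
  intro g hg
  rw [Subgroup.mem_normalizer_iff]
  intro x
  constructor
  · exact h g hg x
  · intro hx
    have h1 := h g⁻¹ (S.inv_mem hg) _ hx
    have e : g⁻¹ * (g * x * g⁻¹) * g⁻¹⁻¹ = x := by group
    rwa [e] at h1

end Z

section main
variable {G : Type u} [Group G] [Finite G] {p : ℕ} [hp : Fact p.Prime]

/-- the induction hypothesis: Thompson's theorem for all groups of order `< n` -/
def IHyp (p : ℕ) [Fact p.Prime] (n : ℕ) : Prop :=
  ∀ (G' : Type u) [Group G'] [Finite G'], Nat.card G' < n → ∀ P' : Sylow p G',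
    HasNormalPComplement p ↥(Subgroup.normalizer ((Jr p (P' : Subgroup G') : Subgroup G') : Set G')) →
    HasNormalPComplement p ↥(Subgroup.centralizer ((Zr (P' : Subgroup G') : Subgroup G') : Set G')) →
    HasNormalPComplement p G'

theorem exists_sylow_eq {N R : Subgroup G} (hR : IsPGroup p R)
    (hidx : ¬ p ∣ R.relIndex N) :
    ∃ S : Sylow p ↥N, (S : Subgroup ↥N) = R.subgroupOf N := by
  have hR' : IsPGroup p (R.subgroupOf N) := hR.comap_subtype
  obtain ⟨S, hS⟩ := hR'.exists_le_sylow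
  refine ⟨S, ?_⟩
  symm
  apply eq_of_le_of_not_dvd_relIndex p hS le_top S.2
  rw [Subgroup.relIndex_top_right]
  exact hidx

theorem sub_npc (IH : IHyp.{u} p (Nat.card G)) (N R : Subgroup G) (hN : N ≠ ⊤) (hRN : R ≤ N)
    (hR : IsPGroup p R) (hidx : ¬ p ∣ R.relIndex N)
    (hJ : HasNormalPComplement p ↥(Subgroup.normalizer ((Jr p R : Subgroup G) : Set G)))
    (hZ : HasNormalPComplement p ↥(Subgroup.centralizer ((Zr R : Subgroup G) : Set G))) :
    HasNormalPComplement p ↥N := by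
  obtain ⟨S, hS⟩ := exists_sylow_eq hR hidx
  have hmap : (S : Subgroup ↥N).map N.subtype = R := by
    rw [hS]; exact Subgroup.map_subgroupOf_eq_of_le hRN
  have hinj : ∀ x ∈ (S : Subgroup ↥N), N.subtype x = 1 → x = 1 := by
    intro x _ hx
    exact OneMemClass.coe_eq_one.1 hx
  have hJr : Jr p R = (Jr p (S : Subgroup ↥N)).map N.subtype := by
    rw [← hmap]; exact Jr_map N.subtype hinj
  have hZr : Zr R = (Zr (S : Subgroup ↥N)).map N.subtype := by
    rw [← hmap]; exact Zr_map N.subtype hinj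
  apply IH ↥N (card_lt_of_ne_top N hN) S
  · refine npc_of_le_map N.subtype N.subtype_injective ?_ hJ
    intro y hy
    rw [hJr]
    exact Subgroup.le_normalizer_map N.subtype (Subgroup.mem_map_of_mem _ hy)
  · refine npc_of_le_map N.subtype N.subtype_injective ?_ hZ
    intro y hy
    rw [hZr, Subgroup.mem_centralizer_iff]
    rintro _ ⟨z, hz, rfl⟩
    rw [Subgroup.mem_centralizer_iff] at hy
    have := hy z hz
    exact congrArg Subtype.val this

theorem quot_local (P : Sylow p G) (H : Subgroup G) [H.Normal] (hHP : H ≤ P)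
    (hloc : ∀ K₁ : Subgroup G, IsPGroup p K₁ → H < K₁ →
      (P : Subgroup G) ≤ Subgroup.normalizer (K₁ : Set G) →
      HasNormalPComplement p ↥(Subgroup.normalizer (K₁ : Set G)))
    (X : Subgroup (G ⧸ H)) (hX : X ≤ (P : Subgroup G).map (QuotientGroup.mk' H)) (hX1 : X ≠ ⊥)
    (hPX : (P : Subgroup G).map (QuotientGroup.mk' H) ≤ Subgroup.normalizer (X : Set (G ⧸ H))) :
    HasNormalPComplement p ↥(Subgroup.normalizer (X : Set (G ⧸ H))) := by
  have hsurj : Function.Surjective (QuotientGroup.mk' H) := QuotientGroup.mk'_surjective H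
  have hker : (QuotientGroup.mk' H).ker = H := QuotientGroup.ker_mk' H
  have hK₁P : X.comap (QuotientGroup.mk' H) ≤ P := by
    have h1 : X.comap (QuotientGroup.mk' H) ≤
        ((P : Subgroup G).map (QuotientGroup.mk' H)).comap (QuotientGroup.mk' H) :=
      Subgroup.comap_mono hX
    rw [Subgroup.comap_map_eq, hker, sup_eq_left.2 hHP] at h1
    exact h1
  have hK₁p : IsPGroup p (X.comap (QuotientGroup.mk' H)) := P.2.to_le hK₁P
  have hHK : H < X.comap (QuotientGroup.mk' H) := by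
    have hle : H ≤ X.comap (QuotientGroup.mk' H) :=
      hker.symm.le.trans (Subgroup.ker_le_comap (QuotientGroup.mk' H) X)
    refine lt_of_le_of_ne hle ?_
    intro heq
    apply hX1
    have h2 : X = (X.comap (QuotientGroup.mk' H)).map (QuotientGroup.mk' H) :=
      (Subgroup.map_comap_eq_self_of_surjective hsurj X).symm
    rw [h2, ← heq]
    exact (Subgroup.map_eq_bot_iff H).2 hker.ge
  have hnorm : Subgroup.normalizer ((X.comap (QuotientGroup.mk' H) : Subgroup G) : Set G) =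
      (Subgroup.normalizer (X : Set (G ⧸ H))).comap (QuotientGroup.mk' H) :=
    (Subgroup.comap_normalizer_eq_of_surjective X hsurj).symm
  have hPK : (P : Subgroup G) ≤
      Subgroup.normalizer ((X.comap (QuotientGroup.mk' H) : Subgroup G) : Set G) := by
    rw [hnorm, ← Subgroup.map_le_iff_le_comap]; exact hPX
  have h3 := hloc _ hK₁p hHK hPK
  refine npc_of_map_le (QuotientGroup.mk' H) ?_ h3
  rw [hnorm, Subgroup.map_comap_eq_self_of_surjective hsurj]

theorem quot_npc (IH : IHyp.{u} p (Nat.card G)) (P : Sylow p G) (H : Subgroup G) [H.Normal]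
    (hH1 : H ≠ ⊥) (hHP : H ≤ P) (hne : H ≠ (P : Subgroup G))
    (hloc : ∀ K₁ : Subgroup G, IsPGroup p K₁ → H < K₁ →
      (P : Subgroup G) ≤ Subgroup.normalizer (K₁ : Set G) →
      HasNormalPComplement p ↥(Subgroup.normalizer (K₁ : Set G))) :
    HasNormalPComplement p (G ⧸ H) := by
  have hsurj : Function.Surjective (QuotientGroup.mk' H) := QuotientGroup.mk'_surjective H
  have hker : (QuotientGroup.mk' H).ker = H := QuotientGroup.ker_mk' H
  have hPB1 : (P : Subgroup G).map (QuotientGroup.mk' H) ≠ ⊥ := by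
    intro h0
    rw [Subgroup.map_eq_bot_iff, hker] at h0
    exact hne (le_antisymm hHP h0)
  have hPBp : IsPGroup p ((P : Subgroup G).map (QuotientGroup.mk' H)) := P.2.map _
  apply IH (G ⧸ H) (card_quot_lt H hH1) (P.mapSurjective hsurj)
  · rw [Sylow.coe_mapSurjective]
    apply quot_local P H hHP hloc _ (Jr_le p _) (Jr_ne_bot hPBp hPB1)
    exact le_trans Subgroup.le_normalizer (normalizer_le_normalizer_Jr p _)
  · rw [Sylow.coe_mapSurjective]
    have h1 := quot_local P H hHP hloc (Zr ((P : Subgroup G).map (QuotientGroup.mk' H)))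
      (Zr_le _) (Zr_ne_bot hPBp hPB1)
      (le_trans Subgroup.le_normalizer (normalizer_le_normalizer_Zr _))
    exact npc_of_injective (Subgroup.inclusion (Subgroup.centralizer_le_normalizer _))
      (Subgroup.inclusion_injective _) h1

/-- Sylow conjugacy inside a subgroup -/
theorem exists_cj_le_of_sylow_in {M D E : Subgroup G} (hD : IsPGroup p D)
    (hidx : ¬ p ∣ D.relIndex M) (hEM : E ≤ M) (hE : IsPGroup p E) :
    ∃ m ∈ M, E ≤ cj m D := by
  obtain ⟨S₁, hS₁⟩ := exists_sylow_eq (N := M) hD hidx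
  have hE' : IsPGroup p (E.subgroupOf M) := hE.comap_subtype
  obtain ⟨S₂, hS₂⟩ := hE'.exists_le_sylow
  obtain ⟨m, hm⟩ := MulAction.exists_smul_eq ↥M S₁ S₂
  refine ⟨m, m.2, ?_⟩
  intro e he
  have h1 : (⟨e, hEM he⟩ : ↥M) ∈ (S₂ : Subgroup ↥M) :=
    hS₂ (by rw [Subgroup.mem_subgroupOf]; exact he)
  rw [← hm, sylow_smul_eq_cj, mem_cj_iff, hS₁, Subgroup.mem_subgroupOf] at h1
  rw [mem_cj_iff]
  exact h1

theorem disjoint_of_pgroup_coprime {D N₀ : Subgroup G} (hD : IsPGroup p D)
    (hN₀ : (Nat.card N₀).Coprime p) : D ⊓ N₀ = ⊥ := by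
  obtain ⟨k, hk⟩ := (IsPGroup.iff_card).1 hD
  have : (Nat.card D).Coprime (Nat.card N₀) := by
    rw [hk]; exact Nat.Coprime.pow_left k hN₀.symm
  exact (Subgroup.disjoint_of_coprime_natCard this).eq_bot

theorem normalizer_map_le_of_coprime (N₀ : Subgroup G) [N₀.Normal]
    (hN₀ : (Nat.card N₀).Coprime p) (D : Subgroup G) (hD : IsPGroup p D) :
    Subgroup.normalizer ((D.map (QuotientGroup.mk' N₀) : Subgroup (G ⧸ N₀)) : Set (G ⧸ N₀)) ≤
      (Subgroup.normalizer (D : Set G)).map (QuotientGroup.mk' N₀) := by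
  intro gb hgb
  obtain ⟨g, rfl⟩ := QuotientGroup.mk'_surjective N₀ gb
  have hdisj : D ⊓ N₀ = ⊥ := disjoint_of_pgroup_coprime hD hN₀
  have h1 : cj g D ≤ D ⊔ N₀ := by
    intro x hx
    have h2 : (QuotientGroup.mk' N₀) x ∈ D.map (QuotientGroup.mk' N₀) := by
      rw [mem_cj_iff] at hx
      have h3 := (Subgroup.mem_normalizer_iff.1 hgb
        ((QuotientGroup.mk' N₀) (g⁻¹ * x * g))).1 (Subgroup.mem_map_of_mem _ hx)
      have h4 : (QuotientGroup.mk' N₀) g * (QuotientGroup.mk' N₀) (g⁻¹ * x * g) *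
          ((QuotientGroup.mk' N₀) g)⁻¹ = (QuotientGroup.mk' N₀) x := by
        rw [← map_inv, ← map_mul, ← map_mul]
        congr 1
        group
      rwa [h4] at h3
    obtain ⟨d, hd, hdx⟩ := h2
    have h5 : d⁻¹ * x ∈ N₀ := by
      apply (QuotientGroup.eq_one_iff _).1
      show (QuotientGroup.mk' N₀) (d⁻¹ * x) = 1
      rw [map_mul, map_inv, hdx, inv_mul_cancel]
    have e : x = d * (d⁻¹ * x) := by group
    rw [e]
    exact Subgroup.mul_mem _ (Subgroup.mem_sup_left hd) (Subgroup.mem_sup_right h5)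
  have hcard : Nat.card (D ⊔ N₀ : Subgroup G) = Nat.card D * Nat.card N₀ := by
    have := card_sup_mul_inf_normal N₀ D
    rw [hdisj, Subgroup.card_bot, mul_one] at this
    exact this
  have hidx : ¬ p ∣ D.relIndex (D ⊔ N₀) := by
    have h2 : Nat.card D * D.relIndex (D ⊔ N₀) = Nat.card (D ⊔ N₀ : Subgroup G) :=
      card_mul_relIndex le_sup_left
    rw [hcard] at h2
    have h3 : D.relIndex (D ⊔ N₀) = Nat.card N₀ := Nat.eq_of_mul_eq_mul_left Nat.card_pos h2
    rw [h3]
    exact (Nat.Prime.coprime_iff_not_dvd hp.out).1 hN₀.symm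
  obtain ⟨m, hmM, hm⟩ := exists_cj_le_of_sylow_in hD hidx h1 (cj_isPGroup p g hD)
  have hc : ∀ a : G, Nat.card (cj a D) = Nat.card D := fun a =>
    Subgroup.card_map_of_injective (conj_injective a)
  have heq : cj g D = cj m D := Subgroup.eq_of_le_of_card_ge hm (by rw [hc, hc])
  have hmM' : m ∈ N₀ ⊔ D := by rwa [sup_comm]
  obtain ⟨n, hn, d, hd, rfl⟩ := Subgroup.mem_sup_of_normal_left.1 hmM'
  rw [cj_mul, cj_of_mem hd] at heq
  have hnorm : n⁻¹ * g ∈ Subgroup.normalizer (D : Set G) := by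
    rw [Subgroup.mem_normalizer_iff_map_conj_eq]
    have h6 : cj (n⁻¹ * g) D = D := by
      rw [cj_mul, heq, ← cj_mul, inv_mul_cancel, cj_one]
    exact h6
  refine ⟨n⁻¹ * g, hnorm, ?_⟩
  have h7 : (QuotientGroup.mk' N₀) n = 1 := (QuotientGroup.eq_one_iff n).2 hn
  rw [map_mul, map_inv, h7, inv_one, one_mul]

theorem centralizer_map_le_of_coprime (N₀ : Subgroup G) [N₀.Normal]
    (hN₀ : (Nat.card N₀).Coprime p) (D : Subgroup G) (hD : IsPGroup p D) :
    Subgroup.centralizer ((D.map (QuotientGroup.mk' N₀) : Subgroup (G ⧸ N₀)) : Set (G ⧸ N₀)) ≤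
      (Subgroup.centralizer (D : Set G)).map (QuotientGroup.mk' N₀) := by
  intro gb hgb
  obtain ⟨g, hg, rfl⟩ := normalizer_map_le_of_coprime N₀ hN₀ D hD
    (Subgroup.centralizer_le_normalizer _ hgb)
  refine ⟨g, ?_, rfl⟩
  show g ∈ Subgroup.centralizer (D : Set G)
  rw [Subgroup.mem_centralizer_iff]
  intro d hd
  have hdisj : D ⊓ N₀ = ⊥ := disjoint_of_pgroup_coprime hD hN₀
  have h1 : g * d * g⁻¹ ∈ D := (Subgroup.mem_normalizer_iff.1 hg d).1 hd
  have h2 : g * d * g⁻¹ * d⁻¹ ∈ D := D.mul_mem h1 (D.inv_mem hd)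
  have h3 : g * d * g⁻¹ * d⁻¹ ∈ N₀ := by
    apply (QuotientGroup.eq_one_iff _).1
    show (QuotientGroup.mk' N₀) (g * d * g⁻¹ * d⁻¹) = 1
    rw [map_mul, map_mul, map_mul, map_inv, map_inv]
    have := (Subgroup.mem_centralizer_iff.1 hgb) _
      (Subgroup.mem_map_of_mem (QuotientGroup.mk' N₀) hd)
    rw [← this]
    group
  have h4 : g * d * g⁻¹ * d⁻¹ = 1 := by
    have : g * d * g⁻¹ * d⁻¹ ∈ D ⊓ N₀ := ⟨h2, h3⟩
    rwa [hdisj, Subgroup.mem_bot] at this
  calc d * g = (g * d * g⁻¹ * d⁻¹)⁻¹ * (g * d) := by group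
    _ = g * d := by rw [h4, inv_one, one_mul]

theorem pprime_quot_npc (IH : IHyp.{u} p (Nat.card G)) (P : Sylow p G)
    (hJ : HasNormalPComplement p
      ↥(Subgroup.normalizer ((Jr p (P : Subgroup G) : Subgroup G) : Set G)))
    (hZ : HasNormalPComplement p
      ↥(Subgroup.centralizer ((Zr (P : Subgroup G) : Subgroup G) : Set G)))
    (N₀ : Subgroup G) [N₀.Normal] (hN₀ : (Nat.card N₀).Coprime p) (hN₀1 : N₀ ≠ ⊥) :
    HasNormalPComplement p G := by
  have hsurj := QuotientGroup.mk'_surjective N₀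
  have hdisj : (P : Subgroup G) ⊓ N₀ = ⊥ := disjoint_of_pgroup_coprime P.2 hN₀
  have hinj : ∀ x ∈ (P : Subgroup G), (QuotientGroup.mk' N₀) x = 1 → x = 1 := by
    intro x hx h1
    have h2 : x ∈ N₀ := (QuotientGroup.eq_one_iff x).1 h1
    have : x ∈ (P : Subgroup G) ⊓ N₀ := ⟨hx, h2⟩
    rwa [hdisj, Subgroup.mem_bot] at this
  apply npc_of_quotient N₀ hN₀
  apply IH (G ⧸ N₀) (card_quot_lt N₀ hN₀1) (P.mapSurjective hsurj)
  · rw [Sylow.coe_mapSurjective, Jr_map _ hinj]
    exact npc_of_map_le _ (normalizer_map_le_of_coprime N₀ hN₀ _ (P.2.to_le (Jr_le p _))) hJ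
  · rw [Sylow.coe_mapSurjective, Zr_map _ hinj]
    exact npc_of_map_le _ (centralizer_map_le_of_coprime N₀ hN₀ _ (P.2.to_le (Zr_le _))) hZ

end main

end Cfsg.Agent.Lib.Lead.ThompsonRed
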