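import Mathlib
import Cfsg.Agent.Lib.Lead.ThompsonRed
import Cfsg.Agent.S0023

set_option autoImplicit false
set_option linter.unusedSectionVars false
set_option linter.style.haveILetI false

universe u v

namespace Cfsg.Agent.Lib.Lead.ThompsonMin

open Cfsg Cfsg.Agent.Lib.Helper2 Cfsg.Agent.Lib.Helper4 Cfsg.Agent.Lib.Lead.ThompsonJ
  Cfsg.Agent.Lib.Lead.ThompsonRed

section bad
variable {G : Type u} [Group G] [Finite G] {p : ℕ} [hp : Fact p.Prime]

def Bad (p : ℕ) (X : Subgroup G) : Prop :=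
  IsPGroup p X ∧ X ≠ ⊥ ∧ ¬ HasNormalPComplement p ↥(Subgroup.normalizer (X : Set G))

noncomputable def ee (p : ℕ) (X : Subgroup G) : ℕ :=
  (Nat.card (Subgroup.normalizer (X : Set G))).factorization p

noncomputable def mu (p : ℕ) (X : Subgroup G) : ℕ :=
  ee p X * (Nat.card G + 1) + Nat.card X

theorem bad_cj (g : G) {X : Subgroup G} (h : Bad p X) : Bad p (cj g X) := by
  refine ⟨cj_isPGroup p g h.1, ?_, ?_⟩
  · intro h0
    apply h.2.1
    exact (Subgroup.map_eq_bot_iff_of_injective X (conj_injective g)).1 h0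
  · intro hn
    apply h.2.2
    refine npc_of_le_map (MulAut.conj g).toMonoidHom (conj_injective g) ?_ hn
    intro y hy
    rw [cj_normalizer]
    exact conj_mem_cj g _ hy

theorem mu_cj (g : G) (X : Subgroup G) : mu p (cj g X) = mu p X := by
  have hc : ∀ Y : Subgroup G, Nat.card (cj g Y) = Nat.card Y := fun Y =>
    Subgroup.card_map_of_injective (conj_injective g)
  unfold mu ee
  rw [cj_normalizer, hc, hc]

theorem mu_lt_of_ee_lt {X Y : Subgroup G} (h : ee p X < ee p Y) : mu p X < mu p Y := by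
  have h1 : Nat.card X ≤ Nat.card G := Subgroup.card_le_card_group X
  have h2 : (ee p X + 1) * (Nat.card G + 1) ≤ ee p Y * (Nat.card G + 1) :=
    Nat.mul_le_mul_right _ h
  have h3 : (ee p X + 1) * (Nat.card G + 1) = ee p X * (Nat.card G + 1) + (Nat.card G + 1) := by
    ring
  unfold mu
  omega

theorem mu_lt_of_ee_le_of_card_lt {X Y : Subgroup G} (h : ee p X ≤ ee p Y)
    (hc : Nat.card X < Nat.card Y) : mu p X < mu p Y := by
  have h2 : ee p X * (Nat.card G + 1) ≤ ee p Y * (Nat.card G + 1) :=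
    Nat.mul_le_mul_right _ h
  unfold mu
  omega

theorem normalizer_condition_in {P R : Subgroup G} (hP : IsPGroup p P) (hRP : R < P) :
    ∃ x ∈ P, x ∈ Subgroup.normalizer (R : Set G) ∧ x ∉ R := by
  haveI : Group.IsNilpotent ↥P := hP.isNilpotent
  have hnc := Group.normalizerCondition_of_isNilpotent (G := ↥P)
  have hlt : R.subgroupOf P < ⊤ := by
    rw [lt_top_iff_ne_top]
    intro h
    rw [Subgroup.subgroupOf_eq_top] at h
    exact not_le_of_gt hRP h
  have h1 := hnc (R.subgroupOf P) hlt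
  obtain ⟨x, hxN, hxR⟩ := SetLike.exists_of_lt h1
  refine ⟨x, x.2, ?_, ?_⟩
  · rw [Subgroup.mem_normalizer_iff]
    intro h
    constructor
    · intro hh
      have hhP : h ∈ P := hRP.le hh
      exact ((Subgroup.mem_normalizer_iff.1 hxN) ⟨h, hhP⟩).1 hh
    · intro hh
      have hhP : h ∈ P := by
        have h2 : (x : G) * h * (x : G)⁻¹ ∈ P := hRP.le hh
        have h3 := P.mul_mem (P.mul_mem (P.inv_mem x.2) h2) x.2
        have e : (x : G)⁻¹ * ((x : G) * h * (x : G)⁻¹) * (x : G) = h := by group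
        rwa [e] at h3
      exact ((Subgroup.mem_normalizer_iff.1 hxN) ⟨h, hhP⟩).2 hh
  · intro hx
    exact hxR hx

theorem exists_normal_bad (IH : IHyp.{u} p (Nat.card G)) (P : Sylow p G)
    (hJ : HasNormalPComplement p
      ↥(Subgroup.normalizer ((Jr p (P : Subgroup G) : Subgroup G) : Set G)))
    (hZ : HasNormalPComplement p
      ↥(Subgroup.centralizer ((Zr (P : Subgroup G) : Subgroup G) : Set G)))
    (hnot : ¬ HasNormalPComplement p G) :
    ∃ H : Subgroup G, H.Normal ∧ H ≤ (P : Subgroup G) ∧ H ≠ ⊥ ∧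
      ∀ K₁ : Subgroup G, IsPGroup p K₁ → H < K₁ →
        (P : Subgroup G) ≤ Subgroup.normalizer (K₁ : Set G) →
        HasNormalPComplement p ↥(Subgroup.normalizer (K₁ : Set G)) := by
  classical
  have hex : ∃ X : Subgroup G, Bad p X := by
    by_contra hcon
    push Not at hcon
    apply hnot
    apply hasNormalPComplement_of_local p
    intro Q hQ hQ1
    by_contra h
    exact hcon Q ⟨hQ, hQ1, h⟩
  obtain ⟨X₀, hX₀⟩ := hex
  haveI : Nonempty {X : Subgroup G // Bad p X} := ⟨⟨X₀, hX₀⟩⟩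
  obtain ⟨⟨H₀, hH₀⟩, hmax⟩ :=
    Finite.exists_max (fun X : {X : Subgroup G // Bad p X} => mu p X.1)
  have hmax' : ∀ X, Bad p X → mu p X ≤ mu p H₀ := fun X hX => hmax ⟨X, hX⟩
  obtain ⟨g, hgP, hgidx⟩ :=
    exists_cj_sylow_normalizer p P H₀ H₀ Subgroup.le_normalizer hH₀.1
  have hHbad : Bad p (cj g H₀) := bad_cj g hH₀
  have hHmax : ∀ X, Bad p X → mu p X ≤ mu p (cj g H₀) := fun X hX => by
    rw [mu_cj]; exact hmax' X hX
  generalize cj g H₀ = H at hgP hgidx hHbad hHmax
  have hHN : H ≤ Subgroup.normalizer (H : Set G) := Subgroup.le_normalizer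
  have hRp : IsPGroup p ((P : Subgroup G) ⊓ Subgroup.normalizer (H : Set G) : Subgroup G) :=
    P.2.to_le inf_le_left
  have hRcard : Nat.card ((P : Subgroup G) ⊓ Subgroup.normalizer (H : Set G) : Subgroup G) =
      p ^ ee p H := card_eq_pp hRp inf_le_right hgidx
  have hHR : H ≤ (P : Subgroup G) ⊓ Subgroup.normalizer (H : Set G) := le_inf hgP hHN
  have hR1 : ((P : Subgroup G) ⊓ Subgroup.normalizer (H : Set G) : Subgroup G) ≠ ⊥ := by
    intro h0
    apply hHbad.2.1
    rw [h0] at hHR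
    exact le_bot_iff.1 hHR
  have hNtop : Subgroup.normalizer (H : Set G) = ⊤ := by
    by_contra hNne
    apply hHbad.2.2
    by_cases hPN : (P : Subgroup G) ≤ Subgroup.normalizer (H : Set G)
    · have hRP : (P : Subgroup G) ⊓ Subgroup.normalizer (H : Set G) = P := inf_eq_left.2 hPN
      rw [hRP] at hgidx
      exact sub_npc IH _ P hNne hPN P.2 hgidx hJ hZ
    · have hRltP : (P : Subgroup G) ⊓ Subgroup.normalizer (H : Set G) < P :=
        lt_of_le_of_ne inf_le_left (fun h => hPN (h ▸ inf_le_right))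
      generalize hRdef : (P : Subgroup G) ⊓ Subgroup.normalizer (H : Set G) = R at *
      obtain ⟨x, hxP, hxN, hxR⟩ := normalizer_condition_in P.2 hRltP
      have hRR₁ : R ≤ (P : Subgroup G) ⊓ Subgroup.normalizer (R : Set G) :=
        le_inf hRltP.le Subgroup.le_normalizer
      have hR₁p : IsPGroup p ((P : Subgroup G) ⊓ Subgroup.normalizer (R : Set G) : Subgroup G) :=
        P.2.to_le inf_le_left
      have hlt : Nat.card R <
          Nat.card ((P : Subgroup G) ⊓ Subgroup.normalizer (R : Set G) : Subgroup G) := by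
        by_contra hge
        push Not at hge
        have h5 := Subgroup.eq_of_le_of_card_ge hRR₁ hge
        apply hxR
        rw [h5]
        exact ⟨hxP, hxN⟩
      have key : ∀ X : Subgroup G, X ≤ R → X ≠ ⊥ →
          Subgroup.normalizer (R : Set G) ≤ Subgroup.normalizer (X : Set G) →
          HasNormalPComplement p ↥(Subgroup.normalizer (X : Set G)) := by
        intro X hXR hX1 hnorm
        by_contra hX
        have hXbad : Bad p X := ⟨hRp.to_le hXR, hX1, hX⟩
        have h1 := hHmax X hXbad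
        have h2 : ee p H < ee p X := by
          have h3 : Nat.card ((P : Subgroup G) ⊓ Subgroup.normalizer (R : Set G) : Subgroup G) ∣
              p ^ ee p X := card_dvd_pp hR₁p (le_trans inf_le_right hnorm)
          obtain ⟨k, hk⟩ := (IsPGroup.iff_card).1 hR₁p
          rw [hk] at h3 hlt
          rw [hRcard] at hlt
          have h4 : k ≤ ee p X := (Nat.pow_dvd_pow_iff_le_right hp.out.one_lt).1 h3
          have h5 : ee p H < k := (Nat.pow_lt_pow_iff_right hp.out.one_lt).1 hlt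
          omega
        exact absurd h1 (not_le.2 (mu_lt_of_ee_lt h2))
      have hJR := key (Jr p R) (Jr_le p R) (Jr_ne_bot hRp hR1) (normalizer_le_normalizer_Jr p R)
      have hZR := key (Zr R) (Zr_le R) (Zr_ne_bot hRp hR1) (normalizer_le_normalizer_Zr R)
      have hZR' : HasNormalPComplement p ↥(Subgroup.centralizer ((Zr R : Subgroup G) : Set G)) :=
        npc_of_injective (Subgroup.inclusion (Subgroup.centralizer_le_normalizer _))
          (Subgroup.inclusion_injective _) hZR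
      have hRN : R ≤ Subgroup.normalizer (H : Set G) := by rw [← hRdef]; exact inf_le_right
      exact sub_npc IH _ R hNne hRN hRp hgidx hJR hZR'
  have hHnormal : H.Normal := Subgroup.normalizer_eq_top_iff.1 hNtop
  refine ⟨H, hHnormal, hgP, hHbad.2.1, ?_⟩
  intro K₁ hK₁p hHK hPK
  by_contra hK
  have hKbad : Bad p K₁ := ⟨hK₁p, (bot_le.trans_lt hHK).ne', hK⟩
  have h1 := hHmax K₁ hKbad
  have h2 : ee p H ≤ ee p K₁ := by
    have h3 : Nat.card (P : Subgroup G) ∣ p ^ ee p K₁ := card_dvd_pp P.2 hPK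
    rw [P.card_eq_multiplicity] at h3
    have h4 := (Nat.pow_dvd_pow_iff_le_right hp.out.one_lt).1 h3
    have h5 : ee p H = (Nat.card G).factorization p := by
      unfold ee
      rw [hNtop, Subgroup.card_top]
    rw [h5]
    exact h4
  have h3 : Nat.card H < Nat.card K₁ := by
    by_contra hge
    push Not at hge
    exact hHK.ne (Subgroup.eq_of_le_of_card_ge hHK.le hge)
  exact absurd h1 (not_le.2 (mu_lt_of_ee_le_of_card_lt h2 h3))

end bad


section cfg
variable {G : Type u} [Group G] [Finite G] {p : ℕ} [hp : Fact p.Prime]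

/-- the configuration of a minimal counterexample after the first reductions -/
structure Cfg (p : ℕ) [Fact p.Prime] (G : Type u) [Group G] [Finite G] (P : Sylow p G)
    (H K : Subgroup G) : Prop where
  IH : IHyp.{u} p (Nat.card G)
  hJ : HasNormalPComplement p
    ↥(Subgroup.normalizer ((Jr p (P : Subgroup G) : Subgroup G) : Set G))
  hZ : HasNormalPComplement p
    ↥(Subgroup.centralizer ((Zr (P : Subgroup G) : Subgroup G) : Set G))
  hnot : ¬ HasNormalPComplement p G
  Hn : H.Normal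
  Kn : K.Normal
  HP : H ≤ P
  H1 : H ≠ ⊥
  HK : H ≤ K
  idx : ¬ p ∣ H.relIndex K
  KP : K ⊔ P = ⊤
  hmaxH : ∀ X : Subgroup G, X.Normal → IsPGroup p X → X ≤ H

theorem exists_cfg (IH : IHyp.{u} p (Nat.card G)) (P : Sylow p G)
    (hJ : HasNormalPComplement p
      ↥(Subgroup.normalizer ((Jr p (P : Subgroup G) : Subgroup G) : Set G)))
    (hZ : HasNormalPComplement p
      ↥(Subgroup.centralizer ((Zr (P : Subgroup G) : Subgroup G) : Set G)))
    (hnot : ¬ HasNormalPComplement p G) :
    ∃ H K : Subgroup G, Cfg p G P H K := by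
  obtain ⟨H, hHn, hHP, hH1, hloc⟩ := exists_normal_bad IH P hJ hZ hnot
  haveI := hHn
  have hHp : IsPGroup p H := P.2.to_le hHP
  have hmaxH : ∀ X : Subgroup G, X.Normal → IsPGroup p X → X ≤ H := by
    intro X hXn hXp
    by_contra hXH
    haveI := hXn
    have hlt : H < H ⊔ X :=
      lt_of_le_of_ne le_sup_left (fun h => hXH (le_sup_right.trans h.ge))
    have hsupn : (H ⊔ X).Normal := inferInstance
    have hp' : IsPGroup p ↥(H ⊔ X) := hHp.to_sup_of_normal_right hXp
    have htop : Subgroup.normalizer ((H ⊔ X : Subgroup G) : Set G) = ⊤ :=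
      Subgroup.normalizer_eq_top_iff.2 hsupn
    exact hnot (npc_of_top htop (hloc _ hp' hlt (by rw [htop]; exact le_top)))
  have hneP : H ≠ (P : Subgroup G) := by
    intro h
    have h1 : Subgroup.normalizer ((Jr p (P : Subgroup G) : Subgroup G) : Set G) = ⊤ := by
      apply top_le_iff.1
      have h2 : Subgroup.normalizer ((P : Subgroup G) : Set G) = ⊤ := by
        rw [← h]; exact Subgroup.normalizer_eq_top_iff.2 hHn
      rw [← h2]
      exact normalizer_le_normalizer_Jr p _
    exact hnot (npc_of_top h1 hJ)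
  have hq := quot_npc IH P H hH1 hHP hneP hloc
  obtain ⟨KB, hKBn, hKBc, hKBq⟩ := exists_normal_hall_of_hasNormalPComplement p hq
  have hKn : (KB.comap (QuotientGroup.mk' H)).Normal := hKBn.comap _
  have hHK : H ≤ KB.comap (QuotientGroup.mk' H) :=
    (QuotientGroup.ker_mk' H).symm.le.trans (Subgroup.ker_le_comap _ _)
  have hcardK : Nat.card (KB.comap (QuotientGroup.mk' H)) = Nat.card KB * Nat.card H :=
    card_comap_mk_quot H KB
  have hidx : ¬ p ∣ H.relIndex (KB.comap (QuotientGroup.mk' H)) := by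
    have h2 := card_mul_relIndex hHK
    have h3 : Nat.card H * H.relIndex (KB.comap (QuotientGroup.mk' H)) =
        Nat.card H * Nat.card KB := by
      rw [h2, hcardK, mul_comm]
    rw [Nat.eq_of_mul_eq_mul_left Nat.card_pos h3]
    exact (Nat.Prime.coprime_iff_not_dvd hp.out).1 hKBc.symm
  have hKP : KB.comap (QuotientGroup.mk' H) ⊔ P = ⊤ := by
    have hKidx : (KB.comap (QuotientGroup.mk' H)).index = KB.index :=
      Subgroup.index_comap_of_surjective KB (QuotientGroup.mk'_surjective H)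
    obtain ⟨a, ha⟩ := (IsPGroup.iff_card).1 hKBq
    have hKBidx : KB.index = p ^ a := by rw [Subgroup.index_eq_card]; exact ha
    have h1 : (KB.comap (QuotientGroup.mk' H) ⊔ P).index ∣ p ^ a := by
      rw [← hKBidx, ← hKidx]; exact Subgroup.index_dvd_of_le le_sup_left
    have h2 : (KB.comap (QuotientGroup.mk' H) ⊔ P).index ∣ (P : Subgroup G).index :=
      Subgroup.index_dvd_of_le le_sup_right
    have h3 : ¬ p ∣ (P : Subgroup G).index := P.not_dvd_index
    have h4 : (KB.comap (QuotientGroup.mk' H) ⊔ P).index = 1 := by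
      obtain ⟨i, -, hi⟩ := (Nat.dvd_prime_pow hp.out).1 h1
      rcases Nat.eq_zero_or_pos i with rfl | hpos
      · simpa using hi
      · exfalso
        apply h3
        refine dvd_trans ?_ h2
        rw [hi]; exact dvd_pow_self p hpos.ne'
    exact Subgroup.index_eq_one.1 h4
  exact ⟨H, KB.comap (QuotientGroup.mk' H),
    ⟨IH, hJ, hZ, hnot, hHn, hKn, hHP, hH1, hHK, hidx, hKP, hmaxH⟩⟩

variable {P : Sylow p G} {H K : Subgroup G}

theorem Cfg.Hp (c : Cfg p G P H K) : IsPGroup p H := P.2.to_le c.HP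

theorem Cfg.KP_inf (c : Cfg p G P H K) : K ⊓ P = H :=
  (eq_of_le_of_not_dvd_relIndex p (le_inf c.HK c.HP) inf_le_left
    (P.2.to_le inf_le_right) c.idx).symm

theorem Cfg.pow_mem_K (c : Cfg p G P H K) (g : G) : ∃ k : ℕ, g ^ (p ^ k) ∈ K := by
  haveI := c.Kn
  have h1 : K.index = K.relIndex P := by
    have := Subgroup.relIndex_sup_left (P : Subgroup G) K
    rw [c.KP, Subgroup.relIndex_top_right] at this
    exact this
  have h2 : K.relIndex P ∣ Nat.card (P : Subgroup G) := Subgroup.relIndex_dvd_card K P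
  obtain ⟨k, hk⟩ := (IsPGroup.iff_card).1 P.2
  rw [hk] at h2
  obtain ⟨i, -, hi⟩ := (Nat.dvd_prime_pow hp.out).1 h2
  have hq : IsPGroup p (G ⧸ K) := by
    apply IsPGroup.of_card (n := i)
    rw [← Subgroup.index_eq_card, h1, hi]
  obtain ⟨j, hj⟩ := hq (g : G ⧸ K)
  refine ⟨j, ?_⟩
  apply (QuotientGroup.eq_one_iff _).1
  rw [QuotientGroup.mk_pow]
  exact hj

theorem Cfg.sub (c : Cfg p G P H K) (Y : Subgroup G) (hPY : (P : Subgroup G) ≤ Y)
    (hY : Y ≠ ⊤) : HasNormalPComplement p ↥Y := by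
  have hidx : ¬ p ∣ (P : Subgroup G).relIndex Y := by
    intro h
    exact P.not_dvd_index (dvd_trans h (Subgroup.relIndex_dvd_index_of_le hPY))
  exact sub_npc c.IH Y P hY hPY P.2 hidx c.hJ c.hZ

theorem Cfg.opp (c : Cfg p G P H K) (N₀ : Subgroup G) (hn : N₀.Normal)
    (hc : (Nat.card N₀).Coprime p) : N₀ = ⊥ := by
  by_contra h
  haveI := hn
  exact c.hnot (pprime_quot_npc c.IH P c.hJ c.hZ N₀ hc h)

theorem npc_of_central_sylow {M : Type u} [Group M] [Finite M] (Z₀ : Subgroup M)
    (hZ₀ : Z₀ ≤ Subgroup.center M) (hZp : IsPGroup p Z₀) (hidx : ¬ p ∣ Z₀.index) :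
    HasNormalPComplement p M := by
  obtain ⟨S, hS⟩ := hZp.exists_le_sylow
  have hSZ : Z₀ = S :=
    eq_of_le_of_not_dvd_relIndex p hS le_top S.2 (by rwa [Subgroup.relIndex_top_right])
  have hcent : Subgroup.centralizer ((S : Subgroup M) : Set M) = ⊤ := by
    rw [← hSZ, Subgroup.centralizer_eq_top_iff_subset]
    exact fun x hx => hZ₀ hx
  have hN : Subgroup.normalizer ((S : Subgroup M) : Set M) ≤
      Subgroup.centralizer ((S : Subgroup M) : Set M) := by
    rw [hcent]; exact le_top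
  exact ⟨S, (MonoidHom.transferSylow S hN).ker, inferInstance,
    MonoidHom.ker_transferSylow_isComplement' S hN⟩

theorem Cfg.cent_le (c : Cfg p G P H K) : Subgroup.centralizer (H : Set G) ≤ H := by
  haveI := c.Hn
  haveI := c.Kn
  haveI hCn : (Subgroup.centralizer (H : Set G)).Normal := Subgroup.normal_centralizer
  have hMn : (Subgroup.centralizer (H : Set G) ⊓ K).Normal := inferInstance
  generalize hMdef : Subgroup.centralizer (H : Set G) ⊓ K = M at hMn
  have hMC : M ≤ Subgroup.centralizer (H : Set G) := by rw [← hMdef]; exact inf_le_left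
  have hMK : M ≤ K := by rw [← hMdef]; exact inf_le_right
  have hnpcM : HasNormalPComplement p ↥M := by
    apply npc_of_central_sylow (H.subgroupOf M)
    · intro z hz
      rw [Subgroup.mem_center_iff]
      intro m
      have h1 := Subgroup.mem_centralizer_iff.1 (hMC m.2) (z : G) hz
      exact Subtype.ext h1.symm
    · exact c.Hp.comap_subtype
    · show ¬ p ∣ H.relIndex M
      have h1 : H.relIndex (H ⊔ M) = H.relIndex M := Subgroup.relIndex_sup_left M H
      have h2 : H.relIndex (H ⊔ M) * (H ⊔ M).relIndex K = H.relIndex K :=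
        Subgroup.relIndex_mul_relIndex H (H ⊔ M) K le_sup_left (sup_le c.HK hMK)
      intro hdvd
      apply c.idx
      rw [← h2, h1]
      exact dvd_mul_of_dvd_left hdvd _
  obtain ⟨T', hT'n, hT'c, hT'q⟩ := exists_normal_hall_of_hasNormalPComplement p hnpcM
  have hmem := mem_iff_coprime_of_normal_hall p T' hT'c hT'q
  have hTn : (T'.map M.subtype).Normal := by
    constructor
    rintro _ ⟨t', ht', rfl⟩ g
    have hmemM : g * (t' : G) * g⁻¹ ∈ M := hMn.conj_mem _ t'.2 g
    refine ⟨⟨g * (t' : G) * g⁻¹, hmemM⟩, ?_, rfl⟩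
    rw [SetLike.mem_coe, hmem] at ht' ⊢
    rw [← Subgroup.orderOf_coe] at ht' ⊢
    have h1 : orderOf (g * (t' : G) * g⁻¹) = orderOf (t' : G) :=
      orderOf_injective (MulAut.conj g).toMonoidHom (conj_injective g) _
    show (orderOf (g * (t' : G) * g⁻¹)).Coprime p
    rw [h1]
    exact ht'
  have hTc : (Nat.card (T'.map M.subtype)).Coprime p := by
    rw [Subgroup.card_map_of_injective M.subtype_injective]; exact hT'c
  have hT1 : T'.map M.subtype = ⊥ := c.opp _ hTn hTc
  have hT'1 : T' = ⊥ := (Subgroup.map_eq_bot_iff_of_injective T' M.subtype_injective).1 hT1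
  have hMp : IsPGroup p ↥M := by
    intro m
    obtain ⟨k, hk⟩ := hT'q (m : ↥M ⧸ T')
    refine ⟨k, ?_⟩
    have h1 : m ^ (p ^ k) ∈ T' := by
      apply (QuotientGroup.eq_one_iff _).1
      rw [QuotientGroup.mk_pow]
      exact hk
    rw [hT'1, Subgroup.mem_bot] at h1
    exact h1
  have hMH : M ≤ H := c.hmaxH M hMn hMp
  have hCp : IsPGroup p ↥(Subgroup.centralizer (H : Set G)) := by
    rintro ⟨x, hx⟩
    obtain ⟨k, hk⟩ := c.pow_mem_K x
    have h1 : x ^ (p ^ k) ∈ M := by
      rw [← hMdef]; exact ⟨Subgroup.pow_mem _ hx _, hk⟩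
    obtain ⟨j, hj⟩ := c.Hp ⟨x ^ (p ^ k), hMH h1⟩
    refine ⟨k + j, ?_⟩
    apply Subtype.ext
    have h2 : (x ^ (p ^ k)) ^ (p ^ j) = 1 := congrArg Subtype.val hj
    show x ^ p ^ (k + j) = 1
    rw [pow_add, pow_mul]
    exact h2
  exact c.hmaxH _ hCn hCp

theorem Cfg.claimF (c : Cfg p G P H K) (Y : Subgroup G) (hHY : H ≤ Y) (hYK : Y ≤ K)
    (hPY : (P : Subgroup G) ≤ Subgroup.normalizer (Y : Set G)) (hne : Y ≠ K) : Y = H := by
  haveI := c.Hn
  haveI := c.Kn
  have hEtop : Y ⊔ (P : Subgroup G) ≠ ⊤ := by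
    intro htop
    apply hne
    have hYn : Y.Normal := by
      rw [← Subgroup.normalizer_eq_top_iff, ← top_le_iff, ← htop]
      exact sup_le Subgroup.le_normalizer hPY
    haveI := hYn
    have h1 : Y.index = Y.relIndex P := by
      have := Subgroup.relIndex_sup_left (P : Subgroup G) Y
      rw [htop, Subgroup.relIndex_top_right] at this
      exact this
    have h2 : Y.relIndex K ∣ Y.index := Subgroup.relIndex_dvd_index_of_le hYK
    have h3 : Y.relIndex K ∣ H.relIndex K := Subgroup.relIndex_dvd_of_le_left K hHY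
    have h4 : Y.relIndex P ∣ Nat.card (P : Subgroup G) := Subgroup.relIndex_dvd_card Y P
    obtain ⟨k, hk⟩ := (IsPGroup.iff_card).1 P.2
    rw [hk] at h4
    rw [h1] at h2
    obtain ⟨i, -, hi⟩ := (Nat.dvd_prime_pow hp.out).1 (dvd_trans h2 h4)
    have h5 : Y.relIndex K = 1 := by
      rcases Nat.eq_zero_or_pos i with rfl | hpos
      · simpa using hi
      · exfalso
        apply c.idx
        refine dvd_trans ?_ h3
        rw [hi]; exact dvd_pow_self p hpos.ne'
    exact le_antisymm hYK (Subgroup.relIndex_eq_one.1 h5)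
  have hYE : Y ≤ Y ⊔ (P : Subgroup G) := le_sup_left
  have hsub := c.sub (Y ⊔ (P : Subgroup G)) le_sup_right hEtop
  generalize Y ⊔ (P : Subgroup G) = E at hYE hsub
  obtain ⟨T', hT'n, hT'c, hT'q⟩ := exists_normal_hall_of_hasNormalPComplement p hsub
  have hTc : (Nat.card (T'.map E.subtype)).Coprime p := by
    rw [Subgroup.card_map_of_injective E.subtype_injective]; exact hT'c
  have hTE : ∀ e ∈ E, ∀ t ∈ T'.map E.subtype, e * t * e⁻¹ ∈ T'.map E.subtype := by
    rintro e he _ ⟨t', ht', rfl⟩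
    exact ⟨⟨e, he⟩ * t' * ⟨e, he⟩⁻¹, hT'n.conj_mem t' ht' _, rfl⟩
  have hdisj : H ⊓ T'.map E.subtype = ⊥ := disjoint_of_pgroup_coprime c.Hp hTc
  have hTC : T'.map E.subtype ≤ Subgroup.centralizer (H : Set G) := by
    intro t ht
    rw [Subgroup.mem_centralizer_iff]
    intro h hh
    have hhE : h ∈ E := hYE (hHY hh)
    have h1 : h * t * h⁻¹ * t⁻¹ ∈ T'.map E.subtype :=
      Subgroup.mul_mem _ (hTE h hhE t ht) (Subgroup.inv_mem _ ht)
    have h2 : h * t * h⁻¹ * t⁻¹ ∈ H := by
      have h3 : t * h⁻¹ * t⁻¹ ∈ H := c.Hn.conj_mem _ (H.inv_mem hh) _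
      have h4 := H.mul_mem hh h3
      have e : h * (t * h⁻¹ * t⁻¹) = h * t * h⁻¹ * t⁻¹ := by group
      rwa [e] at h4
    have h5 : h * t * h⁻¹ * t⁻¹ = 1 := by
      have : h * t * h⁻¹ * t⁻¹ ∈ H ⊓ T'.map E.subtype := ⟨h2, h1⟩
      rwa [hdisj, Subgroup.mem_bot] at this
    calc h * t = (h * t * h⁻¹ * t⁻¹) * (t * h) := by group
      _ = t * h := by rw [h5, one_mul]
  have hT1 : T'.map E.subtype = ⊥ := by
    have : T'.map E.subtype ≤ H ⊓ T'.map E.subtype := le_inf (hTC.trans c.cent_le) le_rfl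
    rw [hdisj] at this
    exact le_bot_iff.1 this
  have hT'1 : T' = ⊥ := (Subgroup.map_eq_bot_iff_of_injective T' E.subtype_injective).1 hT1
  have hEp : IsPGroup p ↥E := by
    intro m
    obtain ⟨k, hk⟩ := hT'q (m : ↥E ⧸ T')
    refine ⟨k, ?_⟩
    have h1 : m ^ (p ^ k) ∈ T' := by
      apply (QuotientGroup.eq_one_iff _).1
      rw [QuotientGroup.mk_pow]
      exact hk
    rw [hT'1, Subgroup.mem_bot] at h1
    exact h1
  have hYp : IsPGroup p Y := hEp.to_le hYE
  exact (eq_of_le_of_not_dvd_relIndex p hHY hYK hYp c.idx).symm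

theorem Cfg.K_ne_H (c : Cfg p G P H K) : K ≠ H := by
  intro h
  apply c.hnot
  have h1 : (P : Subgroup G) = ⊤ := by
    have := c.KP
    rw [h, sup_eq_right.2 c.HP] at this
    exact this
  exact npc_of_top h1 (npc_of_isPGroup P.2)

theorem comap_map_mk' [H.Normal] (Y : Subgroup G) (hHY : H ≤ Y) :
    (Y.map (QuotientGroup.mk' H)).comap (QuotientGroup.mk' H) = Y := by
  rw [Subgroup.comap_map_eq, QuotientGroup.ker_mk', sup_eq_left.2 hHY]

theorem Cfg.card_KB [H.Normal] (c : Cfg p G P H K) :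
    Nat.card (K.map (QuotientGroup.mk' H)) = H.relIndex K := by
  have h1 := card_comap_mk_quot H (K.map (QuotientGroup.mk' H))
  rw [comap_map_mk' K c.HK] at h1
  have h2 := card_mul_relIndex c.HK
  have h3 : Nat.card H * Nat.card (K.map (QuotientGroup.mk' H)) =
      Nat.card H * H.relIndex K := by
    rw [h2, h1, mul_comm]
  exact Nat.eq_of_mul_eq_mul_left Nat.card_pos h3

theorem Cfg.qgroup [H.Normal] (c : Cfg p G P H K) :
    ∃ q : ℕ, q.Prime ∧ q ≠ p ∧ IsPGroup q ↥(K.map (QuotientGroup.mk' H)) := by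
  haveI := c.Kn
  have hsurj := QuotientGroup.mk'_surjective H
  have hker := QuotientGroup.ker_mk' H
  have hKBcard := c.card_KB
  have hcomapKB := comap_map_mk' K c.HK
  have hKBn : (K.map (QuotientGroup.mk' H)).Normal := c.Kn.map _ hsurj
  generalize K.map (QuotientGroup.mk' H) = KB at hKBcard hcomapKB hKBn
  have hKBcop : (Nat.card KB).Coprime p := by
    rw [hKBcard]; exact ((Nat.Prime.coprime_iff_not_dvd hp.out).2 c.idx).symm
  have hKB1 : Nat.card KB ≠ 1 := by
    rw [hKBcard]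
    intro h1
    exact c.K_ne_H (le_antisymm (Subgroup.relIndex_eq_one.1 h1) c.HK)
  have hqp : (Nat.card KB).minFac.Prime := Nat.minFac_prime hKB1
  have hqdvd : (Nat.card KB).minFac ∣ Nat.card KB := Nat.minFac_dvd _
  generalize (Nat.card KB).minFac = q at hqp hqdvd
  have hqne : q ≠ p := by
    intro h
    have : p ∣ Nat.card KB := h ▸ hqdvd
    exact (Nat.Prime.coprime_iff_not_dvd hp.out).1 hKBcop.symm this
  haveI : Fact q.Prime := ⟨hqp⟩
  refine ⟨q, hqp, hqne, ?_⟩
  have hPBp : IsPGroup p ((P : Subgroup G).map (QuotientGroup.mk' H)) := P.2.map _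
  have hAK : (P : Subgroup G).map (QuotientGroup.mk' H) ≤
      Subgroup.normalizer (KB : Set (G ⧸ H)) := by
    rw [Subgroup.normalizer_eq_top_iff.2 hKBn]; exact le_top
  have hcop : (Nat.card ((P : Subgroup G).map (QuotientGroup.mk' H))).Coprime (Nat.card KB) := by
    obtain ⟨k, hk⟩ := (IsPGroup.iff_card).1 hPBp
    rw [hk]; exact Nat.Coprime.pow_left k hKBcop.symm
  have hsolv : Group.IsSolvable ↥((P : Subgroup G).map (QuotientGroup.mk' H)) := by
    haveI := hPBp.isNilpotent
    infer_instance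
  obtain ⟨QB, hQB⟩ := Cfsg.Agent.S0023.result _ KB hAK hcop (Or.inl hsolv) q
  have hYBKB : (QB : Subgroup ↥KB).map KB.subtype ≤ KB := Subgroup.map_subtype_le _
  have hYBdef : ∀ x : ↥KB, (x : G ⧸ H) ∈ (QB : Subgroup ↥KB).map KB.subtype →
      x ∈ (QB : Subgroup ↥KB) := by
    rintro x ⟨y, hy, hyx⟩
    have hxy : y = x := Subtype.ext hyx
    rw [← hxy]; exact hy
  have hYB1 : (QB : Subgroup ↥KB).map KB.subtype ≠ ⊥ := by
    intro h0
    have hQB1 : (QB : Subgroup ↥KB) = ⊥ :=
      (Subgroup.map_eq_bot_iff_of_injective _ KB.subtype_injective).1 h0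
    have hcardQ : Nat.card (QB : Subgroup ↥KB) = q ^ (Nat.card ↥KB).factorization q :=
      QB.card_eq_multiplicity
    rw [hQB1, Subgroup.card_bot] at hcardQ
    have hpos : 0 < (Nat.card ↥KB).factorization q :=
      hqp.factorization_pos_of_dvd Nat.card_pos.ne' hqdvd
    have : 1 < q ^ (Nat.card ↥KB).factorization q := Nat.one_lt_pow hpos.ne' hqp.one_lt
    omega
  generalize (QB : Subgroup ↥KB).map KB.subtype = YB at hQB hYBKB hYBdef hYB1
  have hHY : H ≤ YB.comap (QuotientGroup.mk' H) :=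
    hker.symm.le.trans (Subgroup.ker_le_comap _ _)
  have hYK : YB.comap (QuotientGroup.mk' H) ≤ K := by
    rw [← hcomapKB]; exact Subgroup.comap_mono hYBKB
  have hPY : (P : Subgroup G) ≤
      Subgroup.normalizer ((YB.comap (QuotientGroup.mk' H) : Subgroup G) : Set G) := by
    rw [← Subgroup.comap_normalizer_eq_of_surjective YB hsurj, ← Subgroup.map_le_iff_le_comap]
    exact hQB
  have hmapY : (YB.comap (QuotientGroup.mk' H)).map (QuotientGroup.mk' H) = YB :=
    Subgroup.map_comap_eq_self_of_surjective hsurj YB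
  have hmapK : K.map (QuotientGroup.mk' H) = KB := by
    rw [← hcomapKB]; exact Subgroup.map_comap_eq_self_of_surjective hsurj KB
  have hYeqK : YB.comap (QuotientGroup.mk' H) = K := by
    by_contra hne
    have hYH := c.claimF _ hHY hYK hPY hne
    apply hYB1
    rw [← hmapY, hYH]
    exact (Subgroup.map_eq_bot_iff H).2 hker.ge
  have hYBeq : YB = KB := by rw [← hmapY, hYeqK, hmapK]
  intro x
  have hx : (x : G ⧸ H) ∈ YB := by rw [hYBeq]; exact x.2
  have hxQ := hYBdef x hx
  obtain ⟨k, hk⟩ := QB.2 ⟨x, hxQ⟩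
  exact ⟨k, congrArg Subtype.val hk⟩

theorem Cfg.abelian (c : Cfg p G P H K) :
    ∀ k₁ ∈ K, ∀ k₂ ∈ K, k₁ * k₂ * k₁⁻¹ * k₂⁻¹ ∈ H := by
  haveI := c.Hn
  haveI := c.Kn
  obtain ⟨q, hqp, hqne, hKBq⟩ := c.qgroup
  haveI : Fact q.Prime := ⟨hqp⟩
  have hsurj := QuotientGroup.mk'_surjective H
  have hker := QuotientGroup.ker_mk' H
  have hcomapKB := comap_map_mk' K c.HK
  have hKBn : (K.map (QuotientGroup.mk' H)).Normal := c.Kn.map _ hsurj
  have hmemKB : ∀ k ∈ K, (QuotientGroup.mk' H) k ∈ K.map (QuotientGroup.mk' H) :=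
    fun k hk => Subgroup.mem_map_of_mem _ hk
  have hmapK : (K.map (QuotientGroup.mk' H)) = K.map (QuotientGroup.mk' H) := rfl
  generalize K.map (QuotientGroup.mk' H) = KB at hKBq hcomapKB hKBn hmemKB hmapK
  haveI := hKBn
  have hKBne : KB ≠ ⊥ := by
    intro h0
    rw [h0, MonoidHom.comap_bot] at hcomapKB
    apply c.K_ne_H
    rw [← hcomapKB]; exact hker
  haveI : Nontrivial ↥KB := (Subgroup.nontrivial_iff_ne_bot KB).2 hKBne
  haveI : Group.IsNilpotent ↥KB := hKBq.isNilpotent
  have hlt : commutator ↥KB < ⊤ := Group.IsSolvable.commutator_lt_top_of_nontrivial ↥KB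
  have hDne : ⁅KB, KB⁆ ≠ KB := by
    intro h
    rw [← Subgroup.map_subtype_commutator] at h
    have h2 : (commutator ↥KB).map KB.subtype = (⊤ : Subgroup ↥KB).map KB.subtype := by
      rw [h, ← MonoidHom.range_eq_map, Subgroup.range_subtype]
    have h3 := Subgroup.map_injective KB.subtype_injective h2
    exact hlt.ne h3
  have hDn : (⁅KB, KB⁆).Normal := inferInstance
  have hDle : ⁅KB, KB⁆ ≤ KB := Subgroup.commutator_le_right KB KB
  have hY : (⁅KB, KB⁆).comap (QuotientGroup.mk' H) = H := by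
    apply c.claimF
    · exact hker.symm.le.trans (Subgroup.ker_le_comap _ _)
    · rw [← hcomapKB]; exact Subgroup.comap_mono hDle
    · have : ((⁅KB, KB⁆).comap (QuotientGroup.mk' H)).Normal := hDn.comap _
      rw [Subgroup.normalizer_eq_top_iff.2 this]; exact le_top
    · intro h
      apply hDne
      rw [← Subgroup.map_comap_eq_self_of_surjective hsurj ⁅KB, KB⁆, h, ← hcomapKB,
        Subgroup.map_comap_eq_self_of_surjective hsurj]
  intro k₁ hk₁ k₂ hk₂
  have h3 := Subgroup.commutator_mem_commutator (hmemKB k₁ hk₁) (hmemKB k₂ hk₂)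
  rw [commutatorElement_def] at h3
  have h4 : k₁ * k₂ * k₁⁻¹ * k₂⁻¹ ∈ (⁅KB, KB⁆).comap (QuotientGroup.mk' H) := by
    rw [Subgroup.mem_comap, map_mul, map_mul, map_mul, map_inv, map_inv]
    exact h3
  rwa [hY] at h4

theorem Cfg.faithful (c : Cfg p G P H K) (x : G) (hx : x ∈ (P : Subgroup G))
    (hxK : ∀ k ∈ K, x * k * x⁻¹ * k⁻¹ ∈ H) : x ∈ H := by
  haveI := c.Hn
  haveI := c.Kn
  have hsurj := QuotientGroup.mk'_surjective H
  haveI hKBn : (K.map (QuotientGroup.mk' H)).Normal := c.Kn.map _ hsurj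
  haveI hCBn : (Subgroup.centralizer
      ((K.map (QuotientGroup.mk' H) : Subgroup (G ⧸ H)) : Set (G ⧸ H))).Normal :=
    Subgroup.normal_centralizer
  have hC'n : ((Subgroup.centralizer
      ((K.map (QuotientGroup.mk' H) : Subgroup (G ⧸ H)) : Set (G ⧸ H))).comap
      (QuotientGroup.mk' H)).Normal := hCBn.comap _
  have hmemC' : ∀ g : G, g ∈ (Subgroup.centralizer
      ((K.map (QuotientGroup.mk' H) : Subgroup (G ⧸ H)) : Set (G ⧸ H))).comap
      (QuotientGroup.mk' H) ↔ ∀ k ∈ K, g * k * g⁻¹ * k⁻¹ ∈ H := by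
    intro g
    rw [Subgroup.mem_comap, Subgroup.mem_centralizer_iff]
    constructor
    · intro h k hk
      have h1 := h _ (Subgroup.mem_map_of_mem (QuotientGroup.mk' H) hk)
      apply (QuotientGroup.eq_one_iff _).1
      show (QuotientGroup.mk' H) (g * k * g⁻¹ * k⁻¹) = 1
      rw [map_mul, map_mul, map_mul, map_inv, map_inv, ← h1]
      group
    · rintro h _ ⟨k, hk, rfl⟩
      have h1 : (QuotientGroup.mk' H) (g * k * g⁻¹ * k⁻¹) = 1 :=
        (QuotientGroup.eq_one_iff _).2 (h k hk)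
      rw [map_mul, map_mul, map_mul, map_inv, map_inv, ← commutatorElement_def,
        commutatorElement_eq_one_iff_commute] at h1
      exact h1.eq.symm
  generalize (Subgroup.centralizer
      ((K.map (QuotientGroup.mk' H) : Subgroup (G ⧸ H)) : Set (G ⧸ H))).comap
      (QuotientGroup.mk' H) = C' at hC'n hmemC'
  have hLn : ((P : Subgroup G) ⊓ C').Normal := by
    rw [← Subgroup.normalizer_eq_top_iff, ← top_le_iff, ← c.KP]
    apply sup_le
    · apply le_normalizer_of_conj_mem
      intro k hk l hl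
      rw [Subgroup.mem_inf] at hl ⊢
      refine ⟨?_, hC'n.conj_mem l hl.2 k⟩
      have h1 : l * k * l⁻¹ * k⁻¹ ∈ H := (hmemC' l).1 hl.2 k hk
      have e : k * l * k⁻¹ = (l * k * l⁻¹ * k⁻¹)⁻¹ * l := by group
      rw [e]
      exact Subgroup.mul_mem _ (c.HP (H.inv_mem h1)) hl.1
    · apply le_normalizer_of_conj_mem
      intro y hy l hl
      rw [Subgroup.mem_inf] at hl ⊢
      exact ⟨Subgroup.mul_mem _ (Subgroup.mul_mem _ hy hl.1) (Subgroup.inv_mem _ hy),
        hC'n.conj_mem l hl.2 y⟩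
  have hLp : IsPGroup p ↥((P : Subgroup G) ⊓ C') := P.2.to_le inf_le_left
  have hLH := c.hmaxH _ hLn hLp
  exact hLH ⟨hx, (hmemC' x).2 hxK⟩

theorem Cfg.J_not_le (c : Cfg p G P H K) : ¬ Jr p (P : Subgroup G) ≤ H := by
  intro h
  have h1 : Jr p H = Jr p (P : Subgroup G) := Jr_eq_of_le h c.HP
  have h2 : Subgroup.normalizer ((Jr p (P : Subgroup G) : Subgroup G) : Set G) = ⊤ := by
    apply top_le_iff.1
    rw [← h1, ← Subgroup.normalizer_eq_top_iff.2 c.Hn]
    exact normalizer_le_normalizer_Jr p H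
  exact c.hnot (npc_of_top h2 c.hJ)

end cfg

end Cfsg.Agent.Lib.Lead.ThompsonMin
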