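import Mathlib

set_option autoImplicit false
set_option linter.unusedSectionVars false
set_option linter.style.haveILetI false

namespace Cfsg.Agent.Lib.Lead.ThompsonNorm

open scoped IsMulCommutative in
/-- the abstract norm argument for quadratic action -/
theorem norm_arg {M : Type*} [Group M] [IsMulCommutative M] {Y : Type*} [Group Y] [Fintype Y]
    (S : Subgroup M) (X : M →* M) (r : Y →* MulAut M) (φ : Y ≃ Y)
    (hrS : ∀ y, ∀ m ∈ S, r y m ∈ S)
    (hquad : ∀ y, ∀ m ∈ S, r y (X (r y (X m))) = (r y (X m)) ^ 2 * m⁻¹)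
    (hsq : ∀ y, ∀ m ∈ S, r y (X (r y (X m))) = r (φ y) (X (X m)))
    (hpow : ∀ m ∈ S, m ^ Fintype.card Y = 1 → m = 1) :
    ∀ z, ∀ m ∈ S, r z m = m := by
  have key : ∀ m ∈ S, (∏ y : Y, r y m) = m ^ Fintype.card Y := by
    intro m hm
    have hX1 : X (X m) = (X m) ^ 2 * m⁻¹ := by
      have := hquad 1 m hm
      simpa using this
    have e1 : (∏ y : Y, r y (X (r y (X m)))) =
        (∏ y : Y, r y (X m)) ^ 2 * (m⁻¹) ^ Fintype.card Y := by
      rw [Finset.prod_congr rfl (fun y _ => hquad y m hm), Finset.prod_mul_distrib,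
        Finset.prod_pow, Finset.prod_const, Finset.card_univ]
    have e2 : (∏ y : Y, r y (X (r y (X m)))) = ∏ y : Y, r y (X (X m)) := by
      rw [Finset.prod_congr rfl (fun y _ => hsq y m hm)]
      exact Fintype.prod_equiv φ (fun y => r (φ y) (X (X m))) (fun y => r y (X (X m)))
        (fun _ => rfl)
    have e3 : (∏ y : Y, r y (X (X m))) =
        (∏ y : Y, r y (X m)) ^ 2 * (∏ y : Y, r y m)⁻¹ := by
      rw [hX1]
      simp only [map_mul, map_pow, map_inv]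
      rw [Finset.prod_mul_distrib, Finset.prod_pow, Finset.prod_inv_distrib]
    have e4 : (∏ y : Y, r y (X m)) ^ 2 * (m⁻¹) ^ Fintype.card Y =
        (∏ y : Y, r y (X m)) ^ 2 * (∏ y : Y, r y m)⁻¹ := by
      rw [← e1, e2, e3]
    have e5 := mul_left_cancel e4
    rw [inv_pow] at e5
    exact (inv_injective e5).symm
  intro z m hm
  have h1 : r z (∏ y : Y, r y m) = ∏ y : Y, r y m := by
    rw [map_prod]
    have h2 : ∀ y, r z (r y m) = r (z * y) m := fun y => by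
      rw [map_mul, MulAut.mul_apply]
    rw [Finset.prod_congr rfl (fun y _ => h2 y)]
    exact Fintype.prod_equiv (Equiv.mulLeft z) (fun y => r (z * y) m) (fun y => r y m)
      (fun _ => rfl)
  rw [key m hm] at h1
  have h2 : (r z m * m⁻¹) ^ Fintype.card Y = 1 := by
    rw [mul_pow, ← map_pow, h1, inv_pow, mul_inv_cancel]
  have h3 := hpow _ (S.mul_mem (hrS z m hm) (S.inv_mem hm)) h2
  exact mul_inv_eq_one.1 h3

section grp
variable {G : Type*} [Group G]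

theorem quad_sq {V : Subgroup G} (Vcomm : ∀ a ∈ V, ∀ b ∈ V, a * b = b * a)
    {t w : G} (hw : w ∈ V) (htw : t * w * t⁻¹ ∈ V)
    (hd : t * (t * w * t⁻¹ * w⁻¹) * t⁻¹ = t * w * t⁻¹ * w⁻¹) :
    t * (t * w * t⁻¹) * t⁻¹ = (t * w * t⁻¹) ^ 2 * w⁻¹ := by
  have e1 : t * (t * w * t⁻¹) * t⁻¹ =
      (t * (t * w * t⁻¹ * w⁻¹) * t⁻¹) * (t * w * t⁻¹) := by group
  have hc : w⁻¹ * (t * w * t⁻¹) = (t * w * t⁻¹) * w⁻¹ := Vcomm w⁻¹ (V.inv_mem hw) _ htw
  rw [e1, hd, pow_two, mul_assoc (t * w * t⁻¹) w⁻¹ (t * w * t⁻¹), hc, ← mul_assoc]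

theorem quad_conj {x u w : G}
    (h : x * (x * (u⁻¹ * w * u) * x⁻¹ * (u⁻¹ * w * u)⁻¹) * x⁻¹ =
      x * (u⁻¹ * w * u) * x⁻¹ * (u⁻¹ * w * u)⁻¹) :
    (u * x * u⁻¹) * ((u * x * u⁻¹) * w * (u * x * u⁻¹)⁻¹ * w⁻¹) * (u * x * u⁻¹)⁻¹ =
      (u * x * u⁻¹) * w * (u * x * u⁻¹)⁻¹ * w⁻¹ := by
  have e3 : (u * x * u⁻¹) * ((u * x * u⁻¹) * w * (u * x * u⁻¹)⁻¹ * w⁻¹) * (u * x * u⁻¹)⁻¹ =
      u * (x * (x * (u⁻¹ * w * u) * x⁻¹ * (u⁻¹ * w * u)⁻¹) * x⁻¹) * u⁻¹ := by group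
  have e4 : (u * x * u⁻¹) * w * (u * x * u⁻¹)⁻¹ * w⁻¹ =
      u * (x * (u⁻¹ * w * u) * x⁻¹ * (u⁻¹ * w * u)⁻¹) * u⁻¹ := by group
  rw [e3, e4, h]

/-- Fermat: a `p`-element normalising a group of order `p` centralises it -/
theorem conj_eq_of_pow {p : ℕ} [Fact p.Prime] {x d : G} {k j : ℕ} (hx : x ^ (p ^ k) = 1)
    (hd : d ^ p = 1) (h : x * d * x⁻¹ = d ^ j) : x * d * x⁻¹ = d := by
  have h1 : ∀ i : ℕ, x ^ i * d * (x ^ i)⁻¹ = d ^ (j ^ i) := by
    intro i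
    induction i with
    | zero => simp
    | succ i ih =>
      have e : x ^ (i + 1) * d * (x ^ (i + 1))⁻¹ = x * (x ^ i * d * (x ^ i)⁻¹) * x⁻¹ := by
        rw [pow_succ']; group
      rw [e, ih, ← conj_pow, h, ← pow_mul, ← pow_succ']
  by_cases hd1 : d = 1
  · rw [hd1]; group
  have hord : orderOf d = p := orderOf_eq_prime hd hd1
  have h2 := h1 (p ^ k)
  rw [hx] at h2
  have h3 : d ^ 1 = d ^ (j ^ (p ^ k)) := by simpa using h2
  rw [pow_eq_pow_iff_modEq, hord] at h3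
  have h4 : (j : ZMod p) = 1 := by
    have h5 : ((j ^ (p ^ k) : ℕ) : ZMod p) = ((1 : ℕ) : ZMod p) :=
      (ZMod.natCast_eq_natCast_iff _ _ _).2 h3.symm
    rw [Nat.cast_pow, ZMod.pow_card_pow, Nat.cast_one] at h5
    exact h5
  have h6 : j ≡ 1 [MOD p] := by
    apply (ZMod.natCast_eq_natCast_iff _ _ _).1
    rw [h4, Nat.cast_one]
  have h7 : d ^ j = d ^ 1 := by
    rw [pow_eq_pow_iff_modEq, hord]; exact h6
  rw [h, h7, pow_one]

theorem comm_fixed_pow {x v : G} {n : ℕ} (hx : x ^ n = 1)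
    (hfix : x * (x * v * x⁻¹ * v⁻¹) * x⁻¹ = x * v * x⁻¹ * v⁻¹) :
    (x * v * x⁻¹ * v⁻¹) ^ n = 1 := by
  have hiter : ∀ i : ℕ, x ^ i * v * (x ^ i)⁻¹ = (x * v * x⁻¹ * v⁻¹) ^ i * v := by
    intro i
    induction i with
    | zero => simp
    | succ i ih =>
      have e : x ^ (i + 1) * v * (x ^ (i + 1))⁻¹ = x * (x ^ i * v * (x ^ i)⁻¹) * x⁻¹ := by
        rw [pow_succ']; group
      have e2 : x * ((x * v * x⁻¹ * v⁻¹) ^ i * v) * x⁻¹ =
          (x * (x * v * x⁻¹ * v⁻¹) * x⁻¹) ^ i * ((x * v * x⁻¹ * v⁻¹) * v) := by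
        rw [conj_pow]; group
      rw [e, ih, e2, hfix, pow_succ]
      simp only [mul_assoc]
  have h1 := hiter n
  rw [hx] at h1
  have h2 : 1 * v = (x * v * x⁻¹ * v⁻¹) ^ n * v := by simpa using h1
  exact (mul_right_cancel h2).symm

theorem conj_eq_of_inverted {x u : G} {n : ℕ} (hx : x ^ n = 1) (hn : Odd n)
    (h : x * u * x⁻¹ = u⁻¹) : x * u * x⁻¹ = u := by
  have h2 : Commute (x ^ 2) u := by
    show x ^ 2 * u = u * x ^ 2
    have e : x ^ 2 * u = (x * (x * u * x⁻¹) * x⁻¹) * x ^ 2 := by rw [pow_two]; group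
    have e' : x * u⁻¹ * x⁻¹ = (x * u * x⁻¹)⁻¹ := by group
    rw [e, h, e', h, inv_inv]
  obtain ⟨m, hm⟩ := hn
  have h3 : (x ^ 2) ^ (m + 1) = x := by
    rw [← pow_mul]
    have : 2 * (m + 1) = n + 1 := by omega
    rw [this, pow_succ, hx, one_mul]
  have h4 : Commute x u := by
    have := h2.pow_left (m + 1)
    rwa [h3] at this
  rw [h4.eq, mul_inv_cancel_right]

/-- a `p'`-element centralising `Ω₁(A)` of an abelian `p`-group `A` centralises `A` -/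
theorem omega_lemma {p : ℕ} {A : Subgroup G} (hA : ∀ a ∈ A, ∃ j : ℕ, a ^ (p ^ j) = 1)
    (hcomm : ∀ a ∈ A, ∀ b ∈ A, a * b = b * a) {k : G}
    (hk : (orderOf k).Coprime p) (hkA : ∀ a ∈ A, k * a * k⁻¹ ∈ A)
    (hΩ : ∀ a ∈ A, a ^ p = 1 → k * a * k⁻¹ = a) : ∀ a ∈ A, k * a * k⁻¹ = a := by
  have key : ∀ j : ℕ, ∀ a ∈ A, a ^ (p ^ j) = 1 → k * a * k⁻¹ = a := by
    intro j
    induction j with
    | zero =>
      intro a _ ha1
      rw [pow_zero, pow_one] at ha1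
      rw [ha1]; group
    | succ j ih =>
      intro a ha ha1
      have h1 : (a ^ p) ^ (p ^ j) = 1 := by rw [← pow_mul, ← pow_succ']; exact ha1
      have h2 : k * a ^ p * k⁻¹ = a ^ p := ih (a ^ p) (A.pow_mem ha p) h1
      have hbA : k * a * k⁻¹ ∈ A := hkA a ha
      have hcm : Commute (k * a * k⁻¹) a⁻¹ := hcomm _ hbA _ (A.inv_mem ha)
      have hc : (k * a * k⁻¹ * a⁻¹) ^ p = 1 := by
        rw [hcm.mul_pow, conj_pow, h2, inv_pow, mul_inv_cancel]
      have hcA : k * a * k⁻¹ * a⁻¹ ∈ A := A.mul_mem hbA (A.inv_mem ha)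
      have hfix : k * (k * a * k⁻¹ * a⁻¹) * k⁻¹ = k * a * k⁻¹ * a⁻¹ := hΩ _ hcA hc
      have hcn : (k * a * k⁻¹ * a⁻¹) ^ orderOf k = 1 :=
        comm_fixed_pow (pow_orderOf_eq_one k) hfix
      have h3 : orderOf (k * a * k⁻¹ * a⁻¹) ∣ Nat.gcd (orderOf k) p :=
        Nat.dvd_gcd (orderOf_dvd_of_pow_eq_one hcn) (orderOf_dvd_of_pow_eq_one hc)
      rw [Nat.Coprime.gcd_eq_one hk] at h3
      have h4 : k * a * k⁻¹ * a⁻¹ = 1 := orderOf_eq_one_iff.1 (Nat.dvd_one.1 h3)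
      exact mul_inv_eq_one.1 h4
  intro a ha
  obtain ⟨j, hj⟩ := hA a ha
  exact key j a ha hj

end grp

section quadratic
variable {G : Type*} [Group G] [Finite G]

open scoped IsMulCommutative in
theorem quadratic_centralizes (V W Q₁ : Subgroup G) [V.Normal] (x : G)
    (Vcomm : ∀ a ∈ V, ∀ b ∈ V, a * b = b * a) (WV : W ≤ V)
    (xW : ∀ w ∈ W, x * w * x⁻¹ ∈ W) (QW : ∀ u ∈ Q₁, ∀ w ∈ W, u * w * u⁻¹ ∈ W)
    (Qcomm : ∀ a ∈ Q₁, ∀ b ∈ Q₁, a * b = b * a) (xQ : ∀ u ∈ Q₁, x * u * x⁻¹ ∈ Q₁)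
    (hWpow : ∀ w ∈ W, w ^ Nat.card Q₁ = 1 → w = 1)
    (fix : ∀ u ∈ Q₁, x * u * x⁻¹ = u → u = 1)
    (inv : ∀ u ∈ Q₁, x * u * x⁻¹ = u⁻¹ → u = 1)
    (quad : ∀ w ∈ W, x * (x * w * x⁻¹ * w⁻¹) * x⁻¹ = x * w * x⁻¹ * w⁻¹) :
    ∀ u ∈ Q₁, ∀ w ∈ W, u * w * u⁻¹ = w := by
  classical
  haveI : IsMulCommutative ↥V :=
    isMulCommutative_iff.2 (fun a b => Subtype.ext (Vcomm a a.2 b b.2))
  haveI : IsMulCommutative ↥Q₁ :=
    isMulCommutative_iff.2 (fun a b => Subtype.ext (Qcomm a a.2 b b.2))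
  letI : Fintype ↥Q₁ := Fintype.ofFinite _
  let c : ↥Q₁ →* ↥Q₁ :=
    ((MulAut.conj x).toMonoidHom.comp Q₁.subtype).codRestrict Q₁ (fun u => xQ u u.2)
  have hc : ∀ u : ↥Q₁, ((c u : ↥Q₁) : G) = x * u * x⁻¹ := fun u => rfl
  let κ : ↥Q₁ →* ↥Q₁ :=
    { toFun := fun u => u * (c u)⁻¹
      map_one' := by simp
      map_mul' := fun a b => by rw [map_mul, mul_inv, mul_mul_mul_comm] }
  let φ' : ↥Q₁ →* ↥Q₁ :=
    { toFun := fun u => u * c u
      map_one' := by simp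
      map_mul' := fun a b => by rw [map_mul, mul_mul_mul_comm] }
  have hκinj : Function.Injective κ := by
    rw [injective_iff_map_eq_one]
    intro u hu
    have h1 : u * (c u)⁻¹ = 1 := hu
    have h2 : u = c u := mul_inv_eq_one.1 h1
    have h3 : x * (u : G) * x⁻¹ = u := by rw [← hc u, ← h2]
    exact Subtype.ext (fix u u.2 h3)
  have hφinj : Function.Injective φ' := by
    rw [injective_iff_map_eq_one]
    intro u hu
    have h1 : u * c u = 1 := hu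
    have h2 : c u = u⁻¹ := eq_inv_of_mul_eq_one_right h1
    have h3 : x * (u : G) * x⁻¹ = (u : G)⁻¹ := by rw [← hc u, h2]; rfl
    exact Subtype.ext (inv u u.2 h3)
  have hκsurj : Function.Surjective κ := Finite.injective_iff_surjective.1 hκinj
  let φ : ↥Q₁ ≃ ↥Q₁ := Equiv.ofBijective φ' ⟨hφinj, Finite.injective_iff_surjective.1 hφinj⟩
  have hφ : ∀ y : ↥Q₁, ((φ y : ↥Q₁) : G) = y * (x * y * x⁻¹) := fun y => rfl
  let X : ↥V →* ↥V := (MulAut.conjNormal x : MulAut ↥V).toMonoidHom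
  let r : ↥Q₁ →* MulAut ↥V := (MulAut.conjNormal (H := V)).comp Q₁.subtype
  have hr : ∀ (y : ↥Q₁) (m : ↥V), ((r y m : ↥V) : G) = y * m * (y : G)⁻¹ :=
    fun y m => MulAut.conjNormal_apply _ _
  have hX : ∀ m : ↥V, ((X m : ↥V) : G) = x * m * x⁻¹ := fun m => MulAut.conjNormal_apply _ _
  have hXS : ∀ m ∈ W.subgroupOf V, X m ∈ W.subgroupOf V := by
    intro m hm
    rw [Subgroup.mem_subgroupOf] at hm ⊢
    rw [hX]; exact xW _ hm
  have hrS : ∀ y, ∀ m ∈ W.subgroupOf V, r y m ∈ W.subgroupOf V := by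
    intro y m hm
    rw [Subgroup.mem_subgroupOf] at hm ⊢
    rw [hr]; exact QW y y.2 _ hm
  have hmain := norm_arg (W.subgroupOf V) X r φ hrS ?_ ?_ ?_
  · intro u hu w hw
    have h1 := hmain ⟨u, hu⟩ ⟨w, WV hw⟩ (by rw [Subgroup.mem_subgroupOf]; exact hw)
    have h2 := congrArg Subtype.val h1
    rw [hr] at h2
    exact h2
  · -- hquad
    intro y m hm
    rw [Subgroup.mem_subgroupOf] at hm
    obtain ⟨u', hu'⟩ := hκsurj y
    have hy : (y : G) * x = u' * x * (u' : G)⁻¹ := by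
      have h1 : ((κ u' : ↥Q₁) : G) = y := by rw [hu']
      have h2 : ((κ u' : ↥Q₁) : G) = u' * (x * u' * x⁻¹)⁻¹ := rfl
      rw [← h1, h2]; group
    have hw' : (u' : G)⁻¹ * m * u' ∈ W := by
      have := QW (u' : G)⁻¹ (Q₁.inv_mem u'.2) m hm
      rwa [inv_inv] at this
    have hd := quad_conj (quad _ hw')
    rw [← hy] at hd
    have htw : (y : G) * x * m * ((y : G) * x)⁻¹ ∈ V := by
      have h1 := xW m hm
      have h2 := QW y y.2 _ h1
      have e : (y : G) * x * m * ((y : G) * x)⁻¹ = y * (x * m * x⁻¹) * (y : G)⁻¹ := by group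
      rw [e]; exact WV h2
    have hq := quad_sq Vcomm (WV hm) htw hd
    apply Subtype.ext
    simp only [Subgroup.coe_mul, Subgroup.coe_pow, Subgroup.coe_inv, hr, hX]
    have e1 : (y : G) * (x * ((y : G) * (x * m * x⁻¹) * (y : G)⁻¹) * x⁻¹) * (y : G)⁻¹ =
        (y : G) * x * ((y : G) * x * m * ((y : G) * x)⁻¹) * ((y : G) * x)⁻¹ := by group
    have e2 : (y : G) * (x * m * x⁻¹) * (y : G)⁻¹ = (y : G) * x * m * ((y : G) * x)⁻¹ := by
      group
    rw [e1, e2]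
    exact hq
  · -- hsq
    intro y m _
    apply Subtype.ext
    simp only [hr, hX, hφ]
    group
  · -- hpow
    intro m hm hpw
    rw [Subgroup.mem_subgroupOf] at hm
    have h1 : ((m : ↥V) : G) ^ Nat.card Q₁ = 1 := by
      rw [Nat.card_eq_fintype_card, ← Subgroup.coe_pow, hpw]; rfl
    exact Subtype.ext (hWpow _ hm h1)

/-- an element acting on an elementary abelian group with centraliser of index at most `p`
acts quadratically -/
theorem quad_of_index {p : ℕ} [hp : Fact p.Prime] (W : Subgroup G) (x : G) {k : ℕ}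
    (Wcomm : ∀ a ∈ W, ∀ b ∈ W, a * b = b * a) (Wexp : ∀ a ∈ W, a ^ p = 1)
    (xW : ∀ w ∈ W, x * w * x⁻¹ ∈ W) (hx : x ^ (p ^ k) = 1)
    (hcard : Nat.card W ≤ p * Nat.card (W ⊓ Subgroup.centralizer {x} : Subgroup G)) :
    ∀ w ∈ W, x * (x * w * x⁻¹ * w⁻¹) * x⁻¹ = x * w * x⁻¹ * w⁻¹ := by
  intro w hw
  have hfixmem : ∀ z, z ∈ (W ⊓ Subgroup.centralizer {x} : Subgroup G) → x * z * x⁻¹ = z := by
    intro z hz
    have h1 := Subgroup.mem_centralizer_iff.1 hz.2 x (Set.mem_singleton x)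
    rw [h1, mul_inv_cancel_right]
  by_cases hw0 : w ∈ (W ⊓ Subgroup.centralizer {x} : Subgroup G)
  · rw [hfixmem w hw0]; group
  have hpp : 0 < p := hp.out.pos
  -- the subgroup T = W₀ * ⟨w⟩
  let T : Subgroup G :=
    { carrier := {g | ∃ z ∈ (W ⊓ Subgroup.centralizer {x} : Subgroup G), ∃ i : ℕ, g = z * w ^ i}
      one_mem' := ⟨1, Subgroup.one_mem _, 0, by simp⟩
      mul_mem' := by
        rintro a b ⟨z, hz, i, rfl⟩ ⟨z', hz', j, rfl⟩
        refine ⟨z * z', Subgroup.mul_mem _ hz hz', i + j, ?_⟩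
        have hcm : w ^ i * z' = z' * w ^ i := Wcomm _ (W.pow_mem hw i) _ hz'.1
        rw [pow_add, mul_assoc z, ← mul_assoc (w ^ i), hcm]
        simp only [mul_assoc]
      inv_mem' := by
        rintro a ⟨z, hz, i, rfl⟩
        refine ⟨z⁻¹, Subgroup.inv_mem _ hz, (p - 1) * i, ?_⟩
        have hcm : z * w ^ i = w ^ i * z := (Wcomm _ (W.pow_mem hw i) _ hz.1).symm
        have hinv : (w ^ i)⁻¹ = w ^ ((p - 1) * i) := by
          apply inv_eq_of_mul_eq_one_right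
          rw [← pow_add]
          have : i + (p - 1) * i = p * i := by
            have : p = (p - 1) + 1 := by omega
            nlinarith
          rw [this, pow_mul, Wexp w hw, one_pow]
        rw [hcm, mul_inv_rev, hinv] }
  have hwT : w ∈ T := ⟨1, Subgroup.one_mem _, 1, by simp⟩
  have hW₀T : (W ⊓ Subgroup.centralizer {x} : Subgroup G) ≤ T :=
    fun z hz => ⟨z, hz, 0, by simp⟩
  have hTW : T ≤ W := by
    rintro _ ⟨z, hz, i, rfl⟩
    exact W.mul_mem hz.1 (W.pow_mem hw i)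
  have hWT : W ≤ T := by
    have hab := Subgroup.relIndex_mul_relIndex _ T W hW₀T hTW
    have hr : Nat.card (W ⊓ Subgroup.centralizer {x} : Subgroup G) *
        (W ⊓ Subgroup.centralizer {x} : Subgroup G).relIndex W = Nat.card W := by
      have := Subgroup.relIndex_mul_relIndex ⊥ (W ⊓ Subgroup.centralizer {x} : Subgroup G) W
        bot_le inf_le_left
      rwa [Subgroup.relIndex_bot_left, Subgroup.relIndex_bot_left] at this
    have hW₀pos : 0 < Nat.card (W ⊓ Subgroup.centralizer {x} : Subgroup G) := Nat.card_pos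
    have hWpos : 0 < Nat.card W := Nat.card_pos
    have hrp : (W ⊓ Subgroup.centralizer {x} : Subgroup G).relIndex W ≤ p := by
      apply Nat.le_of_mul_le_mul_left _ hW₀pos
      rw [hr, mul_comm]; exact hcard
    have hr0 : (W ⊓ Subgroup.centralizer {x} : Subgroup G).relIndex W ≠ 0 := by
      intro h0
      rw [h0, mul_zero] at hr
      omega
    have ha1 : (W ⊓ Subgroup.centralizer {x} : Subgroup G).relIndex T ≠ 1 := by
      intro h1
      exact hw0 (Subgroup.relIndex_eq_one.1 h1 hwT)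
    have hWp : IsPGroup p W := fun g => ⟨1, by
      apply Subtype.ext
      rw [pow_one, Subgroup.coe_pow]
      exact Wexp g g.2⟩
    obtain ⟨n, hn⟩ := (IsPGroup.iff_card).1 hWp
    have hadvd : (W ⊓ Subgroup.centralizer {x} : Subgroup G).relIndex T ∣ p ^ n := by
      rw [← hn]
      exact dvd_trans (Subgroup.relIndex_dvd_card _ T) (Subgroup.card_dvd_of_le hTW)
    obtain ⟨i, -, hi⟩ := (Nat.dvd_prime_pow hp.out).1 hadvd
    have hi0 : i ≠ 0 := by
      intro h0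
      rw [h0, pow_zero] at hi
      exact ha1 hi
    have hpa : p ≤ (W ⊓ Subgroup.centralizer {x} : Subgroup G).relIndex T := by
      rw [hi]
      calc p = p ^ 1 := (pow_one p).symm
        _ ≤ p ^ i := Nat.pow_le_pow_right hpp (Nat.one_le_iff_ne_zero.2 hi0)
    have hb0 : T.relIndex W ≠ 0 := by
      intro h0
      rw [h0, mul_zero] at hab
      exact hr0 hab.symm
    have hb1 : T.relIndex W = 1 := by
      rcases Nat.lt_or_ge (T.relIndex W) 2 with h | h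
      · omega
      · exfalso
        have h2 : p * 2 ≤ (W ⊓ Subgroup.centralizer {x} : Subgroup G).relIndex T *
            T.relIndex W := Nat.mul_le_mul hpa h
        rw [hab] at h2
        omega
    exact Subgroup.relIndex_eq_one.1 hb1
  obtain ⟨d, hd⟩ : ∃ d, d = x * w * x⁻¹ * w⁻¹ := ⟨_, rfl⟩
  have hdW : d ∈ W := by rw [hd]; exact W.mul_mem (xW w hw) (W.inv_mem hw)
  obtain ⟨z, hz, i, hdz⟩ := hWT hdW
  rw [← hd]
  apply conj_eq_of_pow hx (Wexp d hdW) (j := i + 1)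
  have hxz : x * z * x⁻¹ = z := hfixmem z hz
  have hxw : x * w * x⁻¹ = d * w := by rw [hd]; group
  have hcm : Commute d w := Wcomm d hdW w hw
  have e1 : x * (z * w ^ i) * x⁻¹ = (x * z * x⁻¹) * (x * w * x⁻¹) ^ i := by
    rw [conj_pow]; group
  calc x * d * x⁻¹ = x * (z * w ^ i) * x⁻¹ := by rw [← hdz]
    _ = (x * z * x⁻¹) * (x * w * x⁻¹) ^ i := e1
    _ = z * (d * w) ^ i := by rw [hxz, hxw]
    _ = z * (d ^ i * w ^ i) := by rw [hcm.mul_pow]
    _ = d ^ i * (z * w ^ i) := by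
        have hcz : z * d ^ i = d ^ i * z := Wcomm z hz.1 _ (W.pow_mem hdW i)
        rw [← mul_assoc, hcz, mul_assoc]
    _ = d ^ i * d := by rw [← hdz]
    _ = d ^ (i + 1) := (pow_succ d i).symm

end quadratic

end Cfsg.Agent.Lib.Lead.ThompsonNorm
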