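import Mathlib
import Cfsg.Agent.Lib.Lead.ThompsonMin
import Cfsg.Agent.Lib.Lead.ThompsonNorm
import Cfsg.Agent.Lib.Helper5.CopGen3
import Cfsg.Agent.S0028

set_option autoImplicit false
set_option linter.unusedSectionVars false
set_option linter.style.haveILetI false

universe u v

namespace Cfsg.Agent.Lib.Lead.ThompsonFinal

open Cfsg Cfsg.Agent.Lib.Helper2 Cfsg.Agent.Lib.Helper4 Cfsg.Agent.Lib.Helper5
  Cfsg.Agent.Lib.Lead.ThompsonJ Cfsg.Agent.Lib.Lead.ThompsonRed Cfsg.Agent.Lib.Lead.ThompsonMin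
  Cfsg.Agent.Lib.Lead.ThompsonNorm

section VVdef
variable {G : Type u} [Group G]

/-- `Ω₁(Z(H))`, computed in the ambient group -/
def VV (p : ℕ) (H : Subgroup G) : Subgroup G where
  carrier := {v | v ∈ H ∧ v ∈ Subgroup.centralizer (H : Set G) ∧ v ^ p = 1}
  one_mem' := ⟨H.one_mem, Subgroup.one_mem _, one_pow p⟩
  mul_mem' := by
    rintro a b ⟨ha, hac, hap⟩ ⟨_, hbc, hbp⟩
    refine ⟨H.mul_mem ha ‹_›, Subgroup.mul_mem _ hac hbc, ?_⟩
    have hcomm : Commute a b := Subgroup.mem_centralizer_iff.1 hbc a ha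
    rw [hcomm.mul_pow, hap, hbp, one_mul]
  inv_mem' := by
    rintro a ⟨ha, hac, hap⟩
    exact ⟨H.inv_mem ha, Subgroup.inv_mem _ hac, by rw [inv_pow, hap, inv_one]⟩

theorem mem_VV {p : ℕ} {H : Subgroup G} {v : G} :
    v ∈ VV p H ↔ v ∈ H ∧ v ∈ Subgroup.centralizer (H : Set G) ∧ v ^ p = 1 := Iff.rfl

theorem VV_le {p : ℕ} {H : Subgroup G} : VV p H ≤ H := fun _ hv => (mem_VV.1 hv).1

theorem VV_le_cent {p : ℕ} {H : Subgroup G} : VV p H ≤ Subgroup.centralizer (H : Set G) :=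
  fun _ hv => (mem_VV.1 hv).2.1

theorem VV_comm {p : ℕ} {H : Subgroup G} : ∀ a ∈ VV p H, ∀ b ∈ VV p H, a * b = b * a :=
  fun a ha b hb => Subgroup.mem_centralizer_iff.1 (mem_VV.1 hb).2.1 a (mem_VV.1 ha).1

theorem VV_exp {p : ℕ} {H : Subgroup G} : ∀ a ∈ VV p H, a ^ p = 1 :=
  fun _ ha => (mem_VV.1 ha).2.2

theorem VV_normal {p : ℕ} {H : Subgroup G} [hH : H.Normal] : (VV p H).Normal := by
  constructor
  intro v hv g
  rw [mem_VV] at hv ⊢
  refine ⟨hH.conj_mem v hv.1 g, (Subgroup.normal_centralizer (H := H)).conj_mem v hv.2.1 g, ?_⟩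
  rw [conj_pow, hv.2.2]
  group

theorem H_le_cent_VV {p : ℕ} {H : Subgroup G} :
    H ≤ Subgroup.centralizer ((VV p H : Subgroup G) : Set G) :=
  Subgroup.le_centralizer_iff.1 VV_le_cent

theorem mem_Zr {P : Subgroup G} {z : G} :
    z ∈ Zr P ↔ z ∈ P ∧ z ∈ Subgroup.centralizer (P : Set G) := Subgroup.mem_inf

/-- the subgroup `[Q₂, x]` of an abelian group `Q₂` normalised by `x` -/
def commSub (x : G) (Q₂ : Subgroup G) (hx : ∀ u ∈ Q₂, x * u * x⁻¹ ∈ Q₂)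
    (hab : ∀ a ∈ Q₂, ∀ b ∈ Q₂, a * b = b * a) : Subgroup G where
  carrier := {g | ∃ v ∈ Q₂, g = x * v * x⁻¹ * v⁻¹}
  one_mem' := ⟨1, Q₂.one_mem, by group⟩
  mul_mem' := by
    rintro _ _ ⟨v, hv, rfl⟩ ⟨v', hv', rfl⟩
    refine ⟨v * v', Q₂.mul_mem hv hv', ?_⟩
    have h1 : v⁻¹ * (x * v' * x⁻¹) = (x * v' * x⁻¹) * v⁻¹ :=
      hab _ (Q₂.inv_mem hv) _ (hx v' hv')
    calc x * v * x⁻¹ * v⁻¹ * (x * v' * x⁻¹ * v'⁻¹)
        = x * v * x⁻¹ * (v⁻¹ * (x * v' * x⁻¹)) * v'⁻¹ := by group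
      _ = x * v * x⁻¹ * ((x * v' * x⁻¹) * v⁻¹) * v'⁻¹ := by rw [h1]
      _ = x * (v * v') * x⁻¹ * (v⁻¹ * v'⁻¹) := by group
      _ = x * (v * v') * x⁻¹ * (v'⁻¹ * v⁻¹) := by
          rw [hab _ (Q₂.inv_mem hv) _ (Q₂.inv_mem hv')]
      _ = x * (v * v') * x⁻¹ * (v * v')⁻¹ := by group
  inv_mem' := by
    rintro _ ⟨v, hv, rfl⟩
    refine ⟨v⁻¹, Q₂.inv_mem hv, ?_⟩
    have h1 : v * (x * v⁻¹ * x⁻¹) = (x * v⁻¹ * x⁻¹) * v := hab _ hv _ (hx _ (Q₂.inv_mem hv))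
    calc (x * v * x⁻¹ * v⁻¹)⁻¹ = v * (x * v⁻¹ * x⁻¹) := by group
      _ = (x * v⁻¹ * x⁻¹) * v := h1
      _ = x * v⁻¹ * x⁻¹ * v⁻¹⁻¹ := by group

theorem mem_commSub {x : G} {Q₂ : Subgroup G} {hx : ∀ u ∈ Q₂, x * u * x⁻¹ ∈ Q₂}
    {hab : ∀ a ∈ Q₂, ∀ b ∈ Q₂, a * b = b * a} {g : G} :
    g ∈ commSub x Q₂ hx hab ↔ ∃ v ∈ Q₂, g = x * v * x⁻¹ * v⁻¹ := Iff.rfl

end VVdef

section ineq
variable {G : Type u} [Group G] [Finite G] {p : ℕ} [hp : Fact p.Prime]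

theorem maxEA_ineq {A V B P : Subgroup G} (hA : A ∈ maxEA p P) (hVP : V ≤ P)
    (Vcomm : ∀ a ∈ V, ∀ b ∈ V, a * b = b * a) (Vexp : ∀ a ∈ V, a ^ p = 1) (hBA : B ≤ A) :
    Nat.card (V ⊓ Subgroup.centralizer (B : Set G) : Subgroup G) * Nat.card B ≤
      Nat.card A * Nat.card (V ⊓ Subgroup.centralizer (A : Set G) : Subgroup G) := by
  have hAea := (isElementaryAbelian_iff p A).1 hA.2.1
  have hCea : IsElementaryAbelian p (V ⊓ Subgroup.centralizer (B : Set G) : Subgroup G) := by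
    rw [isElementaryAbelian_iff]
    exact ⟨fun a ha b hb => Vcomm a (Subgroup.mem_inf.1 ha).1 b (Subgroup.mem_inf.1 hb).1,
      fun a ha => Vexp a (Subgroup.mem_inf.1 ha).1⟩
  have hBea : IsElementaryAbelian p B := ea_mono hA.2.1 hBA
  have hcomm : ∀ c ∈ (V ⊓ Subgroup.centralizer (B : Set G) : Subgroup G), ∀ b ∈ B,
      c * b = b * c := by
    intro c hc b hb
    exact (Subgroup.mem_centralizer_iff.1 (Subgroup.mem_inf.1 hc).2 b hb).symm
  have hEea := ea_sup hCea hBea hcomm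
  have hEP : (V ⊓ Subgroup.centralizer (B : Set G) : Subgroup G) ⊔ B ≤ P :=
    sup_le (inf_le_left.trans hVP) (hBA.trans hA.1)
  have hEcard := hA.2.2 _ hEP hEea
  generalize hCdef : (V ⊓ Subgroup.centralizer (B : Set G) : Subgroup G) = C at *
  have h1 : Nat.card (C ⊓ B : Subgroup G) * C.relIndex B = Nat.card B := by
    have := card_mul_relIndex (inf_le_right : C ⊓ B ≤ B)
    rwa [Subgroup.inf_relIndex_right] at this
  have h2 : Nat.card C * C.relIndex (C ⊔ B) = Nat.card (C ⊔ B : Subgroup G) :=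
    card_mul_relIndex le_sup_left
  have h3 : C.relIndex B ≤ C.relIndex (C ⊔ B) := by
    apply Subgroup.relIndex_le_of_le_right le_sup_right
    intro h0
    rw [h0, mul_zero] at h2
    exact Nat.card_pos.ne' h2.symm
  have h4 : C ⊓ B ≤ V ⊓ Subgroup.centralizer (A : Set G) := by
    intro x hx
    rw [Subgroup.mem_inf] at hx ⊢
    refine ⟨?_, ?_⟩
    · rw [← hCdef] at hx
      exact (Subgroup.mem_inf.1 hx.1).1
    · rw [Subgroup.mem_centralizer_iff]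
      intro a ha
      exact hAea.1 a ha x (hBA hx.2)
  have h5 : Nat.card (C ⊓ B : Subgroup G) ≤
      Nat.card (V ⊓ Subgroup.centralizer (A : Set G) : Subgroup G) := Subgroup.card_le_of_le h4
  calc Nat.card C * Nat.card B = Nat.card C * (Nat.card (C ⊓ B : Subgroup G) * C.relIndex B) := by
        rw [h1]
    _ ≤ Nat.card C * (Nat.card (C ⊓ B : Subgroup G) * C.relIndex (C ⊔ B)) :=
        Nat.mul_le_mul_left _ (Nat.mul_le_mul_left _ h3)
    _ = Nat.card (C ⊔ B : Subgroup G) * Nat.card (C ⊓ B : Subgroup G) := by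
        rw [← h2]; ring
    _ ≤ Nat.card A * Nat.card (V ⊓ Subgroup.centralizer (A : Set G) : Subgroup G) :=
        Nat.mul_le_mul hEcard h5

end ineq


section cfgfinal
variable {G : Type u} [Group G] [Finite G] {p : ℕ} [hp : Fact p.Prime]
variable {P : Sylow p G} {H K : Subgroup G}

local notation "π" => QuotientGroup.mk' H

theorem Cfg.CKV (c : Cfg p G P H K) :
    K ⊓ Subgroup.centralizer ((VV p H : Subgroup G) : Set G) = H := by
  haveI := c.Hn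
  haveI := c.Kn
  haveI hVn : (VV p H).Normal := VV_normal
  have hYn : (K ⊓ Subgroup.centralizer ((VV p H : Subgroup G) : Set G)).Normal := inferInstance
  apply c.claimF
  · exact le_inf c.HK H_le_cent_VV
  · exact inf_le_left
  · rw [Subgroup.normalizer_eq_top_iff.2 hYn]; exact le_top
  · intro hYK
    have hKV : K ≤ Subgroup.centralizer ((VV p H : Subgroup G) : Set G) :=
      inf_eq_left.1 hYK
    apply c.hnot
    have hZPH : Zr (P : Subgroup G) ≤ Zr H := by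
      intro z hz
      rw [mem_Zr] at hz ⊢
      have hzCH : z ∈ Subgroup.centralizer (H : Set G) :=
        Subgroup.centralizer_le (SetLike.coe_subset_coe.2 c.HP) hz.2
      exact ⟨c.cent_le hzCH, hzCH⟩
    haveI hZHn : (Zr H).Normal := by unfold Zr; infer_instance
    have hY2n : (K ⊓ Subgroup.centralizer ((Zr H : Subgroup G) : Set G)).Normal := inferInstance
    have hHCZ : H ≤ Subgroup.centralizer ((Zr H : Subgroup G) : Set G) :=
      Subgroup.le_centralizer_iff.1 (by unfold Zr; exact inf_le_right)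
    have hKZ : K ≤ Subgroup.centralizer ((Zr H : Subgroup G) : Set G) := by
      by_contra hcon
      have hY2 : K ⊓ Subgroup.centralizer ((Zr H : Subgroup G) : Set G) = H := by
        apply c.claimF
        · exact le_inf c.HK hHCZ
        · exact inf_le_left
        · rw [Subgroup.normalizer_eq_top_iff.2 hY2n]; exact le_top
        · intro h; exact hcon (inf_eq_left.1 h)
      have hr1 : H.relIndex K ≠ 1 := fun h1 =>
        c.K_ne_H (le_antisymm (Subgroup.relIndex_eq_one.1 h1) c.HK)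
      have hrp : (H.relIndex K).minFac.Prime := Nat.minFac_prime hr1
      have hrdvd : (H.relIndex K).minFac ∣ Nat.card K :=
        dvd_trans (Nat.minFac_dvd _) (Subgroup.relIndex_dvd_card H K)
      have hrne : (H.relIndex K).minFac ≠ p := by
        intro h; exact c.idx (h ▸ Nat.minFac_dvd _)
      generalize (H.relIndex K).minFac = r at hrp hrdvd hrne
      haveI : Fact r.Prime := ⟨hrp⟩
      obtain ⟨k', hk'⟩ := exists_prime_orderOf_dvd_card' r hrdvd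
      have hkord : orderOf (k' : G) = r := by rw [Subgroup.orderOf_coe]; exact hk'
      have hkcop : (orderOf (k' : G)).Coprime p := by
        rw [hkord]; exact (Nat.coprime_primes hrp hp.out).2 hrne
      have hA1 : ∀ a ∈ Zr H, ∃ j : ℕ, a ^ (p ^ j) = 1 := by
        intro a ha
        rw [mem_Zr] at ha
        obtain ⟨j, hj⟩ := c.Hp ⟨a, ha.1⟩
        exact ⟨j, congrArg Subtype.val hj⟩
      have hA2 : ∀ a ∈ Zr H, ∀ b ∈ Zr H, a * b = b * a := by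
        intro a ha b hb
        rw [mem_Zr] at ha hb
        exact Subgroup.mem_centralizer_iff.1 hb.2 a ha.1
      have hA3 : ∀ a ∈ Zr H, (k' : G) * a * (k' : G)⁻¹ ∈ Zr H :=
        fun a ha => hZHn.conj_mem a ha _
      have hA4 : ∀ a ∈ Zr H, a ^ p = 1 → (k' : G) * a * (k' : G)⁻¹ = a := by
        intro a ha hap
        rw [mem_Zr] at ha
        have haV : a ∈ VV p H := mem_VV.2 ⟨ha.1, ha.2, hap⟩
        have := Subgroup.mem_centralizer_iff.1 (hKV k'.2) a haV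
        rw [← this, mul_inv_cancel_right]
      have hcent := omega_lemma hA1 hA2 hkcop hA3 hA4
      have hkY : (k' : G) ∈ K ⊓ Subgroup.centralizer ((Zr H : Subgroup G) : Set G) := by
        rw [Subgroup.mem_inf]
        refine ⟨k'.2, ?_⟩
        rw [Subgroup.mem_centralizer_iff]
        intro a ha
        have h1 := hcent a ha
        calc a * (k' : G) = ((k' : G) * a * (k' : G)⁻¹) * k' := by rw [h1]
          _ = k' * a := by group
      rw [hY2] at hkY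
      obtain ⟨j, hj⟩ := c.Hp ⟨k', hkY⟩
      have h1 : (k' : G) ^ (p ^ j) = 1 := congrArg Subtype.val hj
      have h2 : r ∣ p ^ j := by rw [← hkord]; exact orderOf_dvd_of_pow_eq_one h1
      have h3 : r ∣ p := hrp.dvd_of_dvd_pow h2
      exact hrne ((Nat.prime_dvd_prime_iff_eq hrp hp.out).1 h3)
    have h1 : Subgroup.centralizer ((Zr (P : Subgroup G) : Subgroup G) : Set G) = ⊤ := by
      apply top_le_iff.1
      rw [← c.KP]
      apply sup_le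
      · exact hKZ.trans (Subgroup.centralizer_le (SetLike.coe_subset_coe.2 hZPH))
      · exact Subgroup.le_centralizer_iff.1 (by unfold Zr; exact inf_le_right)
    exact npc_of_top h1 c.hZ

theorem Cfg.hyperplane [H.Normal] (c : Cfg p G P H K) {A : Subgroup G}
    (hA : A ∈ maxEA p (P : Subgroup G)) (hAH : ¬ A ≤ H) :
    ∃ B : Subgroup G, B ≤ A ∧ B.relIndex A ≤ p ∧ ∃ y ∈ K, ∃ a ∈ A,
      (∀ b ∈ B, π b * π y = π y * π b) ∧ π a * π y ≠ π y * π a := by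
  haveI := c.Kn
  have hsurj := QuotientGroup.mk'_surjective H
  have hAea := (isElementaryAbelian_iff p _).1 (ea_map hA.2.1 π)
  have hKBn : (K.map π).Normal := c.Kn.map _ hsurj
  have hX : ¬ p ∣ Nat.card (K.map π) := by rw [c.card_KB]; exact c.idx
  have hAX : A.map π ≤ Subgroup.normalizer ((K.map π : Subgroup (G ⧸ H)) : Set (G ⧸ H)) := by
    rw [Subgroup.normalizer_eq_top_iff.2 hKBn]; exact le_top
  have hgen := le_iSup_hyperplane p (A.map π) (K.map π) hAea.1 hAea.2 hX hAX _ ⊥ bot_le rfl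
  have hcb : Subgroup.centralizer (((⊥ : Subgroup (G ⧸ H)) : Subgroup (G ⧸ H)) : Set (G ⧸ H)) =
      ⊤ := by
    rw [Subgroup.centralizer_eq_top_iff_subset]
    intro x hx
    rw [SetLike.mem_coe, Subgroup.mem_bot] at hx
    rw [hx]; exact Subgroup.one_mem _
  rw [hcb, inf_top_eq] at hgen
  by_contra hcon
  push Not at hcon
  have hle : K.map π ≤ Subgroup.centralizer ((A.map π : Subgroup (G ⧸ H)) : Set (G ⧸ H)) := by
    refine hgen.trans (iSup_le ?_)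
    rintro ⟨B', hB'A, hB'idx⟩
    intro yb hyb
    rw [Subgroup.mem_inf] at hyb
    obtain ⟨hybK, hybC⟩ := hyb
    obtain ⟨y, hyK, rfl⟩ := hybK
    rw [Subgroup.mem_centralizer_iff]
    rintro _ ⟨a, haA, rfl⟩
    refine hcon (A ⊓ B'.comap π) inf_le_left ?_ y hyK a haA ?_
    · rw [inf_comm, Subgroup.inf_relIndex_right, Subgroup.relIndex_comap]
      exact hB'idx
    · intro b hb
      rw [Subgroup.mem_inf] at hb
      have hbB' : π b ∈ B' := hb.2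
      exact Subgroup.mem_centralizer_iff.1 hybC (π b) hbB'
  apply hAH
  intro a ha
  apply c.faithful a (hA.1 ha)
  intro k hk
  have h1 := Subgroup.mem_centralizer_iff.1 (hle (Subgroup.mem_map_of_mem π hk)) (π a)
    (Subgroup.mem_map_of_mem π ha)
  apply (QuotientGroup.eq_one_iff _).1
  show π (a * k * a⁻¹ * k⁻¹) = 1
  rw [map_mul, map_mul, map_mul, map_inv, map_inv, h1]
  group

theorem Cfg.exists_Q (c : Cfg p G P H K) :
    ∃ (q : ℕ) (Q : Subgroup G), q.Prime ∧ q ≠ p ∧ IsPGroup q Q ∧ Q ≤ K ∧ Q ⊓ H = ⊥ ∧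
      H ⊔ Q = K ∧ Subgroup.normalizer (Q : Set G) ⊔ H = ⊤ ∧
      (∀ a ∈ Q, ∀ b ∈ Q, a * b = b * a) := by
  haveI := c.Hn
  haveI := c.Kn
  obtain ⟨q, hqp, hqne, hKBq⟩ := c.qgroup
  haveI : Fact q.Prime := ⟨hqp⟩
  obtain ⟨b, hb⟩ := (IsPGroup.iff_card).1 hKBq
  rw [c.card_KB] at hb
  obtain ⟨QS⟩ : Nonempty (Sylow q ↥K) := inferInstance
  have hfr : Subgroup.normalizer (((QS : Subgroup ↥K).map K.subtype : Subgroup G) : Set G) ⊔ K = ⊤ :=
    Sylow.normalizer_sup_eq_top QS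
  have hQK : (QS : Subgroup ↥K).map K.subtype ≤ K := Subgroup.map_subtype_le _
  have hQq : IsPGroup q ((QS : Subgroup ↥K).map K.subtype) := QS.2.map _
  have hidxQ : ¬ q ∣ ((QS : Subgroup ↥K).map K.subtype).relIndex K := by
    have : ((QS : Subgroup ↥K).map K.subtype).subgroupOf K = (QS : Subgroup ↥K) :=
      Subgroup.comap_map_eq_self_of_injective (Subgroup.subtype_injective K) _
    rw [Subgroup.relIndex, this]
    exact QS.not_dvd_index
  generalize (QS : Subgroup ↥K).map K.subtype = Q at hfr hQK hQq hidxQ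
  have hcop : (Nat.card Q).Coprime (Nat.card H) := by
    obtain ⟨i, hi⟩ := (IsPGroup.iff_card).1 hQq
    obtain ⟨j, hj⟩ := (IsPGroup.iff_card).1 c.Hp
    rw [hi, hj]
    exact Nat.Coprime.pow _ _ ((Nat.coprime_primes hqp hp.out).2 hqne)
  have hdisj : Q ⊓ H = ⊥ := (Subgroup.disjoint_of_coprime_natCard hcop).eq_bot
  have hsup : H ⊔ Q = K := by
    apply le_antisymm (sup_le c.HK hQK)
    rw [← Subgroup.relIndex_eq_one]
    have h1 : (H ⊔ Q).relIndex K ∣ H.relIndex K := Subgroup.relIndex_dvd_of_le_left K le_sup_left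
    have h2 : (H ⊔ Q).relIndex K ∣ Q.relIndex K := Subgroup.relIndex_dvd_of_le_left K le_sup_right
    rw [hb] at h1
    obtain ⟨i, -, hi⟩ := (Nat.dvd_prime_pow hqp).1 h1
    rcases Nat.eq_zero_or_pos i with rfl | hpos
    · simpa using hi
    · exfalso
      apply hidxQ
      refine dvd_trans ?_ h2
      rw [hi]; exact dvd_pow_self q hpos.ne'
  have hfrat : Subgroup.normalizer (Q : Set G) ⊔ H = ⊤ := by
    apply top_le_iff.1
    rw [← hfr, ← hsup]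
    exact sup_le le_sup_left (sup_le le_sup_right (Subgroup.le_normalizer.trans le_sup_left))
  have hab : ∀ a ∈ Q, ∀ b ∈ Q, a * b = b * a := by
    intro a ha b' hb'
    have h1 := c.abelian a (hQK ha) b' (hQK hb')
    have h2 : a * b' * a⁻¹ * b'⁻¹ ∈ Q :=
      Q.mul_mem (Q.mul_mem (Q.mul_mem ha hb') (Q.inv_mem ha)) (Q.inv_mem hb')
    have h3 : a * b' * a⁻¹ * b'⁻¹ ∈ Q ⊓ H := Subgroup.mem_inf.2 ⟨h2, h1⟩
    rw [hdisj, Subgroup.mem_bot] at h3
    calc a * b' = (a * b' * a⁻¹ * b'⁻¹) * (b' * a) := by group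
      _ = b' * a := by rw [h3, one_mul]
  exact ⟨q, Q, hqp, hqne, hQq, hQK, hdisj, hsup, hfrat, hab⟩


set_option maxHeartbeats 1600000 in
theorem Cfg.contra (c : Cfg p G P H K) (hp2 : p ≠ 2) : False := by
  haveI := c.Hn
  haveI := c.Kn
  haveI hVn : (VV p H).Normal := VV_normal
  obtain ⟨A, hA, hAH⟩ := exists_maxEA_not_le c.J_not_le
  have hAea := (isElementaryAbelian_iff p A).1 hA.2.1
  obtain ⟨B, hBA, hBidx, y₀, hy₀K, a, haA, hBy₀, hay₀⟩ := Cfg.hyperplane c hA hAH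
  obtain ⟨q, Q, hqp, hqne, hQq, hQK, hQH, hHQ, hfrat, hQab⟩ := Cfg.exists_Q c
  haveI : Fact q.Prime := ⟨hqp⟩
  have hπH : ∀ h ∈ H, π h = 1 := fun h hh => (QuotientGroup.eq_one_iff h).2 hh
  have hHπ : ∀ g : G, π g = 1 → g ∈ H := fun g hg => (QuotientGroup.eq_one_iff g).1 hg
  have hQH1 : ∀ g ∈ Q, π g = 1 → g = 1 := by
    intro g hg h1
    have : g ∈ Q ⊓ H := Subgroup.mem_inf.2 ⟨hg, hHπ g h1⟩
    rwa [hQH, Subgroup.mem_bot] at this
  have hcopq : ∀ i j : ℕ, (p ^ i).Coprime (q ^ j) := fun i j =>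
    Nat.Coprime.pow i j ((Nat.coprime_primes hp.out hqp).2 hqne.symm)
  have hQp1 : ∀ u ∈ Q, ∀ n : ℕ, u ^ (p ^ n) = 1 → u = 1 := by
    intro u hu n hn
    obtain ⟨j, hj⟩ := hQq ⟨u, hu⟩
    have hj' : u ^ (q ^ j) = 1 := congrArg Subtype.val hj
    have h3 : orderOf u ∣ Nat.gcd (p ^ n) (q ^ j) :=
      Nat.dvd_gcd (orderOf_dvd_of_pow_eq_one hn) (orderOf_dvd_of_pow_eq_one hj')
    rw [Nat.Coprime.gcd_eq_one (hcopq n j)] at h3
    exact orderOf_eq_one_iff.1 (Nat.dvd_one.1 h3)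
  have hNQ : ∀ g ∈ Subgroup.normalizer (Q : Set G), ∀ u ∈ Q, g * u * g⁻¹ ∈ Q :=
    fun g hg u hu => (Subgroup.mem_normalizer_iff.1 hg u).1 hu
  -- move y into Q
  obtain ⟨h₀, hh₀, y, hyQ, hy₀⟩ : ∃ h₀ ∈ H, ∃ y ∈ Q, h₀ * y = y₀ := by
    have : y₀ ∈ H ⊔ Q := by rw [hHQ]; exact hy₀K
    exact Subgroup.mem_sup_of_normal_left.1 this
  have hfy : π y₀ = π y := by rw [← hy₀, map_mul, hπH h₀ hh₀, one_mul]
  rw [hfy] at hay₀
  have hBy : ∀ b ∈ B, π b * π y = π y * π b := fun b hb => by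
    have := hBy₀ b hb
    rwa [hfy] at this
  -- the element a₁
  obtain ⟨a₁, ha₁N, h₁, hh₁, ha₁⟩ :
      ∃ a₁ ∈ Subgroup.normalizer (Q : Set G), ∃ h₁ ∈ H, a₁ * h₁ = a := by
    have : a ∈ Subgroup.normalizer (Q : Set G) ⊔ H := by rw [hfrat]; exact Subgroup.mem_top a
    exact Subgroup.mem_sup_of_normal_right.1 this
  have hfa : π a₁ = π a := by rw [← ha₁, map_mul, hπH h₁ hh₁, mul_one]
  have ha₁eq : a₁ = a * h₁⁻¹ := by rw [← ha₁]; group
  have ha₁P : a₁ ∈ (P : Subgroup G) := by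
    rw [ha₁eq]; exact Subgroup.mul_mem _ (hA.1 haA) (Subgroup.inv_mem _ (c.HP hh₁))
  obtain ⟨k, hk⟩ := P.2 ⟨a₁, ha₁P⟩
  have ha₁pow : a₁ ^ (p ^ k) = 1 := congrArg Subtype.val hk
  -- H ⊔ B
  have hmemHB : ∀ g : G, g ∈ H ⊔ B ↔ ∃ b ∈ B, π g = π b := by
    intro g
    constructor
    · intro hg
      obtain ⟨h, hh, b, hb, rfl⟩ := Subgroup.mem_sup_of_normal_left.1 hg
      exact ⟨b, hb, by rw [map_mul, hπH h hh, one_mul]⟩
    · rintro ⟨b, hb, hgb⟩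
      have h1 : g * b⁻¹ ∈ H := hHπ _ (by rw [map_mul, map_inv, hgb, mul_inv_cancel])
      have e : g = (g * b⁻¹) * b := by group
      rw [e]
      exact Subgroup.mul_mem _ (Subgroup.mem_sup_left h1) (Subgroup.mem_sup_right hb)
  obtain ⟨B₁, hB₁def⟩ : ∃ B₁, B₁ = Subgroup.normalizer (Q : Set G) ⊓ (H ⊔ B) := ⟨_, rfl⟩
  have hmemB₁ : ∀ g, g ∈ B₁ ↔ g ∈ Subgroup.normalizer (Q : Set G) ∧ ∃ b ∈ B, π g = π b := by
    intro g; rw [hB₁def, Subgroup.mem_inf, hmemHB]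
  have hnormB₁ : ∀ g ∈ Subgroup.normalizer (Q : Set G), (∀ b ∈ B, π g * π b = π b * π g) →
      ∀ b₁ ∈ B₁, g * b₁ * g⁻¹ ∈ B₁ := by
    intro g hg hgB b₁ hb₁
    rw [hmemB₁] at hb₁ ⊢
    refine ⟨Subgroup.mul_mem _ (Subgroup.mul_mem _ hg hb₁.1) (Subgroup.inv_mem _ hg), ?_⟩
    obtain ⟨b, hb, hb₁b⟩ := hb₁.2
    refine ⟨b, hb, ?_⟩
    rw [map_mul, map_mul, map_inv, hb₁b, hgB b hb, mul_inv_cancel_right]
  have hcomm_ab : ∀ b ∈ B, Commute (π a₁) (π b) := by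
    intro b hb
    rw [hfa]
    show π a * π b = π b * π a
    rw [← map_mul, ← map_mul, hAea.1 a haA b (hBA hb)]
  have hB₁a : ∀ b₁ ∈ B₁, a₁ * b₁ * a₁⁻¹ ∈ B₁ :=
    hnormB₁ a₁ ha₁N (fun b hb => (hcomm_ab b hb).eq)
  have hB₁a' : ∀ b₁ ∈ B₁, a₁⁻¹ * b₁ * a₁ ∈ B₁ := by
    intro b₁ hb₁
    have := hnormB₁ a₁⁻¹ (Subgroup.inv_mem _ ha₁N)
      (fun b hb => by rw [map_inv]; exact (hcomm_ab b hb).inv_left.eq) b₁ hb₁
    rwa [inv_inv] at this
  have hB₁P : B₁ ≤ (P : Subgroup G) := by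
    rw [hB₁def]; exact inf_le_right.trans (sup_le c.HP (hBA.trans hA.1))
  have hB₁p : IsPGroup p B₁ := P.2.to_le hB₁P
  have hB₁dec : ∀ b₁ ∈ B₁, ∃ h ∈ H, ∃ b ∈ B, h * b = b₁ := by
    intro b₁ hb₁
    rw [hB₁def, Subgroup.mem_inf] at hb₁
    exact Subgroup.mem_sup_of_normal_left.1 hb₁.2
  have hBdec : ∀ b ∈ B, ∃ n ∈ B₁, ∃ h ∈ H, n * h = b := by
    intro b hb
    have : b ∈ Subgroup.normalizer (Q : Set G) ⊔ H := by rw [hfrat]; exact Subgroup.mem_top b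
    obtain ⟨n, hn, h, hh, hnh⟩ := Subgroup.mem_sup_of_normal_right.1 this
    refine ⟨n, (hmemB₁ n).2 ⟨hn, b, hb, ?_⟩, h, hh, hnh⟩
    rw [← hnh, map_mul, hπH h hh, mul_one]
  have hyB₁ : ∀ b₁ ∈ B₁, b₁ * y = y * b₁ := by
    intro b₁ hb₁
    obtain ⟨hb₁N, b, hb, hb₁b⟩ := (hmemB₁ b₁).1 hb₁
    have h1 : b₁ * y * b₁⁻¹ * y⁻¹ ∈ Q := Q.mul_mem (hNQ b₁ hb₁N y hyQ) (Q.inv_mem hyQ)
    have h2 : π (b₁ * y * b₁⁻¹ * y⁻¹) = 1 := by
      rw [map_mul, map_mul, map_mul, map_inv, map_inv, hb₁b, hBy b hb]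
      group
    have h3 := hQH1 _ h1 h2
    calc b₁ * y = (b₁ * y * b₁⁻¹ * y⁻¹) * (y * b₁) := by group
      _ = y * b₁ := by rw [h3, one_mul]
  -- Q₂
  obtain ⟨Q₂, hQ₂def⟩ : ∃ Q₂, Q₂ = Q ⊓ Subgroup.centralizer (B₁ : Set G) := ⟨_, rfl⟩
  have hmemQ₂ : ∀ g, g ∈ Q₂ ↔ g ∈ Q ∧ ∀ b₁ ∈ B₁, b₁ * g = g * b₁ := by
    intro g; rw [hQ₂def, Subgroup.mem_inf, Subgroup.mem_centralizer_iff]; rfl
  have hconjcomm : ∀ b₁ ∈ B₁, ∀ u : G, (∀ b' ∈ B₁, b' * u = u * b') →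
      b₁ * (a₁ * u * a₁⁻¹) = a₁ * u * a₁⁻¹ * b₁ := by
    intro b₁ hb₁ u hu
    have h1 := hu _ (hB₁a' b₁ hb₁)
    calc b₁ * (a₁ * u * a₁⁻¹) = a₁ * ((a₁⁻¹ * b₁ * a₁) * u) * a₁⁻¹ := by group
      _ = a₁ * (u * (a₁⁻¹ * b₁ * a₁)) * a₁⁻¹ := by rw [h1]
      _ = a₁ * u * a₁⁻¹ * b₁ := by group
  have ha₁Q₂ : ∀ u ∈ Q₂, a₁ * u * a₁⁻¹ ∈ Q₂ := by
    intro u hu
    rw [hmemQ₂] at hu ⊢
    exact ⟨hNQ a₁ ha₁N u hu.1, fun b₁ hb₁ => hconjcomm b₁ hb₁ u hu.2⟩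
  have hQ₂ab : ∀ u ∈ Q₂, ∀ v ∈ Q₂, u * v = v * u :=
    fun u hu v hv => hQab u ((hmemQ₂ u).1 hu).1 v ((hmemQ₂ v).1 hv).1
  have hyQ₂ : y ∈ Q₂ := (hmemQ₂ y).2 ⟨hyQ, hyB₁⟩
  obtain ⟨Q₁, hQ₁def⟩ : ∃ Q₁, Q₁ = commSub a₁ Q₂ ha₁Q₂ hQ₂ab := ⟨_, rfl⟩
  have hmemQ₁ : ∀ g, g ∈ Q₁ ↔ ∃ v ∈ Q₂, g = a₁ * v * a₁⁻¹ * v⁻¹ := by
    intro g; rw [hQ₁def]; exact mem_commSub
  have hQ₁Q₂ : Q₁ ≤ Q₂ := by
    intro g hg
    obtain ⟨v, hv, rfl⟩ := (hmemQ₁ g).1 hg
    exact Q₂.mul_mem (ha₁Q₂ v hv) (Q₂.inv_mem hv)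
  have hQ₁Q : Q₁ ≤ Q := fun g hg => ((hmemQ₂ g).1 (hQ₁Q₂ hg)).1
  have hu₀ : a₁ * y * a₁⁻¹ * y⁻¹ ∈ Q₁ := (hmemQ₁ _).2 ⟨y, hyQ₂, rfl⟩
  have hu₀1 : a₁ * y * a₁⁻¹ * y⁻¹ ≠ 1 := by
    intro h
    have h1 : π (a₁ * y * a₁⁻¹ * y⁻¹) = 1 := by rw [h, map_one]
    rw [map_mul, map_mul, map_mul, map_inv, map_inv, hfa, ← commutatorElement_def,
      commutatorElement_eq_one_iff_commute] at h1
    exact hay₀ h1.eq
  -- W
  obtain ⟨W, hWdef⟩ : ∃ W, W = VV p H ⊓ Subgroup.centralizer (B₁ : Set G) := ⟨_, rfl⟩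
  have hmemW : ∀ g, g ∈ W ↔ g ∈ VV p H ∧ ∀ b₁ ∈ B₁, b₁ * g = g * b₁ := by
    intro g; rw [hWdef, Subgroup.mem_inf, Subgroup.mem_centralizer_iff]; rfl
  have hWV : W ≤ VV p H := fun g hg => ((hmemW g).1 hg).1
  have hVH : ∀ v ∈ VV p H, ∀ h ∈ H, Commute h v := fun v hv h hh =>
    Subgroup.mem_centralizer_iff.1 (VV_le_cent hv) h hh
  have hxW : ∀ w ∈ W, a₁ * w * a₁⁻¹ ∈ W := by
    intro w hw
    rw [hmemW] at hw ⊢
    exact ⟨hVn.conj_mem w hw.1 a₁, fun b₁ hb₁ => hconjcomm b₁ hb₁ w hw.2⟩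
  have hQW : ∀ u ∈ Q₁, ∀ w ∈ W, u * w * u⁻¹ ∈ W := by
    intro u hu w hw
    rw [hmemW] at hw ⊢
    refine ⟨hVn.conj_mem w hw.1 u, fun b₁ hb₁ => ?_⟩
    have hbu : Commute b₁ u := ((hmemQ₂ u).1 (hQ₁Q₂ hu)).2 b₁ hb₁
    have hbw : Commute b₁ w := hw.2 b₁ hb₁
    exact ((hbu.mul_right hbw).mul_right hbu.inv_right).eq
  have hQ₁comm : ∀ u ∈ Q₁, ∀ v ∈ Q₁, u * v = v * u :=
    fun u hu v hv => hQab u (hQ₁Q hu) v (hQ₁Q hv)
  have hxQ₁ : ∀ u ∈ Q₁, a₁ * u * a₁⁻¹ ∈ Q₁ := by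
    intro u hu
    obtain ⟨v, hv, rfl⟩ := (hmemQ₁ u).1 hu
    refine (hmemQ₁ _).2 ⟨a₁ * v * a₁⁻¹, ha₁Q₂ v hv, ?_⟩
    group
  have hQ₁cop : (Nat.card Q₁).Coprime p := by
    obtain ⟨i, hi⟩ := (IsPGroup.iff_card).1 hQq
    have hdvd : Nat.card Q₁ ∣ Nat.card Q := Subgroup.card_dvd_of_le hQ₁Q
    rw [hi] at hdvd
    exact Nat.Coprime.coprime_dvd_left hdvd
      (Nat.Coprime.pow_left i ((Nat.coprime_primes hqp hp.out).2 hqne))
  have hWpow : ∀ w ∈ W, w ^ Nat.card Q₁ = 1 → w = 1 := by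
    intro w hw hwn
    have h1 : w ^ p = 1 := VV_exp w (hWV hw)
    have h3 : orderOf w ∣ Nat.gcd (Nat.card Q₁) p :=
      Nat.dvd_gcd (orderOf_dvd_of_pow_eq_one hwn) (orderOf_dvd_of_pow_eq_one h1)
    rw [Nat.Coprime.gcd_eq_one hQ₁cop] at h3
    exact orderOf_eq_one_iff.1 (Nat.dvd_one.1 h3)
  have hfix : ∀ u ∈ Q₁, a₁ * u * a₁⁻¹ = u → u = 1 := by
    intro u hu hfx
    obtain ⟨v, hv, rfl⟩ := (hmemQ₁ u).1 hu
    exact hQp1 _ (hQ₁Q hu) k (comm_fixed_pow ha₁pow hfx)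
  have hodd : Odd (p ^ k) := (hp.out.odd_of_ne_two hp2).pow
  have hinv : ∀ u ∈ Q₁, a₁ * u * a₁⁻¹ = u⁻¹ → u = 1 := by
    intro u hu hiv
    exact hfix u hu (conj_eq_of_inverted ha₁pow hodd hiv)
  -- the index estimate
  have hcard : Nat.card W ≤ p * Nat.card (W ⊓ Subgroup.centralizer {a₁} : Subgroup G) := by
    have hineq := maxEA_ineq hA (VV_le.trans c.HP) (VV_comm (p := p) (H := H)) VV_exp hBA
    have hAB : Nat.card A = Nat.card B * B.relIndex A := (card_mul_relIndex hBA).symm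
    have h1 : Nat.card (VV p H ⊓ Subgroup.centralizer (B : Set G) : Subgroup G) ≤
        p * Nat.card (VV p H ⊓ Subgroup.centralizer (A : Set G) : Subgroup G) := by
      have h2 : Nat.card (VV p H ⊓ Subgroup.centralizer (B : Set G) : Subgroup G) * Nat.card B ≤
          (p * Nat.card (VV p H ⊓ Subgroup.centralizer (A : Set G) : Subgroup G)) *
            Nat.card B := by
        calc Nat.card (VV p H ⊓ Subgroup.centralizer (B : Set G) : Subgroup G) * Nat.card B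
            ≤ Nat.card A *
              Nat.card (VV p H ⊓ Subgroup.centralizer (A : Set G) : Subgroup G) := hineq
          _ = Nat.card B * B.relIndex A *
              Nat.card (VV p H ⊓ Subgroup.centralizer (A : Set G) : Subgroup G) := by rw [hAB]
          _ ≤ Nat.card B * p *
              Nat.card (VV p H ⊓ Subgroup.centralizer (A : Set G) : Subgroup G) :=
            Nat.mul_le_mul_right _ (Nat.mul_le_mul_left _ hBidx)
          _ = (p * Nat.card (VV p H ⊓ Subgroup.centralizer (A : Set G) : Subgroup G)) *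
              Nat.card B := by ring
      exact Nat.le_of_mul_le_mul_right h2 Nat.card_pos
    have hW1 : W ≤ VV p H ⊓ Subgroup.centralizer (B : Set G) := by
      intro w hw
      rw [hmemW] at hw
      rw [Subgroup.mem_inf, Subgroup.mem_centralizer_iff]
      refine ⟨hw.1, fun b hb => ?_⟩
      obtain ⟨n, hn, h, hh, rfl⟩ := hBdec b hb
      have h3 : Commute n w := hw.2 n hn
      have h4 : Commute h w := hVH w hw.1 h hh
      exact (h3.mul_left h4).eq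
    have hW2 : VV p H ⊓ Subgroup.centralizer (A : Set G) ≤
        W ⊓ Subgroup.centralizer {a₁} := by
      intro v hv
      rw [Subgroup.mem_inf, Subgroup.mem_centralizer_iff] at hv
      rw [Subgroup.mem_inf, hmemW, Subgroup.mem_centralizer_iff]
      refine ⟨⟨hv.1, fun b₁ hb₁ => ?_⟩, fun g hg => ?_⟩
      · obtain ⟨h, hh, b, hb, rfl⟩ := hB₁dec b₁ hb₁
        have h3 : Commute h v := hVH v hv.1 h hh
        have h4 : Commute b v := hv.2 b (hBA hb)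
        exact (h3.mul_left h4).eq
      · rw [Set.mem_singleton_iff] at hg
        rw [hg, ha₁eq]
        have h3 : Commute a v := hv.2 a haA
        have h4 : Commute h₁⁻¹ v := (hVH v hv.1 h₁ hh₁).inv_left
        exact (h3.mul_left h4).eq
    calc Nat.card W ≤ Nat.card (VV p H ⊓ Subgroup.centralizer (B : Set G) : Subgroup G) :=
          Subgroup.card_le_of_le hW1
      _ ≤ p * Nat.card (VV p H ⊓ Subgroup.centralizer (A : Set G) : Subgroup G) := h1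
      _ ≤ p * Nat.card (W ⊓ Subgroup.centralizer {a₁} : Subgroup G) :=
          Nat.mul_le_mul_left _ (Subgroup.card_le_of_le hW2)
  have hWcomm : ∀ u ∈ W, ∀ v ∈ W, u * v = v * u :=
    fun u hu v hv => VV_comm u (hWV hu) v (hWV hv)
  have hWexp : ∀ u ∈ W, u ^ p = 1 := fun u hu => VV_exp u (hWV hu)
  have hquad := quad_of_index W a₁ hWcomm hWexp hxW ha₁pow hcard
  have hcentW := quadratic_centralizes (VV p H) W Q₁ a₁ VV_comm hWV hxW hQW hQ₁comm hxQ₁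
    hWpow hfix hinv hquad
  -- the P×Q lemma
  have hPQ : B₁ ≤ Subgroup.centralizer (Q₁ : Set G) := by
    intro b₁ hb₁
    rw [Subgroup.mem_centralizer_iff]
    intro u hu
    exact (((hmemQ₂ u).1 (hQ₁Q₂ hu)).2 b₁ hb₁).symm
  have hVtop : Subgroup.normalizer ((VV p H : Subgroup G) : Set G) = ⊤ :=
    Subgroup.normalizer_eq_top_iff.2 hVn
  have hC : VV p H ⊓ Subgroup.centralizer (B₁ : Set G) ≤ Subgroup.centralizer (Q₁ : Set G) := by
    intro w hw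
    rw [← hWdef] at hw
    rw [Subgroup.mem_centralizer_iff]
    intro u hu
    have h1 := hcentW u hu w hw
    calc u * w = (u * w * u⁻¹) * u := by group
      _ = w * u := by rw [h1]
  have hres := Cfsg.Agent.S0028.result p B₁ Q₁ (VV p H) hB₁p hQ₁cop (c.Hp.to_le VV_le) hPQ
    (by rw [hVtop]; exact le_top) (by rw [hVtop]; exact le_top) hC
  have h1 : a₁ * y * a₁⁻¹ * y⁻¹ ∈ K ⊓ Subgroup.centralizer ((VV p H : Subgroup G) : Set G) :=
    Subgroup.mem_inf.2 ⟨hQK (hQ₁Q hu₀), hres hu₀⟩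
  rw [Cfg.CKV c] at h1
  have h2 : a₁ * y * a₁⁻¹ * y⁻¹ ∈ Q ⊓ H := Subgroup.mem_inf.2 ⟨hQ₁Q hu₀, h1⟩
  rw [hQH, Subgroup.mem_bot] at h2
  exact hu₀1 h2

end cfgfinal


section mainthm

theorem thompson_all (p : ℕ) [hp : Fact p.Prime] (hp2 : p ≠ 2) : ∀ n : ℕ, IHyp.{u} p n := by
  intro n
  induction n with
  | zero =>
    intro G' _ _ h
    exact absurd h (Nat.not_lt_zero _)
  | succ n ih =>
    intro G' _ _ hlt P' hJ hZ
    by_cases hlt' : Nat.card G' < n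
    · exact ih G' hlt' P' hJ hZ
    · have hcard : Nat.card G' = n := by omega
      by_contra hnot
      have ih' : IHyp.{u} p (Nat.card G') := by rw [hcard]; exact ih
      obtain ⟨H, K, c⟩ := exists_cfg ih' P' hJ hZ hnot
      exact Cfg.contra c hp2

/-- **Thompson's normal `p`-complement theorem** (ambient form) -/
theorem thompson_npc {G : Type u} [Group G] [Finite G] {p : ℕ} [Fact p.Prime] (hp2 : p ≠ 2)
    (P : Sylow p G)
    (hJ : HasNormalPComplement p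
      ↥(Subgroup.normalizer ((Jr p (P : Subgroup G) : Subgroup G) : Set G)))
    (hZ : HasNormalPComplement p
      ↥(Subgroup.centralizer ((Zr (P : Subgroup G) : Subgroup G) : Set G))) :
    HasNormalPComplement p G :=
  thompson_all p hp2 (Nat.card G + 1) G (Nat.lt_succ_self _) P hJ hZ

end mainthm

end Cfsg.Agent.Lib.Lead.ThompsonFinal
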