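import Mathlib
import Cfsg.Agent.Lib.Lead.ThompsonFinal
import Cfsg.Agent.Lib.Helper3.ThompsonFpf
import Cfsg.Agent.S0023

set_option autoImplicit false
set_option linter.unusedSectionVars false
set_option linter.style.haveILetI false

universe u

namespace Cfsg.Agent.Lib.Lead.NilpMax

open Cfsg Cfsg.Agent.Lib.Helper4 Cfsg.Agent.Lib.Lead.ThompsonJ Cfsg.Agent.Lib.Lead.ThompsonRed
  Cfsg.Agent.Lib.Lead.ThompsonMin Cfsg.Agent.Lib.Lead.ThompsonFinal

theorem solvable_of_normal_sup {G : Type u} [Group G] (N M : Subgroup G) [N.Normal]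
    (hN : Group.IsSolvable ↥N) (hM : Group.IsSolvable ↥M) (h : N ⊔ M = ⊤) :
    Group.IsSolvable G := by
  have hsurj : Function.Surjective ((QuotientGroup.mk' N).comp M.subtype) := by
    intro y
    obtain ⟨g, rfl⟩ := QuotientGroup.mk'_surjective N y
    have hg : g ∈ N ⊔ M := by rw [h]; exact Subgroup.mem_top g
    obtain ⟨n, hn, m, hm, rfl⟩ := Subgroup.mem_sup_of_normal_left.1 hg
    refine ⟨⟨m, hm⟩, ?_⟩
    show (QuotientGroup.mk' N) m = (QuotientGroup.mk' N) (n * m)
    have hn1 : (QuotientGroup.mk' N) n = 1 := (QuotientGroup.eq_one_iff n).2 hn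
    rw [map_mul, hn1, one_mul]
  haveI : Group.IsSolvable (G ⧸ N) := Group.isSolvable_of_surjective hsurj
  exact Group.isSolvable_of_ker_le_range N.subtype (QuotientGroup.mk' N)
    (by rw [QuotientGroup.ker_mk', Subgroup.range_subtype])

/-- a finite group with a nilpotent maximal subgroup of odd order is solvable -/
theorem nilp_max_solvable : ∀ n : ℕ, ∀ (G : Type u) [Group G] [Finite G], Nat.card G = n →
    ∀ M : Subgroup G, IsCoatom M → Group.IsNilpotent ↥M → Odd (Nat.card M) →
      Group.IsSolvable G := by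
  intro n
  induction n using Nat.strong_induction_on with
  | _ n ih =>
  intro G _ _ hcard M hmax hnil hodd
  haveI := hnil
  haveI hMsolv : Group.IsSolvable ↥M := inferInstance
  by_cases hcore : ∃ L : Subgroup G, L.Normal ∧ L ≤ M ∧ L ≠ ⊥
  · obtain ⟨L, hLn, hLM, hL1⟩ := hcore
    haveI := hLn
    have hsurj := QuotientGroup.mk'_surjective L
    have hker := QuotientGroup.ker_mk' L
    have hcomap : (M.map (QuotientGroup.mk' L)).comap (QuotientGroup.mk' L) = M := by
      rw [Subgroup.comap_map_eq, hker, sup_eq_left.2 hLM]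
    have hcoatom : IsCoatom (M.map (QuotientGroup.mk' L)) := by
      refine ⟨?_, ?_⟩
      · intro htop
        apply hmax.1
        rw [← hcomap, htop, Subgroup.comap_top]
      · intro X hX
        have h1 : M ≤ X.comap (QuotientGroup.mk' L) := by
          rw [← hcomap]; exact Subgroup.comap_mono hX.le
        have h2 : M ≠ X.comap (QuotientGroup.mk' L) := by
          intro h
          apply hX.ne
          rw [← Subgroup.map_comap_eq_self_of_surjective hsurj X, ← h]
        have h3 := hmax.2 _ (lt_of_le_of_ne h1 h2)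
        rw [← Subgroup.map_comap_eq_self_of_surjective hsurj X, h3, ← MonoidHom.range_eq_map,
          MonoidHom.range_eq_top.2 hsurj]
    have hnil' : Group.IsNilpotent ↥(M.map (QuotientGroup.mk' L)) :=
      Group.nilpotent_of_surjective ((QuotientGroup.mk' L).subgroupMap M)
        ((QuotientGroup.mk' L).subgroupMap_surjective M)
    have hodd' : Odd (Nat.card (M.map (QuotientGroup.mk' L))) :=
      hodd.of_dvd_nat (Subgroup.card_map_dvd M _)
    have hq : Group.IsSolvable (G ⧸ L) :=
      ih _ (by rw [← hcard]; exact card_quot_lt L hL1) (G ⧸ L) rfl _ hcoatom hnil' hodd'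
    haveI := hq
    haveI : Group.IsSolvable ↥L :=
      Group.isSolvable_of_isSolvable_injective (f := Subgroup.inclusion hLM)
        (Subgroup.inclusion_injective hLM)
    exact Group.isSolvable_of_ker_le_range L.subtype (QuotientGroup.mk' L)
      (by rw [hker, Subgroup.range_subtype])
  push Not at hcore
  by_cases hM1 : M = ⊥
  · have hne : ∃ g : G, g ≠ 1 := by
      by_contra h
      push Not at h
      apply hmax.1
      ext x
      rw [h x]
      exact ⟨fun _ => Subgroup.mem_top _, fun _ => Subgroup.one_mem _⟩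
    obtain ⟨g, hg⟩ := hne
    have hz : Subgroup.zpowers g = ⊤ := by
      apply hmax.2
      rw [hM1, bot_lt_iff_ne_bot]
      intro h0
      exact hg (Subgroup.zpowers_eq_bot.1 h0)
    apply Group.isSolvable_of_comm
    intro a b
    have ha : a ∈ Subgroup.zpowers g := by rw [hz]; exact Subgroup.mem_top _
    have hb : b ∈ Subgroup.zpowers g := by rw [hz]; exact Subgroup.mem_top _
    obtain ⟨i, rfl⟩ := Subgroup.mem_zpowers_iff.1 ha
    obtain ⟨j, rfl⟩ := Subgroup.mem_zpowers_iff.1 hb
    exact zpow_mul_comm g i j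
  have hnormM : ∀ X : Subgroup G, X ≤ M → X ≠ ⊥ → M ≤ Subgroup.normalizer (X : Set G) →
      Subgroup.normalizer (X : Set G) = M := by
    intro X hXM hX1 hMX
    by_contra hne
    have h1 : Subgroup.normalizer (X : Set G) = ⊤ :=
      hmax.2 _ (lt_of_le_of_ne hMX (Ne.symm hne))
    exact hX1 (hcore X (Subgroup.normalizer_eq_top_iff.1 h1) hXM)
  have hNPC : ∀ p : ℕ, p.Prime → p ∣ Nat.card M → HasNormalPComplement p G := by
    intro p hpp hpdvd
    haveI : Fact p.Prime := ⟨hpp⟩
    have hp2 : p ≠ 2 := by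
      intro h2
      rw [h2] at hpdvd
      exact (Nat.not_even_iff_odd.2 hodd) (even_iff_two_dvd.2 hpdvd)
    obtain ⟨PM⟩ : Nonempty (Sylow p ↥M) := inferInstance
    have h03 := (Group.isNilpotent_of_finite_tfae (G := ↥M)).out 0 3
    have hPMn : (PM : Subgroup ↥M).Normal := h03.1 hnil p ⟨hpp⟩ PM
    obtain ⟨P₀, hP₀def⟩ : ∃ P₀, P₀ = (PM : Subgroup ↥M).map M.subtype := ⟨_, rfl⟩
    have hP₀M : P₀ ≤ M := by rw [hP₀def]; exact Subgroup.map_subtype_le _
    have hP₀p : IsPGroup p P₀ := by rw [hP₀def]; exact PM.2.map _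
    have hP₀1 : P₀ ≠ ⊥ := by
      intro h0
      rw [hP₀def, Subgroup.map_eq_bot_iff_of_injective _ M.subtype_injective] at h0
      have hc := PM.card_eq_multiplicity
      rw [h0, Subgroup.card_bot] at hc
      have hpos : 0 < (Nat.card ↥M).factorization p :=
        hpp.factorization_pos_of_dvd Nat.card_pos.ne' hpdvd
      have : 1 < p ^ (Nat.card ↥M).factorization p := Nat.one_lt_pow hpos.ne' hpp.one_lt
      omega
    have hMP₀ : M ≤ Subgroup.normalizer (P₀ : Set G) := by
      apply le_normalizer_of_conj_mem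
      intro m hm l hl
      rw [hP₀def] at hl ⊢
      obtain ⟨l', hl', rfl⟩ := hl
      exact ⟨⟨m, hm⟩ * l' * ⟨m, hm⟩⁻¹, hPMn.conj_mem l' hl' _, rfl⟩
    have hNP₀ := hnormM P₀ hP₀M hP₀1 hMP₀
    obtain ⟨P, hP⟩ := hP₀p.exists_le_sylow
    have hPeq : (P : Subgroup G) = P₀ := by
      by_contra hne
      have hlt : P₀ < P := lt_of_le_of_ne hP (Ne.symm hne)
      obtain ⟨x, hxP, hxN, hxP₀⟩ := normalizer_condition_in P.2 hlt
      rw [hNP₀] at hxN
      have hQp : IsPGroup p (((P : Subgroup G) ⊓ M).subgroupOf M) :=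
        (P.2.to_le inf_le_left).comap_subtype
      have hle : (PM : Subgroup ↥M) ≤ ((P : Subgroup G) ⊓ M).subgroupOf M := by
        intro z hz
        rw [Subgroup.mem_subgroupOf, Subgroup.mem_inf]
        refine ⟨hP ?_, z.2⟩
        rw [hP₀def]; exact Subgroup.mem_map_of_mem _ hz
      have heq := PM.is_maximal' hQp hle
      apply hxP₀
      have hxQ : (⟨x, hxN⟩ : ↥M) ∈ ((P : Subgroup G) ⊓ M).subgroupOf M := by
        rw [Subgroup.mem_subgroupOf, Subgroup.mem_inf]; exact ⟨hxP, hxN⟩
      rw [heq] at hxQ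
      rw [hP₀def]; exact ⟨⟨x, hxN⟩, hxQ, rfl⟩
    have hMnpc : HasNormalPComplement p ↥M := Cfsg.Agent.Lib.Helper3.npc_of_nilpotent hnil p
    apply thompson_npc hp2 P
    · have hJM : Subgroup.normalizer ((Jr p (P : Subgroup G) : Subgroup G) : Set G) = M := by
        apply hnormM
        · rw [hPeq]; exact (Jr_le p _).trans hP₀M
        · rw [hPeq]; exact Jr_ne_bot hP₀p hP₀1
        · rw [hPeq]; exact hMP₀.trans (normalizer_le_normalizer_Jr p _)
      rw [hJM]; exact hMnpc
    · have hZM : Subgroup.normalizer ((Zr (P : Subgroup G) : Subgroup G) : Set G) = M := by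
        apply hnormM
        · rw [hPeq]; exact (Zr_le _).trans hP₀M
        · rw [hPeq]; exact Zr_ne_bot hP₀p hP₀1
        · rw [hPeq]; exact hMP₀.trans (normalizer_le_normalizer_Zr _)
      refine npc_of_le_map (MonoidHom.id G) (fun _ _ h => h) ?_ hMnpc
      intro y hy
      have h1 := Subgroup.centralizer_le_normalizer _ hy
      rw [hZM] at h1
      exact h1
  -- a minimal normal subgroup
  have htopP : (fun L : Subgroup G => L.Normal ∧ L ≠ ⊥) ⊤ :=
    ⟨inferInstance, fun h => hM1 (le_bot_iff.1 (h ▸ le_top))⟩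
  obtain ⟨N, -, hNmin⟩ := Finite.exists_le_minimal
    (p := fun L : Subgroup G => L.Normal ∧ L ≠ ⊥) (a := ⊤) htopP
  obtain ⟨⟨hNn, hN1⟩, hNle⟩ := hNmin
  haveI := hNn
  have hNM : ¬ N ≤ M := fun h => hN1 (hcore N hNn h)
  have hsup : N ⊔ M = ⊤ :=
    hmax.2 _ (lt_of_le_of_ne le_sup_right (fun h => hNM (le_sup_left.trans h.ge)))
  suffices hNsolv : Group.IsSolvable ↥N from solvable_of_normal_sup N M hNsolv hMsolv hsup
  by_cases hcop : (Nat.card N).Coprime (Nat.card M)
  · have hN1' : Nat.card N ≠ 1 := fun h => hN1 (Subgroup.card_eq_one.1 h)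
    have hqp : (Nat.card N).minFac.Prime := Nat.minFac_prime hN1'
    have hqdvd : (Nat.card N).minFac ∣ Nat.card N := Nat.minFac_dvd _
    generalize (Nat.card N).minFac = q at hqp hqdvd
    haveI : Fact q.Prime := ⟨hqp⟩
    have hAK : M ≤ Subgroup.normalizer (N : Set G) := by
      rw [Subgroup.normalizer_eq_top_iff.2 hNn]; exact le_top
    obtain ⟨QS, hQS⟩ := Cfsg.Agent.S0023.result M N hAK hcop.symm (Or.inl hMsolv) q
    obtain ⟨Q, hQdef⟩ : ∃ Q, Q = (QS : Subgroup ↥N).map N.subtype := ⟨_, rfl⟩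
    rw [← hQdef] at hQS
    have hQN : Q ≤ N := by rw [hQdef]; exact Subgroup.map_subtype_le _
    have hQq : IsPGroup q Q := by rw [hQdef]; exact QS.2.map _
    have hQ1 : Q ≠ ⊥ := by
      intro h0
      rw [hQdef, Subgroup.map_eq_bot_iff_of_injective _ N.subtype_injective] at h0
      have hc := QS.card_eq_multiplicity
      rw [h0, Subgroup.card_bot] at hc
      have hpos : 0 < (Nat.card ↥N).factorization q :=
        hqp.factorization_pos_of_dvd Nat.card_pos.ne' hqdvd
      have : 1 < q ^ (Nat.card ↥N).factorization q := Nat.one_lt_pow hpos.ne' hqp.one_lt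
      omega
    have hQM : ¬ Q ≤ M := by
      intro h
      apply hQ1
      have h1 : Q ≤ N ⊓ M := le_inf hQN h
      rw [(Subgroup.disjoint_of_coprime_natCard hcop).eq_bot] at h1
      exact le_bot_iff.1 h1
    have hQsup : Q ⊔ M = ⊤ :=
      hmax.2 _ (lt_of_le_of_ne le_sup_right (fun h => hQM (le_sup_left.trans h.ge)))
    have hQn : Q.Normal := by
      rw [← Subgroup.normalizer_eq_top_iff, ← top_le_iff, ← hQsup]
      exact sup_le Subgroup.le_normalizer hQS
    have hNQ : N ≤ Q := hNle ⟨hQn, hQ1⟩ hQN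
    have hNq : IsPGroup q N := hQq.to_le hNQ
    haveI := hNq.isNilpotent
    infer_instance
  · obtain ⟨p, hpp, hpN, hpM⟩ := Nat.Prime.not_coprime_iff_dvd.1 hcop
    haveI : Fact p.Prime := ⟨hpp⟩
    obtain ⟨Kp, hKn, hKc, hKq⟩ := exists_normal_hall_of_hasNormalPComplement p (hNPC p hpp hpM)
    haveI := hKn
    have hinf : N ⊓ Kp = ⊥ := by
      by_contra hne
      have hle : N ≤ N ⊓ Kp := hNle ⟨inferInstance, hne⟩ inf_le_left
      have hNK : N ≤ Kp := hle.trans inf_le_right
      have : p ∣ Nat.card Kp := dvd_trans hpN (Subgroup.card_dvd_of_le hNK)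
      exact (Nat.Prime.coprime_iff_not_dvd hpp).1 hKc.symm this
    have hNp : IsPGroup p N := by
      rintro ⟨x, hx⟩
      obtain ⟨k, hk⟩ := hKq (x : G ⧸ Kp)
      refine ⟨k, ?_⟩
      have h1 : x ^ (p ^ k) ∈ Kp := by
        apply (QuotientGroup.eq_one_iff _).1
        rw [QuotientGroup.mk_pow]; exact hk
      have h2 : x ^ (p ^ k) ∈ N ⊓ Kp := Subgroup.mem_inf.2 ⟨N.pow_mem hx _, h1⟩
      rw [hinf, Subgroup.mem_bot] at h2
      exact Subtype.ext h2
    haveI := hNp.isNilpotent
    infer_instance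

end Cfsg.Agent.Lib.Lead.NilpMax
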