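import Mathlib

/-! Finite subgroups of odd order of `SL(2, K)`, `K` of odd characteristic `p`:
elements of order dividing `p` commute (elementary proof via Burnside's transfer theorem). -/

set_option autoImplicit false

namespace Cfsg.Agent.Lib.Lead

section OddSL2Lin

variable {K : Type*} [Field K]

/-- a matrix commuting with a non-scalar `2 × 2` matrix `X` lies in `K[X]` -/
theorem oddsl2_comm_form (X Y : Matrix (Fin 2) (Fin 2) K) (hXY : X * Y = Y * X)
    (hX : ¬ (X 0 1 = 0 ∧ X 1 0 = 0 ∧ X 0 0 = X 1 1)) :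
    ∃ α β : K, Y = α • (1 : Matrix (Fin 2) (Fin 2) K) + β • X := by
  have h00 := congrFun (congrFun hXY 0) 0
  have h01 := congrFun (congrFun hXY 0) 1
  have h10 := congrFun (congrFun hXY 1) 0
  simp only [Matrix.mul_apply, Fin.sum_univ_two] at h00 h01 h10
  by_cases hb : X 0 1 = 0
  · by_cases hc : X 1 0 = 0
    · have had : X 0 0 - X 1 1 ≠ 0 := fun h => hX ⟨hb, hc, sub_eq_zero.mp h⟩
      have hf : Y 0 1 = 0 := by
        have : Y 0 1 * (X 0 0 - X 1 1) = 0 := by
          rw [hb] at h01; linear_combination h01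
        rcases mul_eq_zero.mp this with h | h
        · exact h
        · exact absurd h had
      have hg : Y 1 0 = 0 := by
        have : Y 1 0 * (X 0 0 - X 1 1) = 0 := by
          rw [hc] at h10; linear_combination -h10
        rcases mul_eq_zero.mp this with h | h
        · exact h
        · exact absurd h had
      refine ⟨Y 0 0 - (Y 0 0 - Y 1 1) / (X 0 0 - X 1 1) * X 0 0,
        (Y 0 0 - Y 1 1) / (X 0 0 - X 1 1), ?_⟩
      ext i j
      fin_cases i <;> fin_cases j
      · simp
      · simp [hb, hf]
      · simp [hc, hg]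
      · simp
        field_simp
        ring
    · refine ⟨Y 0 0 - Y 1 0 / X 1 0 * X 0 0, Y 1 0 / X 1 0, ?_⟩
      ext i j
      fin_cases i <;> fin_cases j
      · simp
      · simp
        field_simp
        linear_combination -h00
      · simp
        field_simp
      · simp
        field_simp
        linear_combination -h10
  · refine ⟨Y 0 0 - Y 0 1 / X 0 1 * X 0 0, Y 0 1 / X 0 1, ?_⟩
    ext i j
    fin_cases i <;> fin_cases j
    · simp
    · simp
      field_simp
    · simp
      field_simp
      linear_combination h00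
    · simp
      field_simp
      linear_combination h01


/-- commuting is transitive through a non-scalar matrix -/
theorem oddsl2_ct (X Y Z : Matrix (Fin 2) (Fin 2) K) (hXY : X * Y = Y * X) (hXZ : X * Z = Z * X)
    (hX : ¬ (X 0 1 = 0 ∧ X 1 0 = 0 ∧ X 0 0 = X 1 1)) : Y * Z = Z * Y := by
  obtain ⟨α, β, rfl⟩ := oddsl2_comm_form X Y hXY hX
  simp only [add_mul, mul_add, Matrix.smul_mul, Matrix.mul_smul, one_mul, mul_one, hXZ]

/-- a matrix of determinant one commuting with `X` (determinant one, `tr² ≠ 4`) and with the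
same trace is `X` or its inverse `tr X - X`. -/
theorem oddsl2_conj_comm (X Y : Matrix (Fin 2) (Fin 2) K) (h2 : (2 : K) ≠ 0)
    (hdX : X.det = 1) (hdY : Y.det = 1) (htr : Y.trace = X.trace)
    (ht : X.trace ^ 2 ≠ 4) (hXY : X * Y = Y * X) :
    Y = X ∨ Y = X.trace • (1 : Matrix (Fin 2) (Fin 2) K) - X := by
  rw [Matrix.det_fin_two] at hdX
  rw [Matrix.trace_fin_two] at ht
  have hX : ¬ (X 0 1 = 0 ∧ X 1 0 = 0 ∧ X 0 0 = X 1 1) := by
    rintro ⟨hb, hc, had⟩
    apply ht
    rw [hb, hc, had] at hdX
    rw [had]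
    linear_combination 4 * hdX
  obtain ⟨α, β, rfl⟩ := oddsl2_comm_form X Y hXY hX
  have htr' : 2 * α + β * (X 0 0 + X 1 1) = X 0 0 + X 1 1 := by
    have h := htr
    simp [Matrix.trace_fin_two] at h
    linear_combination h
  have hdet' : α ^ 2 + α * β * (X 0 0 + X 1 1) + β ^ 2 = 1 := by
    have h := hdY
    simp [Matrix.det_fin_two] at h
    linear_combination h - β ^ 2 * hdX
  have key : (1 - β ^ 2) * ((X 0 0 + X 1 1) ^ 2 - 4) = 0 := by
    linear_combination 4 * hdet' - (2 * α + (X 0 0 + X 1 1) + β * (X 0 0 + X 1 1)) * htr'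
  have hb2 : (1 - β) * (1 + β) = 0 := by
    rcases mul_eq_zero.mp key with h | h
    · linear_combination h
    · exact absurd (sub_eq_zero.mp h) ht
  rcases mul_eq_zero.mp hb2 with h | h
  · have hβ : β = 1 := by linear_combination -h
    have hα : α = 0 := by
      have h3 : 2 * α = 0 := by rw [hβ] at htr'; linear_combination htr'
      rcases mul_eq_zero.mp h3 with h4 | h4
      · exact absurd h4 h2
      · exact h4
    left
    rw [hα, hβ, zero_smul, zero_add, one_smul]
  · have hβ : β = -1 := by linear_combination h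
    have hα : α = X 0 0 + X 1 1 := by
      have h3 : 2 * (α - (X 0 0 + X 1 1)) = 0 := by rw [hβ] at htr'; linear_combination htr'
      rcases mul_eq_zero.mp h3 with h4 | h4
      · exact absurd h4 h2
      · exact sub_eq_zero.mp h4
    right
    rw [Matrix.trace_fin_two, hα, hβ, neg_one_smul, sub_eq_add_neg]

/-- Cayley–Hamilton for determinant one: `X (tr X - X) = 1` -/
theorem oddsl2_ch (X : Matrix (Fin 2) (Fin 2) K) (hd : X.det = 1) :
    X * (X.trace • (1 : Matrix (Fin 2) (Fin 2) K) - X) = 1 := by
  rw [Matrix.det_fin_two] at hd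
  ext i j
  fin_cases i <;> fin_cases j
  · simp [Matrix.mul_apply, Fin.sum_univ_two, Matrix.trace_fin_two]
    linear_combination hd
  · simp [Matrix.mul_apply, Fin.sum_univ_two, Matrix.trace_fin_two]
    ring
  · simp [Matrix.mul_apply, Fin.sum_univ_two, Matrix.trace_fin_two]
    ring
  · simp [Matrix.mul_apply, Fin.sum_univ_two, Matrix.trace_fin_two]
    linear_combination hd

/-- determinant one and `tr² = 4` in characteristic `p`: `X ^ (2p) = 1` -/
theorem oddsl2_unip_pow (p : ℕ) [Fact p.Prime] [CharP K p] (X : Matrix (Fin 2) (Fin 2) K)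
    (hd : X.det = 1) (ht : X.trace ^ 2 = 4) : X ^ (2 * p) = 1 := by
  have hp2 : 2 ≤ p := (Fact.out : p.Prime).two_le
  rw [Matrix.det_fin_two] at hd
  rw [Matrix.trace_fin_two] at ht
  have hcases : (X 0 0 + X 1 1 - 2) * (X 0 0 + X 1 1 + 2) = 0 := by linear_combination ht
  rcases mul_eq_zero.mp hcases with h | h
  · have htr2 : X 0 0 + X 1 1 = 2 := by linear_combination h
    have hN : (X - 1) * (X - 1) = 0 := by
      ext i j
      fin_cases i <;> fin_cases j
      · simp [Matrix.mul_apply, Fin.sum_univ_two]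
        linear_combination -hd + X 0 0 * htr2
      · simp [Matrix.mul_apply, Fin.sum_univ_two]
        linear_combination X 0 1 * htr2
      · simp [Matrix.mul_apply, Fin.sum_univ_two]
        linear_combination X 1 0 * htr2
      · simp [Matrix.mul_apply, Fin.sum_univ_two]
        linear_combination -hd + X 1 1 * htr2
    have hNp : (X - 1) ^ p = 0 := by
      have e : (X - 1) ^ p = (X - 1) ^ 2 * (X - 1) ^ (p - 2) := by
        rw [← pow_add]; congr 1; omega
      rw [e, pow_two, hN, zero_mul]
    rw [sub_pow_char_of_commute p (Commute.one_right X), one_pow, sub_eq_zero] at hNp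
    rw [pow_mul', hNp, one_pow]
  · have htr2 : X 0 0 + X 1 1 = -2 := by linear_combination h
    have hN : (X + 1) * (X + 1) = 0 := by
      ext i j
      fin_cases i <;> fin_cases j
      · simp [Matrix.mul_apply, Fin.sum_univ_two]
        linear_combination -hd + X 0 0 * htr2
      · simp [Matrix.mul_apply, Fin.sum_univ_two]
        linear_combination X 0 1 * htr2
      · simp [Matrix.mul_apply, Fin.sum_univ_two]
        linear_combination X 1 0 * htr2
      · simp [Matrix.mul_apply, Fin.sum_univ_two]
        linear_combination -hd + X 1 1 * htr2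
    have hNp : (X + 1) ^ p = 0 := by
      have e : (X + 1) ^ p = (X + 1) ^ 2 * (X + 1) ^ (p - 2) := by
        rw [← pow_add]; congr 1; omega
      rw [e, pow_two, hN, zero_mul]
    rw [add_pow_char_of_commute p (Commute.one_right X), one_pow] at hNp
    have hXp : X ^ p = -1 := eq_neg_of_add_eq_zero_left hNp
    rw [pow_mul', hXp]
    simp

end OddSL2Lin

section OddSL2Grp

theorem odd_sq_eq_one {L : Type*} [Group L] [Finite L] (hodd : Odd (Nat.card L)) (x : L)
    (hx2 : x ^ 2 = 1) : x = 1 := by
  have hxo : Odd (orderOf x) := hodd.of_dvd_nat (orderOf_dvd_natCard x)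
  have hd : orderOf x ∣ 2 := orderOf_dvd_of_pow_eq_one hx2
  have h1 : orderOf x = 1 := by
    rcases (Nat.dvd_prime Nat.prime_two).mp hd with h | h
    · exact h
    · rw [h] at hxo; exact absurd hxo (by decide)
  exact orderOf_eq_one_iff.mp h1

/-- in a group of odd order no non-identity element is conjugate to its inverse -/
theorem odd_real_eq_one {L : Type*} [Group L] [Finite L] (hodd : Odd (Nat.card L)) (g x : L)
    (h : g * x * g⁻¹ = x⁻¹) : x = 1 := by
  have e1 : g * x = x⁻¹ * g := by rw [← h]; group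
  have e2 : g * x⁻¹ = x * g := by
    have h' : g * x⁻¹ * g⁻¹ = x := by
      have := congrArg (fun y => y⁻¹) h
      simpa [mul_inv_rev, mul_assoc] using this
    calc g * x⁻¹ = g * x⁻¹ * g⁻¹ * g := by group
      _ = x * g := by rw [h']
  have h2 : Commute (g * g) x := by
    show g * g * x = x * (g * g)
    rw [mul_assoc, e1, ← mul_assoc, e2, mul_assoc]
  have hg : Odd (orderOf g) := hodd.of_dvd_nat (orderOf_dvd_natCard g)
  obtain ⟨k, hk⟩ := hg
  have hgk : g = (g * g) ^ (k + 1) := by
    rw [← pow_two, ← pow_mul]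
    have e : 2 * (k + 1) = orderOf g + 1 := by omega
    rw [e, pow_succ, pow_orderOf_eq_one, one_mul]
  have h3 : Commute g x := by rw [hgk]; exact h2.pow_left _
  have h4 : x = x⁻¹ := by rw [← h, h3.eq, mul_inv_cancel_right]
  apply odd_sq_eq_one hodd
  rw [pow_two]
  nth_rewrite 1 [h4]
  exact inv_mul_cancel x

theorem pgroup_elt_eq_one {G : Type*} [Group G] {r p : ℕ} (hr : r.Prime) (hp : p.Prime)
    (hrp : r ≠ p) (hG : IsPGroup r G) (x : G) (hx : x ^ p = 1) : x = 1 := by
  obtain ⟨k, hk⟩ := hG x
  have h1 : orderOf x ∣ p := orderOf_dvd_of_pow_eq_one hx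
  have h2 : orderOf x ∣ r ^ k := orderOf_dvd_of_pow_eq_one hk
  have hc : Nat.Coprime (r ^ k) p := Nat.Coprime.pow_left k ((Nat.coprime_primes hr hp).mpr hrp)
  have h3 : orderOf x ∣ 1 := by
    have := Nat.dvd_gcd h2 h1
    rwa [hc.gcd_eq_one] at this
  exact orderOf_eq_one_iff.mp (Nat.dvd_one.mp h3)

variable {K : Type*} [Field K]

/-- **Odd-order subgroups of `SL(2, K)`**, `char K = p` odd: any two elements of order
dividing `p` commute. -/
theorem oddsl2_pelements_commute {L : Type*} [Group L] [Finite L] (p : ℕ) [Fact p.Prime]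
    [CharP K p] (hp2 : p ≠ 2) (hodd : Odd (Nat.card L))
    (ι : L →* Matrix.SpecialLinearGroup (Fin 2) K) (hι : Function.Injective ι)
    (u u' : L) (hu : u ^ p = 1) (hu' : u' ^ p = 1) : u * u' = u' * u := by
  have hpp : p.Prime := Fact.out
  have h2K : (2 : K) ≠ 0 := by
    intro h
    have h' : ((2 : ℕ) : K) = 0 := by exact_mod_cast h
    rw [CharP.cast_eq_zero_iff K p 2] at h'
    exact hp2 ((Nat.prime_dvd_prime_iff_eq hpp Nat.prime_two).mp h')
  -- the matrix of an element
  let M : L → Matrix (Fin 2) (Fin 2) K := fun x => ((ι x : Matrix.SpecialLinearGroup (Fin 2) K) :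
    Matrix (Fin 2) (Fin 2) K)
  have hMmul : ∀ x y : L, M (x * y) = M x * M y := fun x y => by
    show ((ι (x * y) : Matrix.SpecialLinearGroup (Fin 2) K) : Matrix (Fin 2) (Fin 2) K) = _
    rw [map_mul, Matrix.SpecialLinearGroup.coe_mul]
  have hMone : M 1 = 1 := by
    show ((ι 1 : Matrix.SpecialLinearGroup (Fin 2) K) : Matrix (Fin 2) (Fin 2) K) = _
    rw [map_one, Matrix.SpecialLinearGroup.coe_one]
  have hMpow : ∀ (x : L) (n : ℕ), M (x ^ n) = M x ^ n := fun x n => by
    show ((ι (x ^ n) : Matrix.SpecialLinearGroup (Fin 2) K) : Matrix (Fin 2) (Fin 2) K) = _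
    rw [map_pow, Matrix.SpecialLinearGroup.coe_pow]
  have hMinj : ∀ x y : L, M x = M y → x = y := fun x y h => hι (Subtype.ext h)
  have hMdet : ∀ x : L, (M x).det = 1 := fun x => (ι x).det_coe
  -- non-identity elements are not scalar
  have hns : ∀ x : L, x ≠ 1 → ¬ (M x 0 1 = 0 ∧ M x 1 0 = 0 ∧ M x 0 0 = M x 1 1) := by
    rintro x hx ⟨hb, hc, had⟩
    apply hx
    apply odd_sq_eq_one hodd
    apply hMinj
    rw [pow_two, hMmul, hMone]
    have hd := hMdet x
    rw [Matrix.det_fin_two, hb, hc, had] at hd
    ext i j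
    fin_cases i <;> fin_cases j
    · simp [Matrix.mul_apply, Fin.sum_univ_two, hb, hc, had]
      linear_combination hd
    · simp [Matrix.mul_apply, Fin.sum_univ_two, hb, hc, had]
    · simp [Matrix.mul_apply, Fin.sum_univ_two, hb, hc, had]
    · simp [Matrix.mul_apply, Fin.sum_univ_two, hb, hc, had]
      linear_combination hd
  -- commutative transitivity
  have hct : ∀ x y z : L, x ≠ 1 → x * y = y * x → x * z = z * x → y * z = z * y := by
    intro x y z hx hxy hxz
    apply hMinj
    rw [hMmul, hMmul]
    apply oddsl2_ct (M x) (M y) (M z) _ _ (hns x hx)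
    · rw [← hMmul, ← hMmul, hxy]
    · rw [← hMmul, ← hMmul, hxz]
  -- trace² = 4 forces order dividing p
  have htr4 : ∀ x : L, (M x).trace ^ 2 = 4 → x ^ p = 1 := by
    intro x hx
    have h1 : x ^ (2 * p) = 1 := by
      apply hMinj
      rw [hMpow, hMone]
      exact oddsl2_unip_pow p (M x) (hMdet x) hx
    have hxo : Odd (orderOf x) := hodd.of_dvd_nat (orderOf_dvd_natCard x)
    have hd : orderOf x ∣ 2 * p := orderOf_dvd_of_pow_eq_one h1
    have hc : Nat.Coprime (orderOf x) 2 := Nat.Coprime.symm (Nat.coprime_two_left.mpr hxo)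
    exact orderOf_dvd_iff_pow_eq_one.mp (hc.dvd_of_dvd_mul_left hd)
  -- a conjugate of x commuting with x is x (if x is not of order dividing p)
  have hconj : ∀ g x : L, x ^ p ≠ 1 → (g * x * g⁻¹) * x = x * (g * x * g⁻¹) →
      g * x = x * g := by
    intro g x hxp hcomm
    have hx1 : x ≠ 1 := fun h => hxp (by rw [h, one_pow])
    have htrne : (M x).trace ^ 2 ≠ 4 := fun h => hxp (htr4 x h)
    have htreq : (M (g * x * g⁻¹)).trace = (M x).trace := by
      rw [hMmul, hMmul, Matrix.trace_mul_comm, ← Matrix.mul_assoc, ← hMmul, inv_mul_cancel,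
        hMone, one_mul]
    have hXY : M x * M (g * x * g⁻¹) = M (g * x * g⁻¹) * M x := by
      rw [← hMmul, ← hMmul, hcomm]
    rcases oddsl2_conj_comm (M x) (M (g * x * g⁻¹)) h2K (hMdet x) (hMdet _) htreq htrne hXY
      with h | h
    · have h1 : g * x * g⁻¹ = x := hMinj _ _ h
      calc g * x = g * x * g⁻¹ * g := by group
        _ = x * g := by rw [h1]
    · exfalso
      have h1 : x * (g * x * g⁻¹) = 1 := by
        apply hMinj
        rw [hMmul, h, hMone]
        exact oddsl2_ch (M x) (hMdet x)
      have h2 : g * x * g⁻¹ = x⁻¹ := eq_inv_of_mul_eq_one_right h1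
      exact hx1 (odd_real_eq_one hodd g x h2)
  -- Sylow r-subgroups (r ≠ p) are central in their normalizers
  have hNC : ∀ (r : ℕ) [Fact r.Prime], r ≠ p → ∀ R : Sylow r L,
      Subgroup.normalizer ((R : Subgroup L) : Set L) ≤ Subgroup.centralizer (R : Set L) := by
    intro r hrf hrp R g hg
    rw [Subgroup.mem_centralizer_iff]
    by_cases hR : (R : Subgroup L) = ⊥
    · intro h hh
      have hh' : h ∈ (R : Subgroup L) := hh
      rw [hR, Subgroup.mem_bot] at hh'
      rw [hh', one_mul, mul_one]
    · have : Nontrivial ↥(R : Subgroup L) := (Subgroup.nontrivial_iff_ne_bot _).mpr hR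
      have := IsPGroup.center_nontrivial R.isPGroup'
      obtain ⟨⟨z, hz⟩, hz1⟩ := exists_ne (1 : Subgroup.center ↥(R : Subgroup L))
      have hzc : ∀ h ∈ (R : Subgroup L), (z : L) * h = h * (z : L) := by
        intro h hh
        have := (Subgroup.mem_center_iff.mp hz) ⟨h, hh⟩
        have := congrArg Subtype.val this
        simpa using this.symm
      have hz1' : (z : L) ≠ 1 := by
        intro h
        apply hz1
        apply Subtype.ext
        apply Subtype.ext
        simpa using h
      have hzp : (z : L) ^ p ≠ 1 := by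
        intro h
        apply hz1'
        have hz' : z ^ p = 1 := Subtype.ext (by simpa using h)
        have := pgroup_elt_eq_one hrf.out hpp hrp R.isPGroup' z hz'
        rw [this]; rfl
      have hy : g * (z : L) * g⁻¹ ∈ (R : Subgroup L) :=
        (Subgroup.mem_normalizer_iff.mp hg (z : L)).mp z.2
      have hgz : g * (z : L) = (z : L) * g := hconj g (z : L) hzp (hzc _ hy).symm
      intro h hh
      exact hct (z : L) h g hz1' (hzc h hh) hgz.symm
  -- the subgroup generated by u, u' is a p-group
  have hH : IsPGroup p ↥(Subgroup.closure ({u, u'} : Set L)) := by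
    rintro ⟨h, hh⟩
    have hn0 : orderOf h ≠ 0 := (orderOf_pos h).ne'
    have hpow : orderOf h = p ^ (orderOf h).primeFactorsList.length := by
      apply Nat.eq_prime_pow_of_unique_prime_dvd hn0
      intro r hr hrd
      by_contra hrp
      haveI : Fact r.Prime := ⟨hr⟩
      obtain R : Sylow r L := default
      have hker : Subgroup.closure ({u, u'} : Set L) ≤
          (MonoidHom.transferSylow R (hNC r hrp R)).ker := by
        rw [Subgroup.closure_le]
        rintro x (rfl | rfl)
        · rw [SetLike.mem_coe, MonoidHom.mem_ker]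
          apply pgroup_elt_eq_one hr hpp hrp R.isPGroup'
          rw [← map_pow, hu, map_one]
        · rw [SetLike.mem_coe, MonoidHom.mem_ker]
          apply pgroup_elt_eq_one hr hpp hrp R.isPGroup'
          rw [← map_pow, hu', map_one]
      have hnd := MonoidHom.not_dvd_card_ker_transferSylow R (hNC r hrp R)
      apply hnd
      have h1 : orderOf (⟨h, hker hh⟩ : (MonoidHom.transferSylow R (hNC r hrp R)).ker) ∣
          Nat.card (MonoidHom.transferSylow R (hNC r hrp R)).ker := orderOf_dvd_natCard _
      rw [Subgroup.orderOf_mk] at h1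
      exact hrd.trans h1
    refine ⟨(orderOf h).primeFactorsList.length, ?_⟩
    apply Subtype.ext
    rw [Subgroup.coe_pow, ← hpow]
    exact pow_orderOf_eq_one h
  by_cases hbot : Subgroup.closure ({u, u'} : Set L) = ⊥
  · have h1 : u = 1 := by
      have : u ∈ Subgroup.closure ({u, u'} : Set L) := Subgroup.subset_closure (by simp)
      rwa [hbot, Subgroup.mem_bot] at this
    rw [h1, one_mul, mul_one]
  · have : Nontrivial ↥(Subgroup.closure ({u, u'} : Set L)) :=
      (Subgroup.nontrivial_iff_ne_bot _).mpr hbot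
    have := IsPGroup.center_nontrivial hH
    obtain ⟨⟨z, hz⟩, hz1⟩ := exists_ne (1 : Subgroup.center ↥(Subgroup.closure ({u, u'} : Set L)))
    have hzc : ∀ h ∈ Subgroup.closure ({u, u'} : Set L), (z : L) * h = h * (z : L) := by
      intro h hh
      have := (Subgroup.mem_center_iff.mp hz) ⟨h, hh⟩
      have := congrArg Subtype.val this
      simpa using this.symm
    have hz1' : (z : L) ≠ 1 := by
      intro h
      apply hz1
      apply Subtype.ext
      apply Subtype.ext
      simpa using h
    exact hct (z : L) u u' hz1' (hzc u (Subgroup.subset_closure (by simp)))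
      (hzc u' (Subgroup.subset_closure (by simp)))

end OddSL2Grp

end Cfsg.Agent.Lib.Lead
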