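import Mathlib.GroupTheory.GroupAction.Quotient
import Mathlib.GroupTheory.Index
import Mathlib.GroupTheory.Sylow

set_option autoImplicit false

namespace Cfsg.Agent.Lib.Lead

/-- if one point is fixed and all other orbits have size divisible by `d`, the set has
size `≡ 1 mod d` -/
theorem card_modEq_one_of_dvd_orbits {H S : Type*} [Group H] [MulAction H S] [Finite S]
    (d : ℕ) (s0 : S) (hfix : ∀ h : H, h • s0 = s0)
    (hd : ∀ s : S, s ≠ s0 → d ∣ Nat.card (MulAction.orbit H s)) :
    Nat.card S ≡ 1 [MOD d] := by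
  classical
  letI : Fintype (MulAction.orbitRel.Quotient H S) := Fintype.ofFinite _
  have e := MulAction.selfEquivSigmaOrbits' H S
  rw [Nat.card_congr e, Nat.card_sigma]
  set ω0 : MulAction.orbitRel.Quotient H S := Quotient.mk'' s0 with hω0
  rw [← Finset.add_sum_erase Finset.univ _ (Finset.mem_univ ω0)]
  have h0 : Nat.card ω0.orbit = 1 := by
    rw [hω0, MulAction.orbitRel.Quotient.orbit_mk]
    have : MulAction.orbit H s0 = {s0} := by
      ext x
      rw [MulAction.mem_orbit_iff, Set.mem_singleton_iff]
      constructor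
      · rintro ⟨h, rfl⟩; exact hfix h
      · rintro rfl; exact ⟨1, one_smul _ _⟩
    rw [this]
    simp
  rw [h0]
  have hsum : d ∣ ∑ ω ∈ Finset.univ.erase ω0, Nat.card ω.orbit := by
    apply Finset.dvd_sum
    intro ω hω
    rw [Finset.mem_erase] at hω
    induction ω using Quotient.inductionOn' with
    | h s =>
      rw [MulAction.orbitRel.Quotient.orbit_mk]
      apply hd
      rintro rfl
      exact hω.1 rfl
  obtain ⟨c, hc⟩ := hsum
  rw [hc]
  exact Nat.add_mul_mod_self_left 1 d c

end Cfsg.Agent.Lib.Lead
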