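import Mathlib
import Cfsg.Prelude.Def_Solvable
import Cfsg.Agent.Lib.Helper4.Hall
import Cfsg.Agent.Lib.Helper4.CoprimeAct
import Cfsg.Agent.Lib.Helper4.CoprimeComm
import Cfsg.Agent.Lib.Helper7.SylowQuot

set_option autoImplicit false

namespace Cfsg.Agent.Lib.Lead.PNilpSec

open Cfsg Cfsg.Agent.Lib.Helper4 Cfsg.Agent.Lib.Helper7

open scoped Pointwise

section key
variable {K : Type*} [Group K] [Finite K] {p q : ℕ} [hp : Fact p.Prime] [hq : Fact q.Prime]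

theorem mem_zpowers_of_ne_one {y z : K} (hy : y ^ q = 1) (hz : z ∈ Subgroup.zpowers y)
    (hz1 : z ≠ 1) : y ∈ Subgroup.zpowers z := by
  have hy1 : y ≠ 1 := by
    rintro rfl
    rw [Subgroup.zpowers_one_eq_bot, Subgroup.mem_bot] at hz
    exact hz1 hz
  have hoy : orderOf y = q := by
    have h1 : orderOf y ∣ q := orderOf_dvd_of_pow_eq_one hy
    rcases (Nat.dvd_prime hq.out).1 h1 with h | h
    · exact absurd (orderOf_eq_one_iff.1 h) hy1
    · exact h
  have hle : Subgroup.zpowers z ≤ Subgroup.zpowers y := Subgroup.zpowers_le.2 hz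
  have hcy : Nat.card (Subgroup.zpowers y) = q := by rw [Nat.card_zpowers, hoy]
  have hcz : Nat.card (Subgroup.zpowers z) = q := by
    have h1 : Nat.card (Subgroup.zpowers z) ∣ q := hcy ▸ Subgroup.card_dvd_of_le hle
    rcases (Nat.dvd_prime hq.out).1 h1 with h | h
    · exfalso; apply hz1
      rw [Nat.card_zpowers] at h
      exact orderOf_eq_one_iff.1 h
    · exact h
  have heq : Subgroup.zpowers z = Subgroup.zpowers y :=
    Subgroup.eq_of_le_of_card_ge hle (by rw [hcy, hcz])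
  rw [heq]; exact Subgroup.mem_zpowers y

theorem key (hpq : p ≠ q) (V : Subgroup K) [hVn : V.Normal] (hVp : IsPGroup p V) (hV1 : V ≠ ⊥)
    (y : K) (hy : y ^ q = 1) (htop : V ⊔ Subgroup.zpowers y = ⊤)
    (hC : ∀ v ∈ V, v * y = y * v → v = 1) :
    Cfsg.pPrimeCore p K = ⊥ ∧ ∀ k : K, orderOf k ≠ Monoid.exponent K := by
  obtain ⟨v₁, hv₁V, hv₁⟩ : ∃ v ∈ V, v ≠ 1 := by
    by_contra h
    push Not at h
    exact hV1 ((Subgroup.eq_bot_iff_forall _).2 h)
  have hy1 : y ≠ 1 := by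
    rintro rfl
    exact hv₁ (hC v₁ hv₁V (by simp))
  have hoy : orderOf y = q := by
    have h1 : orderOf y ∣ q := orderOf_dvd_of_pow_eq_one hy
    rcases (Nat.dvd_prime hq.out).1 h1 with h | h
    · exact absurd (orderOf_eq_one_iff.1 h) hy1
    · exact h
  have hdecomp : ∀ t : K, ∃ v ∈ V, ∃ z ∈ Subgroup.zpowers y, t = v * z := by
    intro t
    have ht : t ∈ ((V ⊔ Subgroup.zpowers y : Subgroup K) : Set K) := by
      rw [htop]; exact Subgroup.mem_top t
    rw [Subgroup.normal_mul] at ht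
    obtain ⟨v, hv, z, hz, rfl⟩ := Set.mem_mul.1 ht
    exact ⟨v, hv, z, hz, rfl⟩
  have hC' : ∀ z ∈ Subgroup.zpowers y, z ≠ 1 → ∀ v ∈ V, v * z = z * v → v = 1 := by
    intro z hz hz1 v hv hcomm
    have hyz := mem_zpowers_of_ne_one hy hz hz1
    obtain ⟨n, hn⟩ := Subgroup.mem_zpowers_iff.1 hyz
    apply hC v hv
    rw [← hn]
    exact ((show Commute v z from hcomm).zpow_right n).eq
  obtain ⟨nV, hnV⟩ := (IsPGroup.iff_card).1 hVp
  have hcopq : Nat.Coprime p q := (Nat.coprime_primes hp.out hq.out).2 hpq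
  constructor
  · unfold Cfsg.pPrimeCore
    rw [sSup_eq_bot]
    rintro T ⟨hTn, hTc⟩
    rw [Subgroup.eq_bot_iff_forall]
    intro t ht
    have hdisj : Disjoint T V := by
      apply Subgroup.disjoint_of_coprime_natCard
      rw [hnV]; exact Nat.Coprime.pow_right nV hTc
    have hcomm : ∀ v ∈ V, Commute t v := fun v hv =>
      Subgroup.commute_of_normal_of_disjoint T V hTn hVn hdisj t v ht hv
    obtain ⟨v₀, hv₀, z, hz, rfl⟩ := hdecomp t
    by_cases hz1 : z = 1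
    · subst hz1
      rw [mul_one] at ht ⊢
      have : v₀ ∈ T ⊓ V := ⟨ht, hv₀⟩
      rw [hdisj.eq_bot, Subgroup.mem_bot] at this
      exact this
    · exfalso
      have h1 : v₀ * z = z * v₀ := by
        have h2 : (v₀ * z) * v₀ = v₀ * (v₀ * z) := (hcomm v₀ hv₀).eq
        have h3 : v₀ * (z * v₀) = v₀ * (v₀ * z) := by rw [← mul_assoc, h2]
        exact (mul_left_cancel h3).symm
      have hv₀1 : v₀ = 1 := hC' z hz hz1 v₀ hv₀ h1
      subst hv₀1
      rw [one_mul] at hcomm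
      exact hv₁ (hC' z hz hz1 v₁ hv₁V (hcomm v₁ hv₁V).eq.symm)
  · intro k hk
    have hpe : p ∣ Monoid.exponent K := by
      have h1 : orderOf v₁ ∣ Monoid.exponent K := Monoid.order_dvd_exponent v₁
      obtain ⟨j, hj⟩ := hVp ⟨v₁, hv₁V⟩
      have hj' : v₁ ^ p ^ j = 1 := by simpa using congrArg Subtype.val hj
      have h2 : orderOf v₁ ∣ p ^ j := orderOf_dvd_of_pow_eq_one hj'
      obtain ⟨i, -, hi⟩ := (Nat.dvd_prime_pow hp.out).1 h2
      rcases Nat.eq_zero_or_pos i with rfl | hpos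
      · rw [pow_zero] at hi
        exact absurd (orderOf_eq_one_iff.1 hi) hv₁
      · exact ((dvd_pow_self p hpos.ne').trans (hi ▸ dvd_rfl)).trans h1
    have hqe : q ∣ Monoid.exponent K := hoy ▸ Monoid.order_dvd_exponent y
    have hk0 : orderOf k ≠ 0 := (orderOf_pos k).ne'
    have hou : orderOf (k ^ (orderOf k / q)) = q := orderOf_pow_orderOf_div hk0 (hk ▸ hqe)
    have how : orderOf (k ^ (orderOf k / p)) = p := orderOf_pow_orderOf_div hk0 (hk ▸ hpe)
    set u := k ^ (orderOf k / q) with hu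
    set w := k ^ (orderOf k / p) with hw
    have huw : Commute u w := (Commute.refl k).pow_pow _ _
    have hinf : Subgroup.zpowers y ⊓ V = ⊥ := by
      apply (Subgroup.disjoint_of_coprime_natCard _).eq_bot
      rw [Nat.card_zpowers, hoy, hnV]
      exact Nat.Coprime.pow_right nV hcopq.symm
    have hcardK : Nat.card K = Nat.card V * q := by
      have h1 := card_sup_mul_inf_normal V (Subgroup.zpowers y)
      rw [hinf, Subgroup.card_bot, mul_one, sup_comm, htop, Subgroup.card_top, Nat.card_zpowers,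
        hoy] at h1
      rw [h1, mul_comm]
    have hwV : w ∈ V := by
      have hWp : IsPGroup p (Subgroup.zpowers w) := by
        apply IsPGroup.of_card (n := 1)
        rw [Nat.card_zpowers, how, pow_one]
      have hsup : IsPGroup p (V ⊔ Subgroup.zpowers w : Subgroup K) :=
        IsPGroup.to_sup_of_normal_left' hVp hWp
          (by rw [Subgroup.normalizer_eq_top_iff.2 hVn]; exact le_top)
      obtain ⟨a, ha⟩ := (IsPGroup.iff_card).1 hsup
      have hdvd : Nat.card (V ⊔ Subgroup.zpowers w : Subgroup K) ∣ Nat.card V * q :=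
        hcardK ▸ Subgroup.card_subgroup_dvd_card _
      have hdvd2 : Nat.card (V ⊔ Subgroup.zpowers w : Subgroup K) ∣ Nat.card V := by
        rw [ha] at hdvd ⊢
        exact (Nat.Coprime.pow_left a hcopq).dvd_of_dvd_mul_right hdvd
      have heq : V = V ⊔ Subgroup.zpowers w :=
        Subgroup.eq_of_le_of_card_ge le_sup_left (Nat.le_of_dvd Nat.card_pos hdvd2)
      rw [heq]; exact Subgroup.mem_sup_right (Subgroup.mem_zpowers w)
    have hfac : (Nat.card K).factorization q = 1 := by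
      rw [hcardK, hnV, Nat.factorization_mul (pow_ne_zero _ hp.out.ne_zero) hq.out.ne_zero,
        Finsupp.add_apply, hq.out.factorization_self, Nat.factorization_eq_zero_of_not_dvd]
      intro hd
      exact hpq ((Nat.prime_dvd_prime_iff_eq hq.out hp.out).1 (hq.out.dvd_of_dvd_pow hd)).symm
    let Sy : Sylow q K := Sylow.ofCard (Subgroup.zpowers y)
      (by rw [Nat.card_zpowers, hoy, hfac, pow_one])
    let Su : Sylow q K := Sylow.ofCard (Subgroup.zpowers u)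
      (by rw [Nat.card_zpowers, hou, hfac, pow_one])
    obtain ⟨c, hc⟩ := MulAction.exists_smul_eq K Sy Su
    have hcy : c * y * c⁻¹ ∈ Subgroup.zpowers u := by
      have h1 : ((c • Sy : Sylow q K) : Subgroup K) = cj c (Sy : Subgroup K) :=
        sylow_smul_eq_cj c Sy
      rw [hc] at h1
      have h2 : c * y * c⁻¹ ∈ cj c (Subgroup.zpowers y) :=
        conj_mem_cj c _ (Subgroup.mem_zpowers y)
      have h3 : (Su : Subgroup K) = Subgroup.zpowers u := rfl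
      have h4 : (Sy : Subgroup K) = Subgroup.zpowers y := rfl
      rw [h3, h4] at h1
      rw [h1]; exact h2
    obtain ⟨m, hm⟩ := Subgroup.mem_zpowers_iff.1 hcy
    have h5 : Commute w (c * y * c⁻¹) := by
      rw [← hm]; exact (huw.symm.zpow_right m)
    have h6 : c⁻¹ * w * c ∈ V := by
      have := hVn.conj_mem w hwV c⁻¹
      simpa using this
    have h7 : (c⁻¹ * w * c) * y = y * (c⁻¹ * w * c) := by
      have h8 : w * (c * y * c⁻¹) = (c * y * c⁻¹) * w := h5.eq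
      calc (c⁻¹ * w * c) * y = c⁻¹ * (w * (c * y * c⁻¹)) * c := by group
        _ = c⁻¹ * ((c * y * c⁻¹) * w) * c := by rw [h8]
        _ = y * (c⁻¹ * w * c) := by group
    have h9 : c⁻¹ * w * c = 1 := hC _ h6 h7
    have h10 : w = 1 := by
      have : w = c * (c⁻¹ * w * c) * c⁻¹ := by group
      rw [this, h9]; group
    rw [h10, orderOf_one] at how
    exact hp.out.one_lt.ne how

end key

section core
variable {G : Type*} [Group G] [Finite G] {p : ℕ} [hp : Fact p.Prime]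

theorem card_lt_of_lt' {A B : Subgroup G} (h : A < B) : Nat.card A < Nat.card B :=
  lt_of_le_of_ne (Subgroup.card_le_of_le h.le)
    (fun hc => h.ne (Subgroup.eq_of_le_of_card_ge h.le hc.ge))

theorem mem_normalizer_of_forall {H : Subgroup G} {a : G} (h1 : ∀ h ∈ H, a * h * a⁻¹ ∈ H)
    (h2 : ∀ h ∈ H, a⁻¹ * h * a ∈ H) : a ∈ Subgroup.normalizer (H : Set G) := by
  rw [Subgroup.mem_normalizer_iff]
  intro x
  constructor
  · exact h1 x
  · intro hx
    have := h2 _ hx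
    have h3 : a⁻¹ * (a * x * a⁻¹) * a = x := by group
    rwa [h3] at this

theorem conj_mem_commutator_self (Q : Subgroup G) {x c : G}
    (hx : x ∈ Subgroup.normalizer (Q : Set G)) (hc : c ∈ ⁅Q, Q⁆) : x * c * x⁻¹ ∈ ⁅Q, Q⁆ := by
  have h1 : cj x ⁅Q, Q⁆ = ⁅Q, Q⁆ := by
    rw [cj_commutator', cj_eq_of_mem_normalizer hx]
  rw [← h1]; exact conj_mem_cj x _ hc

theorem commutator_lt_of_isPGroup (Q : Subgroup G) (hQ : IsPGroup p Q) (hne : Q ≠ ⊥) :
    ⁅Q, Q⁆ < Q := by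
  haveI : Nontrivial Q := (Subgroup.nontrivial_iff_ne_bot Q).2 hne
  haveI : Group.IsNilpotent Q := hQ.isNilpotent
  have h1 : _root_.commutator Q < ⊤ := Group.IsSolvable.commutator_lt_top_of_nontrivial Q
  refine lt_of_le_of_ne (Subgroup.commutator_le_self Q) ?_
  intro h
  apply h1.ne
  apply Subgroup.map_injective Q.subtype_injective
  rw [Subgroup.map_subtype_commutator, h, ← MonoidHom.range_eq_map, Subgroup.range_subtype]

theorem comm_trick (Q : Subgroup G) (hQ : IsPGroup p Q) (g : G)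
    (hg : g ∈ Subgroup.normalizer (Q : Set G)) (hcop : (orderOf g).Coprime p)
    (x : G) (hx : x ∈ Q) (hc : (x * g * x⁻¹ * g⁻¹) * g = g * (x * g * x⁻¹ * g⁻¹)) :
    x * g * x⁻¹ * g⁻¹ = 1 := by
  have hcQ : x * g * x⁻¹ * g⁻¹ ∈ Q := by
    have h1 : g * x⁻¹ * g⁻¹ ∈ Q := (Subgroup.mem_normalizer_iff.1 hg x⁻¹).1 (Q.inv_mem hx)
    have : x * g * x⁻¹ * g⁻¹ = x * (g * x⁻¹ * g⁻¹) := by group
    rw [this]; exact Q.mul_mem hx h1
  have h2 : x * g * x⁻¹ = (x * g * x⁻¹ * g⁻¹) * g := by group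
  have h3 : ((x * g * x⁻¹ * g⁻¹) * g) ^ orderOf g
      = (x * g * x⁻¹ * g⁻¹) ^ orderOf g * g ^ orderOf g :=
    (show Commute (x * g * x⁻¹ * g⁻¹) g from hc).mul_pow _
  have h4 : (x * g * x⁻¹) ^ orderOf g = 1 := by
    rw [conj_pow, pow_orderOf_eq_one]; group
  rw [h2, h3, pow_orderOf_eq_one, mul_one] at h4
  obtain ⟨k, hk⟩ := hQ ⟨_, hcQ⟩
  have hk' : (x * g * x⁻¹ * g⁻¹) ^ p ^ k = 1 := by simpa using congrArg Subtype.val hk
  have h5 : orderOf (x * g * x⁻¹ * g⁻¹) ∣ orderOf g := orderOf_dvd_of_pow_eq_one h4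
  have h6 : orderOf (x * g * x⁻¹ * g⁻¹) ∣ p ^ k := orderOf_dvd_of_pow_eq_one hk'
  have h7 : orderOf (x * g * x⁻¹ * g⁻¹) = 1 :=
    Nat.eq_one_of_dvd_coprimes (Nat.Coprime.pow_right k hcop) h5 h6
  exact orderOf_eq_one_iff.1 h7

/-- The preimage in `Q` of the fixed points of `g` on `Q/Q'`. -/
def fixSub (Q : Subgroup G) (g : G) (hg : g ∈ Subgroup.normalizer (Q : Set G)) : Subgroup G where
  carrier := {x | x ∈ Q ∧ x * g * x⁻¹ * g⁻¹ ∈ ⁅Q, Q⁆}
  one_mem' := ⟨Q.one_mem, by simp⟩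
  mul_mem' := by
    rintro x y ⟨hx, hxc⟩ ⟨hy, hyc⟩
    refine ⟨Q.mul_mem hx hy, ?_⟩
    have : x * y * g * (x * y)⁻¹ * g⁻¹
        = x * (y * g * y⁻¹ * g⁻¹) * x⁻¹ * (x * g * x⁻¹ * g⁻¹) := by group
    rw [this]
    exact Subgroup.mul_mem _ (conj_mem_commutator_self Q (Subgroup.le_normalizer hx) hyc) hxc
  inv_mem' := by
    rintro x ⟨hx, hxc⟩
    refine ⟨Q.inv_mem hx, ?_⟩
    have h1 : x⁻¹ * g * x⁻¹⁻¹ * g⁻¹ = x⁻¹ * (x * g * x⁻¹ * g⁻¹)⁻¹ * x⁻¹⁻¹ := by group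
    rw [h1]
    exact conj_mem_commutator_self Q (Subgroup.le_normalizer (Q.inv_mem hx))
      (Subgroup.inv_mem _ hxc)

theorem mem_fixSub (Q : Subgroup G) (g : G) (hg : g ∈ Subgroup.normalizer (Q : Set G)) (x : G) :
    x ∈ fixSub Q g hg ↔ x ∈ Q ∧ x * g * x⁻¹ * g⁻¹ ∈ ⁅Q, Q⁆ := Iff.rfl

theorem fixSub_conj (Q : Subgroup G) (g : G) (hg : g ∈ Subgroup.normalizer (Q : Set G))
    {a : G} (ha : a ∈ Subgroup.normalizer (Q : Set G)) (hag : a * g = g * a) {x : G}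
    (hx : x ∈ fixSub Q g hg) : a * x * a⁻¹ ∈ fixSub Q g hg := by
  refine ⟨(Subgroup.mem_normalizer_iff.1 ha x).1 hx.1, ?_⟩
  have e1 : a⁻¹ * g * a = g := by rw [mul_assoc, ← hag, inv_mul_cancel_left]
  have e2 : a⁻¹ * g⁻¹ * a = g⁻¹ := by
    calc a⁻¹ * g⁻¹ * a = (a⁻¹ * g * a)⁻¹ := by group
      _ = g⁻¹ := by rw [e1]
  have h1 : a * x * a⁻¹ * g * (a * x * a⁻¹)⁻¹ * g⁻¹ = a * (x * g * x⁻¹ * g⁻¹) * a⁻¹ := by
    calc a * x * a⁻¹ * g * (a * x * a⁻¹)⁻¹ * g⁻¹
        = a * x * (a⁻¹ * g * a) * x⁻¹ * (a⁻¹ * g⁻¹ * a) * a⁻¹ := by group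
      _ = a * x * g * x⁻¹ * g⁻¹ * a⁻¹ := by rw [e1, e2]
      _ = a * (x * g * x⁻¹ * g⁻¹) * a⁻¹ := by group
  rw [h1]
  exact conj_mem_commutator_self Q ha hx.2

theorem core (Q : Subgroup G) (g : G) (hQ : IsPGroup p Q)
    (hg : g ∈ Subgroup.normalizer (Q : Set G))
    (hcop : (orderOf g).Coprime p) (hnc : g ∉ Subgroup.centralizer (Q : Set G))
    (hminQ : ∀ Q' : Subgroup G, IsPGroup p Q' → Nat.card Q' < Nat.card Q →
      ∀ g' ∈ Subgroup.normalizer (Q' : Set G), (orderOf g').Coprime p →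
        g' ∈ Subgroup.centralizer (Q' : Set G))
    (hming : ∀ g' ∈ Subgroup.normalizer (Q : Set G), (orderOf g').Coprime p →
      orderOf g' < orderOf g → g' ∈ Subgroup.centralizer (Q : Set G)) :
    ∃ (H : Subgroup G) (N : Subgroup H) (_ : N.Normal), Cfsg.pPrimeCore p (H ⧸ N) = ⊥ ∧
      ∀ k : H ⧸ N, orderOf k ≠ Monoid.exponent (H ⧸ N) := by
  classical
  have hg1 : g ≠ 1 := by rintro rfl; exact hnc (Subgroup.one_mem _)
  have hn1 : orderOf g ≠ 1 := fun h => hg1 (orderOf_eq_one_iff.1 h)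
  have hn0 : orderOf g ≠ 0 := (orderOf_pos g).ne'
  obtain ⟨q, hqprime, hqn⟩ : ∃ q : ℕ, q.Prime ∧ q ∣ orderOf g :=
    ⟨(orderOf g).minFac, Nat.minFac_prime hn1, Nat.minFac_dvd _⟩
  haveI : Fact q.Prime := ⟨hqprime⟩
  have hpq : p ≠ q := by
    rintro rfl
    exact hp.out.one_lt.ne' (Nat.Coprime.eq_one_of_dvd hcop.symm hqn)
  have hgq : g ^ q ∈ Subgroup.centralizer (Q : Set G) := by
    apply hming (g ^ q) (Subgroup.pow_mem _ hg q)
    · exact Nat.Coprime.coprime_dvd_left (orderOf_pow_dvd q) hcop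
    · rw [orderOf_pow_of_dvd hqprime.ne_zero hqn]
      exact Nat.div_lt_self (Nat.pos_of_ne_zero hn0) hqprime.one_lt
  have hginv : g⁻¹ ∈ Subgroup.normalizer (Q : Set G) := Subgroup.inv_mem _ hg
  have hQne : Q ≠ ⊥ := by
    rintro rfl
    apply hnc
    rw [Subgroup.mem_centralizer_iff]
    intro h hh
    have : h = 1 := Subgroup.mem_bot.1 hh
    rw [this]; simp
  have hQ'lt : ⁅Q, Q⁆ < Q := commutator_lt_of_isPGroup Q hQ hQne
  have hgQ' : g ∈ Subgroup.normalizer ((⁅Q, Q⁆ : Subgroup G) : Set G) :=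
    mem_normalizer_of_forall (fun h hh => conj_mem_commutator_self Q hg hh)
      (fun h hh => by
        have := conj_mem_commutator_self Q hginv hh
        simpa using this)
  have hgC' : g ∈ Subgroup.centralizer ((⁅Q, Q⁆ : Subgroup G) : Set G) :=
    hminQ ⁅Q, Q⁆ (hQ.to_le hQ'lt.le) (card_lt_of_lt' hQ'lt) g hgQ' hcop
  set Q₁ := fixSub Q g hg with hQ₁def
  have hQ₁Q : Q₁ ≤ Q := fun x hx => hx.1
  have hQ₁ne : Q₁ ≠ Q := by
    intro h
    apply hnc
    rw [Subgroup.mem_centralizer_iff]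
    intro x hx
    have hx1 : x ∈ Q₁ := by rw [h]; exact hx
    have hcomm : (x * g * x⁻¹ * g⁻¹) * g = g * (x * g * x⁻¹ * g⁻¹) :=
      Subgroup.mem_centralizer_iff.1 hgC' _ hx1.2
    have h1 := comm_trick Q hQ g hg hcop x hx hcomm
    calc x * g = (x * g * x⁻¹ * g⁻¹) * (g * x) := by group
      _ = g * x := by rw [h1, one_mul]
  have hQ₁lt : Q₁ < Q := lt_of_le_of_ne hQ₁Q hQ₁ne
  have hgQ₁ : g ∈ Subgroup.normalizer (Q₁ : Set G) :=
    mem_normalizer_of_forall (fun h hh => fixSub_conj Q g hg hg rfl hh)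
      (fun h hh => by
        have := fixSub_conj Q g hg hginv (by group : g⁻¹ * g = g * g⁻¹) hh
        simpa using this)
  have hgC₁ : g ∈ Subgroup.centralizer (Q₁ : Set G) :=
    hminQ Q₁ (hQ.to_le hQ₁Q) (card_lt_of_lt' hQ₁lt) g hgQ₁ hcop
  have hF : ∀ x ∈ Q, x * g * x⁻¹ * g⁻¹ ∈ Q₁ → x ∈ Q₁ := by
    intro x hx hc
    have hcomm := Subgroup.mem_centralizer_iff.1 hgC₁ _ hc
    have h1 := comm_trick Q hQ g hg hcop x hx hcomm
    exact ⟨hx, by rw [h1]; exact Subgroup.one_mem _⟩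
  have hQnQ₁ : Q ≤ Subgroup.normalizer (Q₁ : Set G) := by
    have key : ∀ z ∈ Q, ∀ x ∈ Q₁, z * x * z⁻¹ ∈ Q₁ := by
      intro z hz x hx
      have h1 : z * x * z⁻¹ = (z * x * z⁻¹ * x⁻¹) * x := by group
      rw [h1]
      refine Q₁.mul_mem ?_ hx
      have h2 : z * x * z⁻¹ * x⁻¹ ∈ ⁅Q, Q⁆ := Subgroup.commutator_mem_commutator hz hx.1
      refine ⟨Subgroup.commutator_le_self Q h2, ?_⟩
      have h3 : (z * x * z⁻¹ * x⁻¹) * g * (z * x * z⁻¹ * x⁻¹)⁻¹ * g⁻¹
          = (z * x * z⁻¹ * x⁻¹) * (g * (z * x * z⁻¹ * x⁻¹)⁻¹ * g⁻¹) := by group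
      rw [h3]
      exact Subgroup.mul_mem _ h2 (conj_mem_commutator_self Q hg (Subgroup.inv_mem _ h2))
    intro z hz
    exact mem_normalizer_of_forall (fun x hx => key z hz x hx)
      (fun x hx => by
        have := key z⁻¹ (Q.inv_mem hz) x hx
        simpa using this)
  -- the section
  have hgqQ₁ : g ^ q ∈ Subgroup.normalizer (Q₁ : Set G) := Subgroup.pow_mem _ hgQ₁ q
  have hHnQ : Q ⊔ Subgroup.zpowers g ≤ Subgroup.normalizer (Q : Set G) :=
    sup_le Subgroup.le_normalizer (Subgroup.zpowers_le.2 hg)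
  have hgH : g ∈ Q ⊔ Subgroup.zpowers g := Subgroup.mem_sup_right (Subgroup.mem_zpowers g)
  have hN₀H : Q₁ ⊔ Subgroup.zpowers (g ^ q) ≤ Q ⊔ Subgroup.zpowers g :=
    sup_le (hQ₁Q.trans le_sup_left) (Subgroup.zpowers_le.2 (Subgroup.pow_mem _ hgH q))
  have hcentZ : ∀ a : G, a * g ^ q = g ^ q * a →
      a ∈ Subgroup.normalizer ((Subgroup.zpowers (g ^ q) : Subgroup G) : Set G) := by
    intro a ha
    apply Subgroup.centralizer_le_normalizer
    rw [Subgroup.mem_centralizer_iff]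
    intro h hh
    obtain ⟨k, rfl⟩ := Subgroup.mem_zpowers_iff.1 hh
    exact ((show Commute a (g ^ q) from ha).zpow_right k).eq.symm
  have hHnN₀ : Q ⊔ Subgroup.zpowers g ≤
      Subgroup.normalizer ((Q₁ ⊔ Subgroup.zpowers (g ^ q) : Subgroup G) : Set G) := by
    refine le_trans (le_inf ?_ ?_) (normalizer_inf_le_normalizer_sup Q₁ (Subgroup.zpowers (g ^ q)))
    · exact sup_le hQnQ₁ (Subgroup.zpowers_le.2 hgQ₁)
    · refine sup_le ?_ (Subgroup.zpowers_le.2 ?_)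
      · intro z hz
        exact hcentZ z (Subgroup.mem_centralizer_iff.1 hgq z hz)
      · exact hcentZ g ((Commute.refl g).pow_right q).eq
  have hI : ∀ w ∈ Q₁ ⊔ Subgroup.zpowers (g ^ q), w ∈ Q → w ∈ Q₁ := by
    intro w hw hwQ
    obtain ⟨u, hu, z, hz, rfl⟩ := act_mem_sup (Subgroup.zpowers (g ^ q)) Q₁
      (Subgroup.zpowers_le.2 hgqQ₁) hw
    have hzQ : z ∈ Q := by
      have : z = u⁻¹ * (u * z) := by group
      rw [this]; exact Q.mul_mem (Q.inv_mem (hQ₁Q hu)) hwQ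
    have hz1 : z = 1 := by
      have h1 : orderOf z ∣ orderOf g :=
        (orderOf_dvd_of_mem_zpowers hz).trans (orderOf_pow_dvd q)
      obtain ⟨k, hk⟩ := hQ ⟨z, hzQ⟩
      have hk' : z ^ p ^ k = 1 := by simpa using congrArg Subtype.val hk
      have h2 : orderOf z ∣ p ^ k := orderOf_dvd_of_pow_eq_one hk'
      exact orderOf_eq_one_iff.1 (Nat.eq_one_of_dvd_coprimes (Nat.Coprime.pow_right k hcop) h1 h2)
    rw [hz1, mul_one]; exact hu
  set H : Subgroup G := Q ⊔ Subgroup.zpowers g with hH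
  set N₀ : Subgroup G := Q₁ ⊔ Subgroup.zpowers (g ^ q) with hN₀
  have hNn : (N₀.subgroupOf H).Normal := Subgroup.normal_subgroupOf_of_le_normalizer hHnN₀
  refine ⟨H, N₀.subgroupOf H, hNn, ?_⟩
  have hsurj := QuotientGroup.mk'_surjective (N₀.subgroupOf H)
  have hVn : ((Q.subgroupOf H).map (QuotientGroup.mk' (N₀.subgroupOf H))).Normal :=
    (Subgroup.normal_subgroupOf_of_le_normalizer hHnQ).map _ hsurj
  have hVp : IsPGroup p ((Q.subgroupOf H).map (QuotientGroup.mk' (N₀.subgroupOf H))) :=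
    (hQ.comap_subtype).map _
  have hker : ∀ x : H, QuotientGroup.mk' (N₀.subgroupOf H) x = 1 ↔ (x : G) ∈ N₀ := by
    intro x
    rw [QuotientGroup.mk'_apply, QuotientGroup.eq_one_iff, Subgroup.mem_subgroupOf]
  have hy : (QuotientGroup.mk' (N₀.subgroupOf H) ⟨g, hgH⟩) ^ q = 1 := by
    rw [← map_pow, hker]
    show ((⟨g, hgH⟩ : H) ^ q : H).1 ∈ N₀
    rw [Subgroup.coe_pow]
    exact Subgroup.mem_sup_right (Subgroup.mem_zpowers _)
  have hV1 : (Q.subgroupOf H).map (QuotientGroup.mk' (N₀.subgroupOf H)) ≠ ⊥ := by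
    obtain ⟨x, hxQ, hxQ₁⟩ := SetLike.exists_of_lt hQ₁lt
    intro hbot
    have hxH : x ∈ H := (le_sup_left : Q ≤ H) hxQ
    have h1 : QuotientGroup.mk' (N₀.subgroupOf H) ⟨x, hxH⟩ ∈
        (Q.subgroupOf H).map (QuotientGroup.mk' (N₀.subgroupOf H)) :=
      Subgroup.mem_map_of_mem _ (by rw [Subgroup.mem_subgroupOf]; exact hxQ)
    rw [hbot, Subgroup.mem_bot, hker] at h1
    exact hxQ₁ (hI x h1 hxQ)
  have htop : (Q.subgroupOf H).map (QuotientGroup.mk' (N₀.subgroupOf H)) ⊔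
      Subgroup.zpowers (QuotientGroup.mk' (N₀.subgroupOf H) ⟨g, hgH⟩) = ⊤ := by
    have h1 : Q.subgroupOf H ⊔ Subgroup.zpowers (⟨g, hgH⟩ : H) = ⊤ := by
      apply Subgroup.map_injective H.subtype_injective
      rw [Subgroup.map_sup, Subgroup.subgroupOf_map_subtype, MonoidHom.map_zpowers,
        ← MonoidHom.range_eq_map, Subgroup.range_subtype]
      show Q ⊓ H ⊔ Subgroup.zpowers g = H
      rw [inf_of_le_left (le_sup_left : Q ≤ H)]
    rw [← MonoidHom.map_zpowers, ← Subgroup.map_sup, h1, Subgroup.map_top_of_surjective _ hsurj]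
  have hC : ∀ v ∈ (Q.subgroupOf H).map (QuotientGroup.mk' (N₀.subgroupOf H)),
      v * (QuotientGroup.mk' (N₀.subgroupOf H) ⟨g, hgH⟩)
        = (QuotientGroup.mk' (N₀.subgroupOf H) ⟨g, hgH⟩) * v → v = 1 := by
    rintro _ ⟨x, hx, rfl⟩ hcomm
    have hxQ : (x : G) ∈ Q := Subgroup.mem_subgroupOf.1 hx
    rw [← map_mul, ← map_mul] at hcomm
    have h1 : QuotientGroup.mk' (N₀.subgroupOf H) (x * ⟨g, hgH⟩ * x⁻¹ * (⟨g, hgH⟩ : H)⁻¹) = 1 := by
      have : x * ⟨g, hgH⟩ * x⁻¹ * (⟨g, hgH⟩ : H)⁻¹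
          = (x * ⟨g, hgH⟩) * ((⟨g, hgH⟩ : H) * x)⁻¹ := by group
      rw [this, map_mul, map_inv, hcomm, mul_inv_cancel]
    rw [hker] at h1
    have h2 : (x : G) * g * (x : G)⁻¹ * g⁻¹ ∈ N₀ := h1
    have h3 : (x : G) * g * (x : G)⁻¹ * g⁻¹ ∈ Q := by
      have h4 : g * (x : G)⁻¹ * g⁻¹ ∈ Q :=
        (Subgroup.mem_normalizer_iff.1 hg _).1 (Q.inv_mem hxQ)
      have : (x : G) * g * (x : G)⁻¹ * g⁻¹ = (x : G) * (g * (x : G)⁻¹ * g⁻¹) := by group
      rw [this]; exact Q.mul_mem hxQ h4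
    have h5 : (x : G) ∈ Q₁ := hF _ hxQ (hI _ h2 h3)
    rw [hker]
    exact Subgroup.mem_sup_left h5
  haveI := hVn
  exact key hpq _ hVp hV1 _ hy htop hC

/-- A finite `p`-group has an element whose order is the exponent. -/
theorem exists_orderOf_eq_exponent_of_isPGroup {X : Type*} [Group X] [Finite X]
    (hX : IsPGroup p X) : ∃ k : X, orderOf k = Monoid.exponent X := by
  obtain ⟨n, hn⟩ := (IsPGroup.iff_card).1 hX
  have h1 : Monoid.exponent X ∣ p ^ n := hn ▸ Group.exponent_dvd_nat_card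
  obtain ⟨e, -, he⟩ := (Nat.dvd_prime_pow hp.out).1 h1
  obtain ⟨g, hg⟩ := hp.out.exists_orderOf_eq_pow_factorization_exponent X
  refine ⟨g, ?_⟩
  rw [hg, he, hp.out.factorization_pow, Finsupp.single_eq_same]

end core

end Cfsg.Agent.Lib.Lead.PNilpSec
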