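import Mathlib
import Cfsg.Agent.Lib.Lead.IndexTwoAbelian

set_option autoImplicit false

namespace Cfsg.Agent.Lib.Lead

open scoped commutatorElement
open QuaternionGroup

theorem quat_inv_a {n : ℕ} (i : ZMod (2 * n)) :
    (QuaternionGroup.a i : QuaternionGroup n)⁻¹ = QuaternionGroup.a (-i) := by
  rw [inv_eq_iff_mul_eq_one, QuaternionGroup.a_mul_a, add_neg_cancel, QuaternionGroup.a_zero]

theorem quat_inv_xa {n : ℕ} (i : ZMod (2 * n)) :
    (QuaternionGroup.xa i : QuaternionGroup n)⁻¹ = QuaternionGroup.xa ((n : ZMod (2 * n)) + i) := by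
  rw [inv_eq_iff_mul_eq_one, QuaternionGroup.xa_mul_xa, QuaternionGroup.one_def]
  congr 1
  have : ((2 * n : ℕ) : ZMod (2 * n)) = 0 := ZMod.natCast_self _
  push_cast at this
  linear_combination this

theorem quat_a_pow {n : ℕ} (i : ZMod (2 * n)) (k : ℕ) :
    (QuaternionGroup.a i : QuaternionGroup n) ^ k = QuaternionGroup.a (i * (k : ZMod (2 * n))) := by
  induction k with
  | zero => rw [pow_zero, Nat.cast_zero, mul_zero, QuaternionGroup.a_zero]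
  | succ k ih =>
    rw [pow_succ, ih, QuaternionGroup.a_mul_a]
    congr 1
    push_cast
    ring

theorem quat_a_zpow {n : ℕ} (i : ZMod (2 * n)) (k : ℤ) :
    (QuaternionGroup.a i : QuaternionGroup n) ^ k = QuaternionGroup.a (i * (k : ZMod (2 * n))) := by
  cases k with
  | ofNat k => rw [Int.ofNat_eq_natCast, zpow_natCast, quat_a_pow, Int.cast_natCast]
  | negSucc k =>
    rw [zpow_negSucc, quat_a_pow, quat_inv_a]
    congr 1
    rw [Int.cast_negSucc]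
    push_cast
    ring

theorem quat_a_mem_zpowers {n : ℕ} (i : ZMod (2 * n)) :
    (QuaternionGroup.a i : QuaternionGroup n) ∈
      Subgroup.zpowers (QuaternionGroup.a 1 : QuaternionGroup n) := by
  rw [Subgroup.mem_zpowers_iff]
  exact ⟨(i.cast : ℤ), by rw [quat_a_zpow, one_mul, ZMod.intCast_zmod_cast]⟩

theorem quat_mem_zpowers_iff {n : ℕ} (x : QuaternionGroup n) :
    x ∈ Subgroup.zpowers (QuaternionGroup.a 1 : QuaternionGroup n) ↔
      ∃ i, x = QuaternionGroup.a i := by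
  constructor
  · intro hx
    obtain ⟨k, rfl⟩ := Subgroup.mem_zpowers_iff.1 hx
    exact ⟨_, quat_a_zpow 1 k⟩
  · rintro ⟨i, rfl⟩; exact quat_a_mem_zpowers i

theorem quat_zpowers_normal (n : ℕ) :
    (Subgroup.zpowers (QuaternionGroup.a 1 : QuaternionGroup n)).Normal := by
  refine ⟨fun x hx g => ?_⟩
  obtain ⟨i, rfl⟩ := (quat_mem_zpowers_iff x).1 hx
  rw [quat_mem_zpowers_iff]
  rcases g with j | j
  · exact ⟨_, by rw [quat_inv_a, QuaternionGroup.a_mul_a, QuaternionGroup.a_mul_a]⟩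
  · exact ⟨_, by rw [quat_inv_xa, QuaternionGroup.xa_mul_a, QuaternionGroup.xa_mul_xa]⟩

/-- A stem extension of a dicyclic group has trivial kernel. -/
theorem quaternion_stem_ker {n : ℕ} [NeZero n] {Γ : Type*} [Group Γ] (σ : Γ →* QuaternionGroup n)
    (hsurj : Function.Surjective σ) (hcen : σ.ker ≤ Subgroup.center Γ)
    (hcomm : σ.ker ≤ commutator Γ) : ∀ z ∈ σ.ker, z = 1 := by
  obtain ⟨r₀, hr₀⟩ := hsurj (QuaternionGroup.a 1)
  obtain ⟨s₀, hs₀⟩ := hsurj (QuaternionGroup.xa 0)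
  have hN : (Subgroup.zpowers (σ r₀)).Normal := by rw [hr₀]; exact quat_zpowers_normal n
  have hcov : ∀ q : QuaternionGroup n, q ∈ Subgroup.zpowers (σ r₀) ∨
      q * (σ s₀)⁻¹ ∈ Subgroup.zpowers (σ r₀) := by
    intro q
    rw [hr₀, hs₀]
    rcases q with i | i
    · exact Or.inl (quat_a_mem_zpowers i)
    · refine Or.inr ?_
      rw [quat_mem_zpowers_iff, quat_inv_xa, QuaternionGroup.xa_mul_xa]
      exact ⟨_, rfl⟩
  obtain ⟨hpow, hker⟩ := ker_le_zpowers_commutator σ hcen hcomm r₀ s₀ hcov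
  have h2n : ((2 * n : ℕ) : ZMod (2 * n)) = 0 := ZMod.natCast_self _
  have h2n' : (2 : ZMod (2 * n)) * (n : ZMod (2 * n)) = 0 := by
    push_cast at h2n; exact h2n
  have hσc : σ ⁅r₀, s₀⁆ = QuaternionGroup.a 2 := by
    rw [map_commutatorElement, hr₀, hs₀, commutatorElement_def, quat_inv_a, quat_inv_xa,
      QuaternionGroup.a_mul_xa, QuaternionGroup.xa_mul_a, QuaternionGroup.xa_mul_xa]
    congr 1
    linear_combination h2n'
  have hcn : ⁅r₀, s₀⁆ ^ (n : ℤ) = 1 := by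
    rw [hpow]
    -- r₀ ^ n = s₀ ^ 2 * z' with z' central
    have hmem : (s₀ ^ 2)⁻¹ * r₀ ^ (n : ℤ) ∈ σ.ker := by
      rw [MonoidHom.mem_ker, map_mul, map_inv, map_pow, map_zpow, hr₀, hs₀, quat_a_zpow,
        QuaternionGroup.xa_sq]
      simp only [one_mul, Int.cast_natCast, inv_mul_cancel]
    have hc := Subgroup.mem_center_iff.1 (hcen hmem) s₀
    have hcomm' : r₀ ^ (n : ℤ) * s₀ = s₀ * r₀ ^ (n : ℤ) := by
      calc r₀ ^ (n : ℤ) * s₀ = s₀ ^ 2 * ((s₀ ^ 2)⁻¹ * r₀ ^ (n : ℤ) * s₀) := by group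
        _ = s₀ ^ 2 * (s₀ * ((s₀ ^ 2)⁻¹ * r₀ ^ (n : ℤ))) := by rw [hc]
        _ = _ := by group
    calc r₀ ^ (n : ℤ) * s₀ * (r₀ ^ (n : ℤ))⁻¹ * s₀⁻¹
        = (r₀ ^ (n : ℤ) * s₀) * (r₀ ^ (n : ℤ))⁻¹ * s₀⁻¹ := by group
      _ = (s₀ * r₀ ^ (n : ℤ)) * (r₀ ^ (n : ℤ))⁻¹ * s₀⁻¹ := by rw [hcomm']
      _ = 1 := by group
  intro z hz
  obtain ⟨k, hk⟩ := hker z hz
  have h1 : σ z = 1 := hz
  rw [hk, map_zpow, hσc, quat_a_zpow, QuaternionGroup.one_def] at h1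
  have h2 : (2 : ZMod (2 * n)) * (k : ZMod (2 * n)) = 0 := QuaternionGroup.a.inj h1
  have h3 : ((2 * k : ℤ) : ZMod (2 * n)) = 0 := by push_cast; exact h2
  have h4 : ((2 * n : ℕ) : ℤ) ∣ 2 * k := (ZMod.intCast_zmod_eq_zero_iff_dvd _ _).1 h3
  have h5 : (n : ℤ) ∣ k := by
    have : (2 : ℤ) * n ∣ 2 * k := by
      have e : ((2 * n : ℕ) : ℤ) = 2 * n := by push_cast; ring
      rwa [e] at h4
    exact (mul_dvd_mul_iff_left (by norm_num : (2 : ℤ) ≠ 0)).1 this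
  obtain ⟨j, rfl⟩ := h5
  rw [hk, zpow_mul, hcn, one_zpow]

end Cfsg.Agent.Lib.Lead
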