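import Mathlib

set_option autoImplicit false

namespace Cfsg.Agent.Lib.Lead.Shintani

variable {X : Type*} [Group X]

theorem mem_fix_iff (τ : MulAut X) (g : X) :
    g ∈ (MulEquiv.toMonoidHom τ).eqLocus (MonoidHom.id X) ↔ τ g = g := Iff.rfl

theorem pow_apply_comm (σ : MulAut X) (i j : ℕ) (g : X) :
    (σ ^ i) ((σ ^ j) g) = (σ ^ j) ((σ ^ i) g) := by
  rw [← MulAut.mul_apply, ← MulAut.mul_apply, pow_mul_comm]

theorem apply_pow_comm (σ : MulAut X) (i : ℕ) (g : X) :
    σ ((σ ^ i) g) = (σ ^ i) (σ g) := by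
  have := pow_apply_comm σ 1 i g
  simpa using this

theorem pow_fixed (τ : MulAut X) (x : X) (h : τ x = x) (d : ℕ) : (τ ^ d) x = x := by
  induction d with
  | zero => simp
  | succ d ih => rw [pow_succ, MulAut.mul_apply, h, ih]

/-- the telescoping norm -/
theorem norm_eq (σ : MulAut X) (a : X) (d : ℕ) :
    ((List.range d).map (fun i => (σ ^ i) (a * (σ a)⁻¹))).prod = a * ((σ ^ d) a)⁻¹ := by
  induction d with
  | zero => simp
  | succ d ih =>
    rw [List.range_succ, List.map_append, List.prod_append, ih]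
    simp only [List.map_cons, List.map_nil, List.prod_cons, List.prod_nil, mul_one, map_mul,
      map_inv]
    rw [← apply_pow_comm, pow_succ', MulAut.mul_apply]
    group

/-- the descended element is fixed by `σ` -/
theorem descent_fixed (σ : MulAut X) (e : ℕ) (a : X)
    (hg : (σ ^ e) (a * (σ a)⁻¹) = a * (σ a)⁻¹) :
    σ (((σ ^ e) a)⁻¹ * a) = ((σ ^ e) a)⁻¹ * a := by
  rw [map_mul, map_inv] at hg
  rw [map_mul, map_inv, apply_pow_comm]
  have h1 : ((σ ^ e) (σ a))⁻¹ = ((σ ^ e) a)⁻¹ * (a * (σ a)⁻¹) := by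
    rw [← hg]; group
  rw [h1]; group

theorem descent_pow (τ : MulAut X) (a : X) (hx : τ ((τ a)⁻¹ * a) = (τ a)⁻¹ * a) (d : ℕ) :
    ((τ ^ d) a)⁻¹ * a = ((τ a)⁻¹ * a) ^ d := by
  induction d with
  | zero => simp
  | succ d ih =>
    have h1 : ((τ ^ (d + 1)) a)⁻¹ * a = τ (((τ ^ d) a)⁻¹ * a) * ((τ a)⁻¹ * a) := by
      rw [pow_succ', MulAut.mul_apply, map_mul, map_inv]; group
    rw [h1, ih, map_pow, hx, pow_succ]

end Cfsg.Agent.Lib.Lead.Shintani
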