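import Mathlib

set_option autoImplicit false

namespace Cfsg.Agent.Lib.Lead

open Equiv

/-- a group of order 6 is solvable -/
theorem isSolvable_of_card_eq_six {G : Type*} [Group G] (h : Nat.card G = 6) :
    Group.IsSolvable G := by
  have : Finite G := Nat.finite_of_card_ne_zero (by omega)
  have : Fact (Nat.Prime 3) := ⟨by norm_num⟩
  have : Fact (Nat.Prime 2) := ⟨by norm_num⟩
  obtain ⟨K, hK⟩ := Sylow.exists_subgroup_card_pow_prime (G := G) 3 (n := 1) (by rw [h]; norm_num)
  rw [pow_one] at hK
  have hidx : K.index = 2 := by
    have := K.card_mul_index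
    rw [hK, h] at this
    omega
  have : K.Normal := Subgroup.normal_of_index_eq_two hidx
  have : IsCyclic K := isCyclic_of_prime_card hK
  have : Group.IsSolvable K := Group.isSolvable_of_comm (fun a b => (IsCyclic.isMulCommutative (α := K)).is_comm.comm a b)
  have hq : Nat.card (G ⧸ K) = 2 := hidx
  have : IsCyclic (G ⧸ K) := isCyclic_of_prime_card hq
  have : Group.IsSolvable (G ⧸ K) :=
    Group.isSolvable_of_comm (fun a b => (IsCyclic.isMulCommutative (α := G ⧸ K)).is_comm.comm a b)
  exact (Group.isSolvable_iff_subgroup_quotient K).mpr ⟨inferInstance, inferInstance⟩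

/-- the Klein four subgroup of `Perm (Fin 4)` -/
def kleinFourPerm : Subgroup (Perm (Fin 4)) where
  carrier := {σ | σ = 1 ∨ σ = swap 0 1 * swap 2 3 ∨ σ = swap 0 2 * swap 1 3 ∨ σ = swap 0 3 * swap 1 2}
  mul_mem' := by
    intro a b ha hb
    change a = 1 ∨ _ at ha
    change b = 1 ∨ _ at hb
    change _ = 1 ∨ _
    revert a b
    decide
  one_mem' := Or.inl rfl
  inv_mem' := by
    intro a ha
    change a = 1 ∨ _ at ha
    change _ = 1 ∨ _
    revert a
    decide

theorem mem_kleinFourPerm (σ : Perm (Fin 4)) : σ ∈ kleinFourPerm ↔
    (σ = 1 ∨ σ = swap 0 1 * swap 2 3 ∨ σ = swap 0 2 * swap 1 3 ∨ σ = swap 0 3 * swap 1 2) := Iff.rfl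

instance kleinFourPerm_normal : kleinFourPerm.Normal := by
  constructor
  intro n hn g
  rw [mem_kleinFourPerm] at hn ⊢
  revert n g
  decide

instance kleinFourPerm_decidable : DecidablePred (· ∈ kleinFourPerm) := fun σ =>
  decidable_of_iff _ (mem_kleinFourPerm σ).symm

theorem card_kleinFourPerm : Nat.card kleinFourPerm = 4 := by
  rw [Nat.card_eq_fintype_card]
  decide

/-- `S₄` is solvable -/
instance isSolvable_perm_fin_four : Group.IsSolvable (Perm (Fin 4)) := by
  have : Fact (Nat.Prime 2) := ⟨by norm_num⟩
  have hV : Group.IsSolvable kleinFourPerm := by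
    have h4 : Nat.card kleinFourPerm = 2 ^ 2 := by rw [card_kleinFourPerm]; norm_num
    have := IsPGroup.isMulCommutative_of_card_eq_prime_sq h4
    exact Group.isSolvable_of_comm (fun a b => this.is_comm.comm a b)
  have hQ : Group.IsSolvable (Perm (Fin 4) ⧸ kleinFourPerm) := by
    apply isSolvable_of_card_eq_six
    have h1 := kleinFourPerm.card_mul_index
    rw [card_kleinFourPerm] at h1
    have h2 : Nat.card (Perm (Fin 4)) = 24 := by
      rw [Nat.card_eq_fintype_card, Fintype.card_perm]; rfl
    rw [h2] at h1
    change kleinFourPerm.index = 6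
    omega
  exact (Group.isSolvable_iff_subgroup_quotient kleinFourPerm).mpr ⟨hV, hQ⟩

/-- `Perm T` is solvable when `T` has at most four elements -/
theorem isSolvable_perm_of_card_le_four {T : Type*} [Fintype T] [DecidableEq T]
    (h : Fintype.card T ≤ 4) : Group.IsSolvable (Perm T) := by
  obtain ⟨e⟩ : Nonempty (T ↪ Fin 4) :=
    Function.Embedding.nonempty_of_card_le (by simpa using h)
  have f : T ≃ Subtype (fun x => x ∈ Set.range e) := Equiv.ofInjective e e.injective
  exact Group.isSolvable_of_isSolvable_injective (Equiv.Perm.extendDomainHom_injective f)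

/-- a set of permutations supported on at most four points generates a solvable group -/
theorem isSolvable_closure_of_support_subset {α : Type*} [Fintype α] [DecidableEq α]
    (S : Finset α) (hS : S.card ≤ 4) (X : Set (Perm α)) (hX : ∀ σ ∈ X, σ.support ⊆ S) :
    Group.IsSolvable (Subgroup.closure X) := by
  have hT : Group.IsSolvable (Perm {x // x ∈ S}) :=
    isSolvable_perm_of_card_le_four (by rw [Fintype.card_coe]; exact hS)
  have hK : Group.IsSolvable (Perm.ofSubtype : Perm {x // x ∈ S} →* Perm α).range :=
    Group.isSolvable_of_surjective (MonoidHom.rangeRestrict_surjective _)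
  have hle : Subgroup.closure X ≤ (Perm.ofSubtype : Perm {x // x ∈ S} →* Perm α).range := by
    rw [Subgroup.closure_le]
    intro σ hσ
    rw [SetLike.mem_coe, Perm.mem_range_ofSubtype_iff]
    intro x hx
    exact hX σ hσ hx
  exact Group.isSolvable_of_isSolvable_injective (Subgroup.inclusion_injective hle)

/-- adjoining an element commuting with all generators preserves solvability -/
theorem isSolvable_closure_insert_of_commute {G : Type*} [Group G] (X : Set G) (c : G)
    (hX : Group.IsSolvable (Subgroup.closure X)) (hc : ∀ x ∈ X, Commute x c) :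
    Group.IsSolvable (Subgroup.closure (insert c X)) := by
  have hcent : Subgroup.closure X ≤ Subgroup.centralizer ((Subgroup.zpowers c : Subgroup G) : Set G) := by
    rw [Subgroup.closure_le]
    intro x hx
    rw [SetLike.mem_coe, Subgroup.mem_centralizer_iff]
    intro y hy
    obtain ⟨k, rfl⟩ := Subgroup.mem_zpowers_iff.mp hy
    exact ((hc x hx).zpow_right k).eq.symm
  have comm : ∀ (m : Subgroup.closure X) (n : Subgroup.zpowers c),
      Commute ((Subgroup.closure X).subtype m) ((Subgroup.zpowers c).subtype n) := by
    intro m n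
    have := (Subgroup.mem_centralizer_iff.mp (hcent m.2)) n.1 n.2
    exact this.symm
  have hZ : Group.IsSolvable (Subgroup.zpowers c) :=
    Group.isSolvable_of_comm (fun a b => (Subgroup.zpowers_isMulCommutative c).is_comm.comm a b)
  have hR : Group.IsSolvable
      (MonoidHom.noncommCoprod (Subgroup.closure X).subtype (Subgroup.zpowers c).subtype comm).range :=
    Group.isSolvable_of_surjective (MonoidHom.rangeRestrict_surjective _)
  have hle : Subgroup.closure (insert c X) ≤
      (MonoidHom.noncommCoprod (Subgroup.closure X).subtype (Subgroup.zpowers c).subtype comm).range := by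
    rw [MonoidHom.noncommCoprod_range, Subgroup.closure_le]
    intro x hx
    rcases hx with rfl | hx
    · apply Subgroup.mem_sup_right
      rw [Subgroup.range_subtype]
      exact Subgroup.mem_zpowers x
    · apply Subgroup.mem_sup_left
      rw [Subgroup.range_subtype]
      exact Subgroup.subset_closure hx
  exact Group.isSolvable_of_isSolvable_injective (Subgroup.inclusion_injective hle)

end Cfsg.Agent.Lib.Lead
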