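import Mathlib
import Cfsg.Prelude.Def_Sporadic_a
import Cfsg.Agent.Lib.Lead.Steiner

set_option autoImplicit false

namespace Cfsg.Agent.Lib.Lead.Steiner

open Finset

variable {α : Type*} [Fintype α] [DecidableEq α]

/-- the number of blocks `c ≠ b` containing `s` and meeting `b` in exactly `i` points -/
noncomputable def interCountOver (B : Set (Finset α)) (b s : Finset α) (i : ℕ) : ℕ :=
  ((((blocks B).erase b).filter (fun c => s ⊆ c)).filter (fun c => (b ∩ c).card = i)).card

theorem interCountOver_eq_zero {B : Set (Finset α)} {b s : Finset α} (hs : s ⊆ b) {i : ℕ}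
    (hi : i < s.card) : interCountOver B b s i = 0 := by
  rw [interCountOver, card_eq_zero, filter_eq_empty_iff]
  intro c hc
  rw [mem_filter] at hc
  have : s ⊆ b ∩ c := subset_inter hs hc.2
  have := card_le_card this
  omega

/-- the intersection equations for a block `b`, relative to a subset `s ⊆ b` -/
theorem inter_equations_over {t k : ℕ} {B : Set (Finset α)} (hB : Cfsg.IsSteinerSystem t k B)
    {b : Finset α} (hb : b ∈ B) {s : Finset α} (hs : s ⊆ b) (j : ℕ) (hmj : s.card ≤ j)
    (hj : j ≤ t) :
    (∑ i ∈ range t, interCountOver B b s i * Nat.choose (i - s.card) (j - s.card)) *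
        Nat.choose (k - j) (t - j) +
      Nat.choose (k - s.card) (j - s.card) * Nat.choose (k - j) (t - j) =
    Nat.choose (k - s.card) (j - s.card) * Nat.choose (Fintype.card α - j) (t - j) := by
  classical
  have hbk : b.card = k := hB.1 b hb
  have h1 := Finset.sum_card_bipartiteAbove_eq_sum_card_bipartiteBelow
    (s := (powersetCard j b).filter (fun J => s ⊆ J))
    (t := (blocks B).filter (fun c => s ⊆ c)) (fun J c => J ⊆ c)
  have hl : ∀ J ∈ (powersetCard j b).filter (fun J => s ⊆ J),
      (((blocks B).filter (fun c => s ⊆ c)).bipartiteAbove (fun J c => J ⊆ c) J).card *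
        Nat.choose (k - j) (t - j) = Nat.choose (Fintype.card α - j) (t - j) := by
    intro J hJ
    rw [mem_filter, mem_powersetCard] at hJ
    have h := card_blocks_superset hB J (by rw [hJ.1.2]; exact hj)
    rw [hJ.1.2] at h
    have : ((blocks B).filter (fun c => s ⊆ c)).bipartiteAbove (fun J c => J ⊆ c) J =
        (blocks B).filter (fun c => J ⊆ c) := by
      ext c
      simp only [bipartiteAbove, mem_filter]
      constructor
      · rintro ⟨⟨h1, _⟩, h3⟩; exact ⟨h1, h3⟩
      · rintro ⟨h1, h3⟩; exact ⟨⟨h1, hJ.2.trans h3⟩, h3⟩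
    rw [this]
    exact h
  have hr : ∀ c ∈ (blocks B).filter (fun c => s ⊆ c),
      (((powersetCard j b).filter (fun J => s ⊆ J)).bipartiteBelow (fun J c => J ⊆ c) c).card =
        Nat.choose ((b ∩ c).card - s.card) (j - s.card) := by
    intro c hc
    rw [mem_filter] at hc
    have : ((powersetCard j b).filter (fun J => s ⊆ J)).bipartiteBelow (fun J c => J ⊆ c) c =
        (powersetCard j (b ∩ c)).filter (fun J => s ⊆ J) := by
      ext J
      simp only [bipartiteBelow, mem_filter, mem_powersetCard, subset_inter_iff]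
      tauto
    rw [this, card_filter_powersetCard_subset s (b ∩ c) j (subset_inter hs hc.2) hmj]
  rw [Finset.sum_congr rfl hr] at h1
  have h2 : (∑ J ∈ (powersetCard j b).filter (fun J => s ⊆ J),
      (((blocks B).filter (fun c => s ⊆ c)).bipartiteAbove (fun J c => J ⊆ c) J).card) *
      Nat.choose (k - j) (t - j) =
        Nat.choose (k - s.card) (j - s.card) * Nat.choose (Fintype.card α - j) (t - j) := by
    rw [Finset.sum_mul, Finset.sum_congr rfl hl, sum_const,
      card_filter_powersetCard_subset s b j hs hmj, hbk, smul_eq_mul]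
  rw [h1] at h2
  have hbmem : b ∈ (blocks B).filter (fun c => s ⊆ c) := by
    rw [mem_filter, mem_blocks]; exact ⟨hb, hs⟩
  rw [← Finset.add_sum_erase _ _ hbmem, inter_self, hbk] at h2
  have herase : ((blocks B).filter (fun c => s ⊆ c)).erase b =
      ((blocks B).erase b).filter (fun c => s ⊆ c) := by
    ext c
    simp only [mem_erase, mem_filter]
    tauto
  rw [herase] at h2
  have h3 : ∑ c ∈ ((blocks B).erase b).filter (fun c => s ⊆ c),
      Nat.choose ((b ∩ c).card - s.card) (j - s.card) =
      ∑ i ∈ range t, interCountOver B b s i * Nat.choose (i - s.card) (j - s.card) := by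
    have hmaps : ∀ c ∈ ((blocks B).erase b).filter (fun c => s ⊆ c), (b ∩ c).card ∈ range t := by
      intro c hc
      rw [mem_filter, mem_erase, mem_blocks] at hc
      rw [mem_range]
      exact card_inter_lt hB hb hc.1.2 (Ne.symm hc.1.1)
    rw [← Finset.sum_fiberwise_of_maps_to hmaps]
    apply Finset.sum_congr rfl
    intro i _
    have : ∀ c ∈ (((blocks B).erase b).filter (fun c => s ⊆ c)).filter (fun c => (b ∩ c).card = i),
        Nat.choose ((b ∩ c).card - s.card) (j - s.card) = Nat.choose (i - s.card) (j - s.card) := by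
      intro c hc
      rw [mem_filter] at hc
      rw [hc.2]
    rw [Finset.sum_congr rfl this, sum_const, smul_eq_mul]
    rfl
  rw [h3] at h2
  rw [← h2]
  ring

/-- the blocks meeting `b` exactly in `s` -/
theorem ncard_inter_eq {B : Set (Finset α)} {b s : Finset α} (hs : s ⊆ b) (hsb : s ≠ b) :
    {c : Finset α | c ∈ B ∧ b ∩ c = s}.ncard = interCountOver B b s s.card := by
  classical
  have hset : {c : Finset α | c ∈ B ∧ b ∩ c = s} =
      ↑((((blocks B).erase b).filter (fun c => s ⊆ c)).filter (fun c => (b ∩ c).card = s.card)) := by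
    ext c
    rw [Set.mem_ofPred_eq, Finset.mem_coe, mem_filter, mem_filter, mem_erase, mem_blocks]
    constructor
    · rintro ⟨hcB, hbc⟩
      refine ⟨⟨⟨?_, hcB⟩, ?_⟩, by rw [hbc]⟩
      · rintro rfl
        rw [inter_self] at hbc
        exact hsb hbc.symm
      · rw [← hbc]; exact inter_subset_right
    · rintro ⟨⟨⟨_, hcB⟩, hsc⟩, hcard⟩
      refine ⟨hcB, ?_⟩
      exact (eq_of_subset_of_card_le (subset_inter hs hsc) (le_of_eq hcard)).symm
  rw [hset, Set.ncard_coe_finset]
  rfl

end Cfsg.Agent.Lib.Lead.Steiner
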