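import Mathlib
import Cfsg.Agent.Lib.Helper4.SZ
import Cfsg.Agent.Lib.Helper9.SylowConj2
import Cfsg.Agent.Lib.Helper2.Index

set_option autoImplicit false

namespace Cfsg.Agent.Lib.Lead.SylowSolv

universe u

/-- Every prime-power part of `n` is `≡ 1 (mod p)`. -/
def Good (p n : ℕ) : Prop := ∀ ℓ : ℕ, ℓ.Prime → ℓ ^ n.factorization ℓ ≡ 1 [MOD p]

theorem Good.mul {p n m : ℕ} (hn : n ≠ 0) (hm : m ≠ 0) (h1 : Good p n) (h2 : Good p m) :
    Good p (n * m) := by
  intro ℓ hℓ
  rw [Nat.factorization_mul hn hm, Finsupp.add_apply, pow_add]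
  simpa using (h1 ℓ hℓ).mul (h2 ℓ hℓ)

theorem good_prime_pow {p r k : ℕ} (hr : r.Prime) (h : r ^ k ≡ 1 [MOD p]) : Good p (r ^ k) := by
  intro ℓ hℓ
  rw [hr.factorization_pow]
  by_cases hrl : r = ℓ
  · subst hrl; simpa using h
  · rw [Finsupp.single_apply, if_neg hrl, pow_zero]

theorem good_one (p : ℕ) : Good p 1 := by
  intro ℓ _
  simp [Nat.ModEq]

variable {G : Type u} [Group G]

theorem comap_normalizer_mapSurjective [Finite G] (p : ℕ) [Fact p.Prime] (M : Subgroup G)
    [M.Normal] (P : Sylow p G) :
    (Subgroup.normalizer (((P.mapSurjective (QuotientGroup.mk'_surjective M) :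
      Sylow p (G ⧸ M)) : Subgroup (G ⧸ M)) : Set (G ⧸ M))).comap (QuotientGroup.mk' M) =
      Subgroup.normalizer ((P : Subgroup G) : Set G) ⊔ M := by
  apply le_antisymm
  · intro g hg
    rw [Subgroup.mem_comap] at hg
    have h1 : ∀ x ∈ (P : Subgroup G), g * x * g⁻¹ ∈ (P : Subgroup G) ⊔ M := by
      intro x hx
      have h2 : (QuotientGroup.mk' M) (g * x * g⁻¹) ∈
          ((P.mapSurjective (QuotientGroup.mk'_surjective M) : Sylow p (G ⧸ M)) :
            Subgroup (G ⧸ M)) := by
        rw [map_mul, map_mul, map_inv]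
        refine (Subgroup.mem_normalizer_iff.mp hg _).mp ?_
        rw [Sylow.coe_mapSurjective]
        exact Subgroup.mem_map_of_mem _ hx
      rw [Sylow.coe_mapSurjective] at h2
      obtain ⟨y, hy, hyx⟩ := h2
      have h3 : y⁻¹ * (g * x * g⁻¹) ∈ M := by
        rw [← QuotientGroup.eq]; exact hyx
      have h4 : g * x * g⁻¹ = y * (y⁻¹ * (g * x * g⁻¹)) := by group
      rw [h4]
      exact Subgroup.mul_mem_sup hy h3
    obtain ⟨h, hh, hconj⟩ :=
      Cfsg.Agent.Lib.Helper9.exists_conj_mod_normal p P M (P : Subgroup G) le_rfl g h1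
    have h3 : h * g ∈ Subgroup.normalizer ((P : Subgroup G) : Set G) :=
      Subgroup.mem_normalizer_fintype (fun n hn => hconj n hn)
    have h4 : g = h⁻¹ * (h * g) := by group
    rw [h4]
    exact Subgroup.mul_mem _ (Subgroup.mem_sup_right (inv_mem hh)) (Subgroup.mem_sup_left h3)
  · apply sup_le
    · rw [← Subgroup.map_le_iff_le_comap]
      have := Subgroup.le_normalizer_map (H := (P : Subgroup G)) (QuotientGroup.mk' M)
      rwa [← Sylow.coe_mapSurjective (QuotientGroup.mk'_surjective M)] at this
    · intro m hm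
      rw [Subgroup.mem_comap]
      have : (QuotientGroup.mk' M) m = 1 := (QuotientGroup.eq_one_iff m).mpr hm
      rw [this]; exact one_mem _

theorem card_sylow_eq_mul [Finite G] (p : ℕ) [Fact p.Prime] (M : Subgroup G)
    [M.Normal] (P : Sylow p G) :
    Nat.card (Sylow p G) = Nat.card (Sylow p (G ⧸ M)) *
      (Subgroup.normalizer ((P : Subgroup G) : Set G)).relIndex
        (Subgroup.normalizer ((P : Subgroup G) : Set G) ⊔ M) := by
  have e1 : Nat.card (Sylow p G) = (Subgroup.normalizer ((P : Subgroup G) : Set G)).index :=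
    P.card_eq_index_normalizer
  have e2 : Nat.card (Sylow p (G ⧸ M)) = (Subgroup.normalizer
      (((P.mapSurjective (QuotientGroup.mk'_surjective M) : Sylow p (G ⧸ M)) :
        Subgroup (G ⧸ M)) : Set (G ⧸ M))).index :=
    (P.mapSurjective (QuotientGroup.mk'_surjective M)).card_eq_index_normalizer
  rw [e1, e2, ← Subgroup.index_comap_of_surjective _ (QuotientGroup.mk'_surjective M),
    comap_normalizer_mapSurjective, mul_comm]
  exact (Subgroup.relIndex_mul_index le_sup_left).symm

theorem relIndex_normalizer_sup_modEq_one [Finite G] (p : ℕ) [Fact p.Prime] (M : Subgroup G)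
    (P : Sylow p G) :
    (Subgroup.normalizer ((P : Subgroup G) : Set G)).relIndex
        (Subgroup.normalizer ((P : Subgroup G) : Set G) ⊔ M) ≡ 1 [MOD p] := by
  set T := Subgroup.normalizer ((P : Subgroup G) : Set G) ⊔ M with hT
  have hPT : (P : Subgroup G) ≤ T := Subgroup.le_normalizer.trans le_sup_left
  have h1 := card_sylow_modEq_one p T
  have e1 : Nat.card (Sylow p T) = (Subgroup.normalizer
      (((P.subtype hPT : Sylow p T) : Subgroup T) : Set T)).index :=
    (P.subtype hPT).card_eq_index_normalizer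
  rw [e1, Sylow.coe_subtype, ← Subgroup.subgroupOf_normalizer_eq hPT] at h1
  exact h1

theorem good_card_sylow : ∀ (n : ℕ) (G : Type u) [Group G] [Finite G], Nat.card G = n →
    Group.IsSolvable G → ∀ (p : ℕ) [Fact p.Prime], Good p (Nat.card (Sylow p G)) := by
  intro n
  induction n using Nat.strong_induction_on with
  | _ n ih =>
    intro G _ _ hn hsolv p _
    obtain ⟨P⟩ : Nonempty (Sylow p G) := inferInstance
    by_cases htriv : Subsingleton G
    · have h1 : Nat.card (Sylow p G) = 1 := by
        have h2 := (P.card_dvd_index).trans (Subgroup.index_dvd_card _)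
        rw [Nat.card_of_subsingleton (1 : G)] at h2
        exact Nat.dvd_one.mp h2
      rw [h1]; exact good_one p
    · rw [not_subsingleton_iff_nontrivial] at htriv
      have := hsolv
      obtain ⟨r, hr, M, hMn, hMne, hMr⟩ :=
        Cfsg.Agent.Lib.Helper4.exists_normal_pSubgroup_of_solvable (G := G)
      have := hMn
      rw [card_sylow_eq_mul p M P]
      have hrel0 : (Subgroup.normalizer ((P : Subgroup G) : Set G)).relIndex
          (Subgroup.normalizer ((P : Subgroup G) : Set G) ⊔ M) ≠ 0 := by
        intro h0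
        have := relIndex_normalizer_sup_modEq_one p M P
        rw [h0] at this
        have hp := (Fact.out : p.Prime)
        have h3 : p ∣ 1 := (Nat.modEq_zero_iff_dvd.mp this.symm)
        exact hp.one_lt.ne' (Nat.dvd_one.mp h3)
      apply Good.mul (Nat.card_pos.ne') hrel0
      · apply ih (Nat.card (G ⧸ M)) _ (G ⧸ M) rfl inferInstance p
        rw [← hn, ← Subgroup.index_eq_card, ← Subgroup.index_mul_card M]
        have hM1 : 1 < Nat.card M := by
          rw [Subgroup.one_lt_card_iff_ne_bot]; exact hMne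
        have hidx : 0 < M.index := Nat.pos_of_ne_zero (Subgroup.index_ne_zero_of_finite)
        nlinarith
      · have h1 : (Subgroup.normalizer ((P : Subgroup G) : Set G)).relIndex
            (Subgroup.normalizer ((P : Subgroup G) : Set G) ⊔ M) ∣ Nat.card M := by
          rw [Cfsg.Agent.Lib.Helper2.relIndex_sup_of_le_normalizer _ _
            (le_top.trans_eq (Subgroup.normalizer_eq_top (H := M)).symm)]
          exact Subgroup.relIndex_dvd_card _ _
        obtain ⟨j, hj⟩ := hMr.exists_card_eq
        rw [hj] at h1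
        obtain ⟨k, _, hk⟩ := (Nat.dvd_prime_pow hr.out).mp h1
        have h2 := relIndex_normalizer_sup_modEq_one p M P
        rw [hk] at h2 ⊢
        exact good_prime_pow hr.out h2

end Cfsg.Agent.Lib.Lead.SylowSolv
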