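import Mathlib
import Cfsg.Agent.Lib.Lead.SylowSolv
import Cfsg.Agent.Lib.Helper5.SylowLib
import Cfsg.Agent.Lib.Helper7.SylowQuot

set_option autoImplicit false

namespace Cfsg.Agent.Lib.Lead.SylowSolv

universe u

variable {G : Type u} [Group G] [Finite G] (p : ℕ) [Fact p.Prime]

/-- For a subgroup `X` containing the Sylow subgroup `P`: `n_p(X) = |X : N_X(P)|`. -/
theorem card_sylow_subgroup_eq_relIndex (P : Sylow p G) (X : Subgroup G)
    (hPX : (P : Subgroup G) ≤ X) :
    Nat.card (Sylow p X) = (Subgroup.normalizer ((P : Subgroup G) : Set G)).relIndex X := by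
  have e1 : Nat.card (Sylow p X) = (Subgroup.normalizer
      (((P.subtype hPX : Sylow p X) : Subgroup X) : Set X)).index :=
    (P.subtype hPX).card_eq_index_normalizer
  rw [e1, Sylow.coe_subtype, ← Subgroup.subgroupOf_normalizer_eq hPX]
  rfl

/-- For a Sylow subgroup `Q` of a subgroup `K` with image `R` in `G`: `n_p(K) = |K : N_K(R)|`. -/
theorem card_sylow_subgroup_eq_relIndex' (K : Subgroup G) (Q : Sylow p K) (R : Subgroup G)
    (hR : (Q : Subgroup K).map K.subtype = R) :
    Nat.card (Sylow p K) = (Subgroup.normalizer (R : Set G)).relIndex K := by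
  have hRK : R ≤ K := by rw [← hR]; exact Subgroup.map_subtype_le _
  have hQ : (Q : Subgroup K) = R.subgroupOf K := by
    rw [← hR]
    exact (Subgroup.comap_map_eq_self_of_injective K.subtype_injective (Q : Subgroup K)).symm
  have e1 : Nat.card (Sylow p K) = (Subgroup.normalizer
      ((Q : Subgroup K) : Set K)).index := Q.card_eq_index_normalizer
  rw [e1, hQ, ← Subgroup.subgroupOf_normalizer_eq hRK]
  rfl

/-- Factoring out a normal `p`-subgroup does not change the number of Sylow `p`-subgroups. -/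
theorem card_sylow_quotient_pGroup (M : Subgroup G) [M.Normal] (hM : IsPGroup p M) :
    Nat.card (Sylow p (G ⧸ M)) = Nat.card (Sylow p G) := by
  obtain ⟨Q⟩ : Nonempty (Sylow p G) := inferInstance
  have h := card_sylow_eq_mul p M Q
  have hMQ : M ≤ (Q : Subgroup G) := hM.le_sylow_of_normal Q
  have h2 : Subgroup.normalizer ((Q : Subgroup G) : Set G) ⊔ M =
      Subgroup.normalizer ((Q : Subgroup G) : Set G) :=
    sup_eq_left.mpr (hMQ.trans Subgroup.le_normalizer)
  rw [h2, Subgroup.relIndex_self, mul_one] at h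
  exact h.symm

theorem card_sylow_product_formula (K : Subgroup G) [K.Normal] (P : Sylow p G) (N : Subgroup G)
    (hN : N = ((P : Subgroup G) ⊔ K) ⊓
      Subgroup.normalizer (((P : Subgroup G) ⊓ K : Subgroup G) : Set G))
    [hn : (((P : Subgroup G) ⊓ K).subgroupOf N).Normal] :
    Nat.card (Sylow p G) =
      Nat.card (Sylow p (G ⧸ K)) * Nat.card (Sylow p K) *
        Nat.card (Sylow p (N ⧸ ((P : Subgroup G) ⊓ K).subgroupOf N)) := by
  set R : Subgroup G := (P : Subgroup G) ⊓ K with hRdef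
  set NP : Subgroup G := Subgroup.normalizer ((P : Subgroup G) : Set G) with hNPdef
  set NR : Subgroup G := Subgroup.normalizer ((R : Subgroup G) : Set G) with hNRdef
  have hKtop : Subgroup.normalizer ((K : Subgroup G) : Set G) = ⊤ := Subgroup.normalizer_eq_top K
  have hPNP : (P : Subgroup G) ≤ NP := Subgroup.le_normalizer
  have hPNR : (P : Subgroup G) ≤ NR :=
    Cfsg.Agent.Lib.Helper5.sylow_le_normalizer_inf_normal P K
  have hPN : (P : Subgroup G) ≤ N := by rw [hN]; exact le_inf le_sup_left hPNR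
  have hNNR : N ≤ NR := by rw [hN]; exact inf_le_right
  have hKP_NR : NP ⊓ K ≤ NR := by
    refine le_trans ?_ Subgroup.inf_normalizer_le_normalizer_inf
    rw [hKtop]
    exact le_inf inf_le_left le_top
  have hKP_KR : NP ⊓ K ≤ NR ⊓ K := le_inf hKP_NR inf_le_right
  have hKR_N : NR ⊓ K ≤ N := by
    rw [hN]; exact le_inf (inf_le_right.trans le_sup_right) inf_le_left
  -- step 1
  have s1 := card_sylow_eq_mul p K P
  -- step 2
  have s2 : NP.relIndex (NP ⊔ K) = (NP ⊓ K).relIndex K := by
    rw [Cfsg.Agent.Lib.Helper7.relIndex_sup_of_normal NP K, Subgroup.inf_relIndex_right]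
  -- step 3
  have s3 : (NP ⊓ K).relIndex K = (NP ⊓ K).relIndex (NR ⊓ K) * (NR ⊓ K).relIndex K :=
    (Subgroup.relIndex_mul_relIndex _ _ _ hKP_KR inf_le_right).symm
  -- step 4
  have s4 : (NR ⊓ K).relIndex K = Nat.card (Sylow p K) := by
    obtain ⟨Q, hQ⟩ := Cfsg.Agent.Lib.Helper5.exists_sylow_inf_normal P K
    rw [Subgroup.inf_relIndex_right, card_sylow_subgroup_eq_relIndex' p K Q R hQ]
  -- step 5
  have hRp : IsPGroup p (R.subgroupOf N) :=
    (P.isPGroup'.to_inf_left).comap_of_injective N.subtype N.subtype_injective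
  have s5 : Nat.card (Sylow p (N ⧸ R.subgroupOf N)) = NP.relIndex N := by
    rw [card_sylow_quotient_pGroup p (R.subgroupOf N) hRp,
      card_sylow_subgroup_eq_relIndex p P N hPN]
  have hsup : N = (NP ⊓ N) ⊔ (NR ⊓ K) := by
    apply le_antisymm
    · intro n hn'
      have hn1 : n ∈ (P : Subgroup G) ⊔ K := by
        rw [hN] at hn'; exact hn'.1
      have hn2 : n ∈ NR := hNNR hn'
      rw [Subgroup.mem_sup_of_normal_right] at hn1
      obtain ⟨x, hx, k, hk, rfl⟩ := hn1
      have hkNR : k ∈ NR := by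
        have : k = x⁻¹ * (x * k) := by group
        rw [this]
        exact Subgroup.mul_mem _ (Subgroup.inv_mem _ (hPNR hx)) hn2
      exact Subgroup.mul_mem _ (Subgroup.mem_sup_left ⟨hPNP hx, hPN hx⟩)
        (Subgroup.mem_sup_right ⟨hkNR, hk⟩)
    · exact sup_le inf_le_right hKR_N
  have hnorm : NP ⊓ N ≤ Subgroup.normalizer (((NR ⊓ K : Subgroup G)) : Set G) := by
    refine le_trans ?_ Subgroup.inf_normalizer_le_normalizer_inf
    rw [hKtop]
    exact le_inf ((inf_le_right.trans hNNR).trans Subgroup.le_normalizer) le_top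
  have hinf : (NP ⊓ N) ⊓ (NR ⊓ K) = NP ⊓ K := by
    apply le_antisymm
    · exact le_inf (inf_le_left.trans inf_le_left) (inf_le_right.trans inf_le_right)
    · exact le_inf (le_inf inf_le_left (hKP_KR.trans hKR_N)) hKP_KR
  have s6 : NP.relIndex N = (NP ⊓ K).relIndex (NR ⊓ K) := by
    have h1 : (NP ⊓ N).relIndex N = (NP ⊓ N).relIndex ((NP ⊓ N) ⊔ (NR ⊓ K)) := by
      rw [← hsup]
    rw [← Subgroup.inf_relIndex_right NP N, h1,
      Cfsg.Agent.Lib.Helper2.relIndex_sup_of_le_normalizer _ _ hnorm,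
      ← Subgroup.inf_relIndex_right, hinf]
  rw [s1, s2, s3, s4, s5, s6]
  ring

end Cfsg.Agent.Lib.Lead.SylowSolv
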