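import Mathlib
import Cfsg.Agent.Lib.Lead.SylowProd
import Cfsg.Agent.S0025

set_option autoImplicit false

namespace Cfsg.Agent.Lib.Lead.SylowSolv

universe u

theorem card_mul_relIndex' {X : Type*} [Group X] {H K : Subgroup X} (h : H ≤ K) :
    Nat.card H * H.relIndex K = Nat.card K := by
  have h1 := Subgroup.relIndex_mul_relIndex ⊥ H K bot_le h
  rwa [Subgroup.relIndex_bot_left, Subgroup.relIndex_bot_left] at h1

variable {G : Type u} [Group G] [Finite G] (p : ℕ) [Fact p.Prime]

/-- If `G` has a normal `p`-complement `H`, every prime power part of `n_p(G)` is `≡ 1 (mod p)`. -/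
theorem good_card_sylow_of_normal_complement (H : Subgroup G) [H.Normal] (P : Sylow p G)
    (hcop : (Nat.card (P : Subgroup G)).Coprime (Nat.card H))
    (hsup : (P : Subgroup G) ⊔ H = ⊤) : Good p (Nat.card (Sylow p G)) := by
  set NP : Subgroup G := Subgroup.normalizer ((P : Subgroup G) : Set G) with hNPdef
  set C : Subgroup G := NP ⊓ H with hCdef
  have hPNP : (P : Subgroup G) ≤ NP := Subgroup.le_normalizer
  have hCH : C ≤ H := inf_le_right
  have hpH : ¬ p ∣ Nat.card H := by
    intro hdvd
    have hP1 : Nat.card (P : Subgroup G) ≠ 1 := by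
      intro h1
      have : p ∣ Nat.card G := hdvd.trans (Subgroup.card_subgroup_dvd_card H)
      have h2 := P.card_eq_multiplicity
      rw [h1] at h2
      have h3 : (Nat.card G).factorization p = 0 := by
        by_contra h0
        have : 1 < p ^ (Nat.card G).factorization p :=
          Nat.one_lt_pow h0 (Fact.out : p.Prime).one_lt
        omega
      have h4 := (Nat.factorization_eq_zero_iff _ _).mp h3
      rcases h4 with h4 | h4 | h4
      · exact h4 (Fact.out : p.Prime)
      · exact h4 this
      · exact (Nat.card_pos (α := G)).ne' h4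
    obtain ⟨k, hk⟩ := P.isPGroup'.exists_card_eq
    rw [hk] at hcop hP1
    have hk0 : k ≠ 0 := by rintro rfl; exact hP1 (pow_zero p)
    have h5 : p ∣ Nat.gcd (p ^ k) (Nat.card H) := Nat.dvd_gcd (dvd_pow_self p hk0) hdvd
    rw [hcop] at h5
    exact (Fact.out : p.Prime).one_lt.ne' (Nat.dvd_one.mp h5)
  -- n_p(G) = |H : C|
  have h1 : Nat.card (Sylow p G) = C.relIndex H := by
    have e1 : Nat.card (Sylow p G) = NP.index := P.card_eq_index_normalizer
    have e2 : NP ⊔ H = ⊤ := by
      apply le_antisymm le_top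
      rw [← hsup]
      exact sup_le_sup_right hPNP H
    rw [e1, ← Subgroup.relIndex_top_right, ← e2,
      Cfsg.Agent.Lib.Helper7.relIndex_sup_of_normal NP H, ← Subgroup.inf_relIndex_right]
  have hCrel : Nat.card C * C.relIndex H = Nat.card H := card_mul_relIndex' hCH
  have hrel0 : C.relIndex H ≠ 0 := by
    intro h0; rw [h0, mul_zero] at hCrel
    exact (Nat.card_pos (α := H)).ne' hCrel.symm
  intro ℓ hℓ
  rw [h1]
  by_cases hℓp : ℓ = p
  · subst hℓp
    have hnd : ¬ ℓ ∣ C.relIndex H := fun hd => hpH (hd.trans (Dvd.intro_left _ hCrel))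
    rw [Nat.factorization_eq_zero_of_not_dvd hnd, pow_zero]
  · have : Fact ℓ.Prime := ⟨hℓ⟩
    -- P centralizes C
    have hPH : (P : Subgroup G) ⊓ H = ⊥ := (Subgroup.disjoint_of_coprime_natCard hcop).eq_bot
    have hcent : ∀ x ∈ (P : Subgroup G), ∀ c ∈ C, x * c * x⁻¹ = c := by
      intro x hx c hc
      have hcNP : c ∈ NP := hc.1
      have hcH : c ∈ H := hc.2
      have h2 : x * c * x⁻¹ * c⁻¹ ∈ (P : Subgroup G) ⊓ H := by
        rw [Subgroup.mem_inf]
        constructor
        · have h3 : c * x⁻¹ * c⁻¹ ∈ (P : Subgroup G) :=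
            (Subgroup.mem_normalizer_iff.mp hcNP x⁻¹).mp (inv_mem hx)
          have h4 : x * c * x⁻¹ * c⁻¹ = x * (c * x⁻¹ * c⁻¹) := by group
          rw [h4]; exact Subgroup.mul_mem _ hx h3
        · have h3 : x * c * x⁻¹ ∈ H := Subgroup.Normal.conj_mem inferInstance c hcH x
          exact H.mul_mem h3 (H.inv_mem hcH)
      rw [hPH, Subgroup.mem_bot] at h2
      have h5 : x * c * x⁻¹ = (x * c * x⁻¹ * c⁻¹) * c := by group
      rw [h5, h2, one_mul]
    obtain ⟨Cq⟩ : Nonempty (Sylow ℓ C) := inferInstance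
    set Cq' : Subgroup G := (Cq : Subgroup C).map C.subtype with hCq'
    have hCq'C : Cq' ≤ C := Subgroup.map_subtype_le _
    have hCq'ℓ : IsPGroup ℓ Cq' := Cq.isPGroup'.map _
    have hPCq : (P : Subgroup G) ≤ Subgroup.normalizer (Cq' : Set G) := by
      rw [Subgroup.le_normalizer_iff]
      intro x hx y hy
      rw [hcent x hx y (hCq'C hy)]; exact hy
    have hPsolv : Group.IsSolvable (P : Subgroup G) := by
      have := P.isPGroup'.isNilpotent
      infer_instance
    obtain ⟨Q, hCqQ, hPQ⟩ := Cfsg.Agent.S0025.result (P : Subgroup G) H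
      (le_top.trans_eq (Subgroup.normalizer_eq_top H).symm) hcop (Or.inl hPsolv) ℓ Cq'
      (hCq'C.trans hCH) hCq'ℓ hPCq
    set Q' : Subgroup G := (Q : Subgroup H).map H.subtype with hQ'
    have hQ'H : Q' ≤ H := Subgroup.map_subtype_le _
    have hQ'ℓ : IsPGroup ℓ Q' := Q.isPGroup'.map _
    set Y : Subgroup G := (P : Subgroup G) ⊔ Q' with hY
    have hPY : (P : Subgroup G) ≤ Y := le_sup_left
    have hQY : Q' ≤ Y := le_sup_right
    have hmod := card_sylow_modEq_one p Y
    rw [card_sylow_subgroup_eq_relIndex p P Y hPY, ← Subgroup.inf_relIndex_right] at hmod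
    set X : Subgroup G := NP ⊓ Y with hX
    have hXQ : X ⊔ Q' = Y := by
      apply le_antisymm (sup_le inf_le_right hQY)
      exact sup_le ((le_inf hPNP hPY).trans le_sup_left) le_sup_right
    have hXnorm : X ≤ Subgroup.normalizer (Q' : Set G) :=
      inf_le_right.trans (sup_le hPQ Subgroup.le_normalizer)
    have hXinf : X ⊓ Q' = NP ⊓ Q' := by
      apply le_antisymm (le_inf (inf_le_left.trans inf_le_left) inf_le_right)
      exact le_inf (le_inf inf_le_left (inf_le_right.trans hQY)) inf_le_right
    have e3 : X.relIndex Y = (NP ⊓ Q').relIndex Q' := by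
      have : X.relIndex Y = X.relIndex (X ⊔ Q') := by rw [hXQ]
      rw [this, Cfsg.Agent.Lib.Helper2.relIndex_sup_of_le_normalizer _ _ hXnorm,
        ← Subgroup.inf_relIndex_right, hXinf]
    rw [e3] at hmod
    -- identify NP ⊓ Q' with Cq'
    set D : Subgroup G := NP ⊓ Q' with hD
    have hDC : D ≤ C := le_inf inf_le_left (inf_le_right.trans hQ'H)
    have hCqD : Cq' ≤ D := le_inf (hCq'C.trans inf_le_left) hCqQ
    have hDℓ : IsPGroup ℓ D := hQ'ℓ.to_le inf_le_right
    have hDeq : D = Cq' := by
      have hD' : IsPGroup ℓ (D.subgroupOf C) :=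
        hDℓ.comap_of_injective C.subtype C.subtype_injective
      have hle : (Cq : Subgroup C) ≤ D.subgroupOf C := by
        intro c hc
        rw [Subgroup.mem_subgroupOf]
        exact hCqD ⟨c, hc, rfl⟩
      have := Cq.is_maximal' hD' hle
      rw [hCq', ← this, Subgroup.map_subgroupOf_eq_of_le hDC]
    -- cardinalities
    have hcardQ : Nat.card Q' = ℓ ^ (Nat.card H).factorization ℓ := by
      rw [hQ', Subgroup.card_map_of_injective H.subtype_injective]
      exact Q.card_eq_multiplicity
    have hcardD : Nat.card D = ℓ ^ (Nat.card C).factorization ℓ := by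
      rw [hDeq, hCq', Subgroup.card_map_of_injective C.subtype_injective]
      exact Cq.card_eq_multiplicity
    have hDrel : Nat.card D * D.relIndex Q' = Nat.card Q' := card_mul_relIndex' inf_le_right
    have hfac : (Nat.card H).factorization ℓ =
        (Nat.card C).factorization ℓ + (C.relIndex H).factorization ℓ := by
      rw [← hCrel, Nat.factorization_mul (Nat.card_pos (α := C)).ne' hrel0]
      rfl
    have e4 : D.relIndex Q' = ℓ ^ (C.relIndex H).factorization ℓ := by
      rw [hcardQ, hcardD, hfac, pow_add] at hDrel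
      exact Nat.eq_of_mul_eq_mul_left (pow_pos hℓ.pos _) hDrel
    rw [← e4]
    exact hmod

/-- A number all of whose prime-power parts are `≡ 1 (mod p)` is a product of such prime powers. -/
theorem exists_list_of_good {m : ℕ} (hm : m ≠ 0) (h : Good p m) :
    ∃ l : List ℕ, l.prod = m ∧ ∀ x ∈ l, IsPrimePow x ∧ x % p = 1 := by
  refine ⟨m.primeFactors.toList.map (fun q => q ^ m.factorization q), ?_, ?_⟩
  · rw [Finset.prod_map_toList]
    exact (Nat.prod_primeFactors_pow_factorization hm).symm
  · intro x hx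
    rw [List.mem_map] at hx
    obtain ⟨q, hq, rfl⟩ := hx
    rw [Finset.mem_toList] at hq
    have hqp : q.Prime := Nat.prime_of_mem_primeFactors hq
    have hqd : q ∣ m := Nat.dvd_of_mem_primeFactors hq
    have hpos : 0 < m.factorization q := hqp.factorization_pos_of_dvd hm hqd
    refine ⟨hqp.isPrimePow.pow hpos.ne', ?_⟩
    have := h q hqp
    rw [Nat.ModEq, Nat.mod_eq_of_lt (Fact.out : p.Prime).one_lt] at this
    exact this

end Cfsg.Agent.Lib.Lead.SylowSolv
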