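import Mathlib
import Cfsg.Agent.Lib.Lead.SylowHall

set_option autoImplicit false

namespace Cfsg.Agent.Lib.Lead.SylowSolv

universe u

/-- An admissible factor in M. Hall's theorem on Sylow numbers. -/
def HallFactor (p m : ℕ) : Prop :=
  (IsPrimePow m ∧ m % p = 1) ∨
    ∃ (S : Type u) (_ : Group S) (_ : Finite S), IsSimpleGroup S ∧ m = Nat.card (Sylow p S)

def HallProd (p n : ℕ) : Prop :=
  ∃ l : List ℕ, l.prod = n ∧ ∀ m ∈ l, HallFactor.{u} p m

theorem HallProd.mul {p a b : ℕ} (ha : HallProd.{u} p a) (hb : HallProd.{u} p b) :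
    HallProd.{u} p (a * b) := by
  obtain ⟨l1, h1, h1'⟩ := ha
  obtain ⟨l2, h2, h2'⟩ := hb
  refine ⟨l1 ++ l2, by rw [List.prod_append, h1, h2], ?_⟩
  intro m hm
  rcases List.mem_append.mp hm with h | h
  · exact h1' m h
  · exact h2' m h

theorem hallProd_one (p : ℕ) : HallProd.{u} p 1 := ⟨[], rfl, fun m hm => by simp at hm⟩

theorem card_lt_of_ne_top {X : Type*} [Group X] [Finite X] {H : Subgroup X} (h : H ≠ ⊤) :
    Nat.card H < Nat.card X := by
  have h1 := H.card_mul_index
  have h2 : H.index ≠ 1 := fun h' => h (Subgroup.index_eq_one.mp h')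
  have h3 : H.index ≠ 0 := Subgroup.index_ne_zero_of_finite
  have h4 : 0 < Nat.card H := Nat.card_pos
  have h5 : 2 ≤ H.index := by omega
  nlinarith

theorem card_quotient_lt_of_ne_bot {X : Type*} [Group X] [Finite X] {H : Subgroup X} [H.Normal]
    (h : H ≠ ⊥) : Nat.card (X ⧸ H) < Nat.card X := by
  rw [← Subgroup.index_eq_card, ← Subgroup.index_mul_card H]
  have hM1 : 1 < Nat.card H := by
    rw [Subgroup.one_lt_card_iff_ne_bot]; exact h
  have hidx : 0 < H.index := Nat.pos_of_ne_zero (Subgroup.index_ne_zero_of_finite)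
  nlinarith

theorem hall_sylow_number : ∀ (n : ℕ) (G : Type u) [Group G] [Finite G], Nat.card G = n →
    ∀ (p : ℕ) [Fact p.Prime], HallProd.{u} p (Nat.card (Sylow p G)) := by
  intro n
  induction n using Nat.strong_induction_on with
  | _ n ih =>
    intro G _ _ hn p _
    obtain ⟨P⟩ : Nonempty (Sylow p G) := inferInstance
    by_cases htriv : Subsingleton G
    · have h1 : Nat.card (Sylow p G) = 1 := by
        have h2 := (P.card_dvd_index).trans (Subgroup.index_dvd_card _)
        rw [Nat.card_of_subsingleton (1 : G)] at h2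
        exact Nat.dvd_one.mp h2
      rw [h1]; exact hallProd_one p
    rw [not_subsingleton_iff_nontrivial] at htriv
    by_cases hs : IsSimpleGroup G
    · exact ⟨[Nat.card (Sylow p G)], by simp, fun m hm =>
        Or.inr ⟨G, inferInstance, inferInstance, hs, by simpa using hm⟩⟩
    have hK : ∃ K : Subgroup G, K.Normal ∧ K ≠ ⊥ ∧ K ≠ ⊤ := by
      by_contra hcon
      apply hs
      refine { toNontrivial := htriv, eq_bot_or_eq_top_of_normal := ?_ }
      intro K hKn
      by_contra h2
      push Not at h2
      exact hcon ⟨K, hKn, h2.1, h2.2⟩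
    obtain ⟨K, hKn, hKbot, hKtop⟩ := hK
    have := hKn
    by_cases hdeg : (P : Subgroup G) ⊓ K = ⊥ ∧ (P : Subgroup G) ⊔ K = ⊤
    · -- normal p-complement
      obtain ⟨hinf, hsup⟩ := hdeg
      have hcard := Cfsg.Agent.Lib.Helper2.card_sup_mul_card_inf (P : Subgroup G) K
        (le_top.trans_eq (Subgroup.normalizer_eq_top K).symm)
      rw [hinf, hsup, Subgroup.card_bot, mul_one, Subgroup.card_top] at hcard
      have hidx : Nat.card K = (P : Subgroup G).index := by
        have h1 := (P : Subgroup G).card_mul_index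
        rw [hcard] at h1
        exact (Nat.eq_of_mul_eq_mul_left Nat.card_pos h1).symm
      have hpK : ¬ p ∣ Nat.card K := by rw [hidx]; exact P.not_dvd_index
      have hcop : (Nat.card (P : Subgroup G)).Coprime (Nat.card K) := by
        obtain ⟨k, hk⟩ := P.isPGroup'.exists_card_eq
        rw [hk]
        exact Nat.Coprime.pow_left k ((Nat.Prime.coprime_iff_not_dvd Fact.out).mpr hpK)
      have hgood := good_card_sylow_of_normal_complement p K P hcop hsup
      obtain ⟨l, hl, hl'⟩ := exists_list_of_good p (Nat.card_pos (α := Sylow p G)).ne' hgood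
      exact ⟨l, hl, fun m hm => Or.inl (hl' m hm)⟩
    · -- product formula
      set R : Subgroup G := (P : Subgroup G) ⊓ K with hRdef
      set N : Subgroup G := ((P : Subgroup G) ⊔ K) ⊓ Subgroup.normalizer ((R : Subgroup G) : Set G)
        with hNdef
      have hPNR : (P : Subgroup G) ≤ Subgroup.normalizer ((R : Subgroup G) : Set G) :=
        Cfsg.Agent.Lib.Helper5.sylow_le_normalizer_inf_normal P K
      have hRN : R ≤ N := le_inf (inf_le_left.trans le_sup_left) (inf_le_left.trans hPNR)
      have hnorm : (R.subgroupOf N).Normal :=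
        (Subgroup.normal_subgroupOf_iff_le_normalizer hRN).mpr inf_le_right
      have hprod := card_sylow_product_formula p K P N hNdef
      rw [hprod]
      have ih1 : HallProd.{u} p (Nat.card (Sylow p (G ⧸ K))) :=
        ih (Nat.card (G ⧸ K)) (by rw [← hn]; exact card_quotient_lt_of_ne_bot hKbot) (G ⧸ K) rfl p
      have ih2 : HallProd.{u} p (Nat.card (Sylow p K)) :=
        ih (Nat.card K) (by rw [← hn]; exact card_lt_of_ne_top hKtop) K rfl p
      have hTlt : Nat.card (N ⧸ R.subgroupOf N) < n := by
        rw [← hn, ← Subgroup.index_eq_card]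
        have h1 : Nat.card R * R.relIndex N = Nat.card N := card_mul_relIndex' hRN
        have h2 : (R.subgroupOf N).index = R.relIndex N := rfl
        rw [h2]
        have hNG : Nat.card N ≤ Nat.card G := Subgroup.card_le_card_group N
        have hRpos : 0 < Nat.card R := Nat.card_pos
        have hrelpos : 0 < R.relIndex N := by
          rcases Nat.eq_zero_or_pos (R.relIndex N) with h0 | h0
          · rw [h0, mul_zero] at h1
            exact absurd h1.symm (Nat.card_pos (α := N)).ne'
          · exact h0
        by_cases hR : R = ⊥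
        · have hsupne : (P : Subgroup G) ⊔ K ≠ ⊤ := fun h => hdeg ⟨hR, h⟩
          have h3 : Nat.card ((P : Subgroup G) ⊔ K : Subgroup G) < Nat.card G :=
            card_lt_of_ne_top hsupne
          have h4 : Nat.card N ≤ Nat.card ((P : Subgroup G) ⊔ K : Subgroup G) :=
            Subgroup.card_le_of_le inf_le_left
          nlinarith
        · have h3 : 1 < Nat.card R := by
            rw [Subgroup.one_lt_card_iff_ne_bot]; exact hR
          nlinarith
      have ih3 : HallProd.{u} p (Nat.card (Sylow p (N ⧸ R.subgroupOf N))) :=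
        ih _ hTlt (N ⧸ R.subgroupOf N) rfl p
      exact (ih1.mul ih2).mul ih3

end Cfsg.Agent.Lib.Lead.SylowSolv
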