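import Mathlib
import Cfsg.Agent.Lib.Helper1.Class2

set_option autoImplicit false

namespace Cfsg.Agent.Lib.Lead.Heis

open scoped commutatorElement

/-- A cyclic group whose order divides `n` is an image of `ℤ/n`. -/
theorem exists_surj_of_cyclic_card_dvd {K : Type*} [Group K] [Finite K] (hc : IsCyclic K) {n : ℕ}
    [NeZero n] (hd : Nat.card K ∣ n) :
    ∃ π : Multiplicative (ZMod n) →* K, Function.Surjective π := by
  have e := zmodCyclicMulEquiv hc
  have : NeZero (Nat.card K) := ⟨Nat.card_pos.ne'⟩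
  let f : Multiplicative (ZMod n) →* Multiplicative (ZMod (Nat.card K)) :=
    AddMonoidHom.toMultiplicative (ZMod.castHom hd (ZMod (Nat.card K))).toAddMonoidHom
  have hf : Function.Surjective f := by
    intro y
    obtain ⟨x, hx⟩ := ZMod.castHom_surjective hd (Multiplicative.toAdd y)
    exact ⟨Multiplicative.ofAdd x, by
      show Multiplicative.ofAdd ((ZMod.castHom hd (ZMod (Nat.card K))) x) = y
      rw [hx]; rfl⟩
  exact ⟨e.toMonoidHom.comp f, e.surjective.comp hf⟩

/-- In a central extension of an abelian group generated by the images of `r` and `s`, the commutator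
subgroup is generated by `⁅r, s⁆`. -/
theorem commutator_le_zpowers_of_two_gen {Γ Q : Type*} [Group Γ] [CommGroup Q] (σ : Γ →* Q)
    (hcen : σ.ker ≤ Subgroup.center Γ) (r s : Γ)
    (hgen : Subgroup.closure {σ r, σ s} = ⊤) :
    commutator Γ ≤ Subgroup.zpowers ⁅r, s⁆ := by
  set c := ⁅r, s⁆ with hc
  have hck : c ∈ σ.ker := by
    rw [MonoidHom.mem_ker, hc, map_commutatorElement, commutatorElement_eq_one_iff_commute]
    exact Commute.all _ _
  have hcc : c ∈ Subgroup.center Γ := hcen hck
  set C := Subgroup.zpowers c with hC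
  have hCcen : C ≤ Subgroup.center Γ := Subgroup.zpowers_le.mpr hcc
  have hCn : C.Normal := ⟨fun x hx g => by
    have := Subgroup.mem_center_iff.mp (hCcen hx) g
    rw [this, mul_assoc, mul_inv_cancel, mul_one]; exact hx⟩
  -- generating set of `Γ`
  set T : Set Γ := {r, s} ∪ (σ.ker : Set Γ) with hT
  have hTcomm : ∀ g₁ ∈ T, ∀ g₂ ∈ T, ⁅g₁, g₂⁆ ∈ C := by
    have hz : ∀ z ∈ σ.ker, ∀ g : Γ, ⁅z, g⁆ = 1 ∧ ⁅g, z⁆ = 1 := by
      intro z hz g
      have h1 := Subgroup.mem_center_iff.mp (hcen hz) g
      constructor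
      · rw [commutatorElement_eq_one_iff_commute]; exact h1.symm
      · rw [commutatorElement_eq_one_iff_commute]; exact h1
    intro g₁ h₁ g₂ h₂
    rcases h₁ with h₁ | h₁
    · rcases h₂ with h₂ | h₂
      · rcases h₁ with rfl | h₁
        · rcases h₂ with rfl | h₂
          · rw [commutatorElement_self]; exact C.one_mem
          · rw [Set.mem_singleton_iff] at h₂; subst h₂
            exact Subgroup.mem_zpowers _
        · rw [Set.mem_singleton_iff] at h₁; subst h₁
          rcases h₂ with rfl | h₂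
          · rw [← commutatorElement_inv]
            exact C.inv_mem (Subgroup.mem_zpowers _)
          · rw [Set.mem_singleton_iff] at h₂; subst h₂
            rw [commutatorElement_self]; exact C.one_mem
      · rw [(hz g₂ h₂ g₁).2]; exact C.one_mem
    · rw [(hz g₁ h₁ g₂).1]; exact C.one_mem
  have hTgen : Subgroup.closure T = ⊤ := by
    rw [Subgroup.eq_top_iff']
    intro g
    have h1 : σ g ∈ Subgroup.closure {σ r, σ s} := by rw [hgen]; exact Subgroup.mem_top _
    rw [← Set.image_pair, ← MonoidHom.map_closure] at h1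
    obtain ⟨w, hw, hwg⟩ := h1
    have h2 : w⁻¹ * g ∈ σ.ker := by
      rw [MonoidHom.mem_ker, map_mul, map_inv, hwg, inv_mul_cancel]
    have h3 : g = w * (w⁻¹ * g) := by group
    rw [h3]
    refine Subgroup.mul_mem _ ?_ ?_
    · exact Subgroup.closure_mono Set.subset_union_left hw
    · exact Subgroup.subset_closure (Set.mem_union_right _ h2)
  -- the quotient by `C` is commutative
  have hS : ∀ x ∈ (QuotientGroup.mk' C) '' T, ∀ y ∈ (QuotientGroup.mk' C) '' T, x * y = y * x := by
    rintro _ ⟨g₁, h₁, rfl⟩ _ ⟨g₂, h₂, rfl⟩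
    have h1 : ⁅g₁, g₂⁆ ∈ C := hTcomm g₁ h₁ g₂ h₂
    have h2 : (QuotientGroup.mk' C) ⁅g₁, g₂⁆ = 1 := (QuotientGroup.eq_one_iff _).mpr h1
    rw [map_commutatorElement, commutatorElement_eq_one_iff_commute] at h2
    exact h2
  have hSgen : Subgroup.closure ((QuotientGroup.mk' C) '' T) = ⊤ := by
    rw [← MonoidHom.map_closure, hTgen, ← MonoidHom.range_eq_map,
      MonoidHom.range_eq_top.mpr (QuotientGroup.mk'_surjective C)]
  have hcommQ : ∀ x y : Γ ⧸ C, x * y = y * x := by
    intro x y
    have hx : x ∈ Subgroup.closure ((QuotientGroup.mk' C) '' T) := by rw [hSgen]; trivial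
    have hy : y ∈ Subgroup.closure ((QuotientGroup.mk' C) '' T) := by rw [hSgen]; trivial
    letI := Subgroup.closureCommGroupOfComm hS
    have := mul_comm (⟨x, hx⟩ : Subgroup.closure ((QuotientGroup.mk' C) '' T)) ⟨y, hy⟩
    exact congrArg Subtype.val this
  rw [commutator_def, Subgroup.commutator_le]
  intro a _ b _
  rw [← QuotientGroup.eq_one_iff, ← QuotientGroup.mk'_apply, map_commutatorElement,
    commutatorElement_eq_one_iff_commute]
  exact hcommQ _ _

end Cfsg.Agent.Lib.Lead.Heis
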